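import Groth.Agent.H18Et.Cons.Compact

/-!
# Torsion sheaves are filtered colimits of constructible sheaves
-/

set_option backward.isDefEq.respectTransparency false
set_option backward.isDefEq.respectTransparency.types false

universe u

open CategoryTheory CategoryTheory.Limits AlgebraicGeometry Opposite Topology

namespace Groth.Agent.H18Et.Cons

open scoped Groth.Agent.H18Et

variable {X : Scheme.{u}}

/-- A neighbourhood contains an affine one. -/
theorem exists_affine_nbhd {Ω : Type u} [Field Ω] [IsSepClosed Ω] {ξ : Spec (CommRingCat.of Ω) ⟶ X}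
    {W : X.Etale} (w : (Scheme.pointSmallEtale ξ).fiber.obj W) :
    ∃ (P : X.Etale) (_ : IsAffine P.left) (i : P ⟶ W) (z : (Scheme.pointSmallEtale ξ).fiber.obj P),
      (Scheme.pointSmallEtale ξ).fiber.map i z = w := by
  obtain ⟨B, hB, hwB, -⟩ := exists_isAffineOpen_mem_and_subset (X := W.left) (x := ptOf w) (U := ⊤) trivial
  haveI : Etale W.hom := W.prop
  let P : X.Etale := MorphismProperty.Over.mk ⊤ (B.ι ≫ W.hom) (inferInstanceAs (Etale _))
  let i : P ⟶ W := MorphismProperty.Over.homMk B.ι rfl trivial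
  obtain ⟨z, hz, -⟩ := LC.exists_fiber_map i w (⟨ptOf w, hwB⟩ : B.toScheme) rfl
  exact ⟨P, hB, i, z, hz⟩

variable (X) in
/-- A finite presentation by sums of `j_! ℤ/n`. -/
structure Pres : Type (u + 1) where
  n : ℕ
  a : ℕ
  b : ℕ
  V : Fin a → X.Etale
  U : Fin b → X.Etale
  φ : (⨁ fun j => EtPBC.extZeroConst (V j) (ZMod n)) ⟶ ⨁ fun i => EtPBC.extZeroConst (U i) (ZMod n)

/-- The sheaf presented. -/
noncomputable def Pres.sh (P : Pres X) : EtCoh.Ab X := cokernel P.φ

variable (F : EtCoh.Ab X) (Q : EtCoh.Ab X → Prop)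

/-- Presented constructible sheaves satisfying `Q`, mapping to `F`. -/
structure Idx : Type (u + 1) where
  P : Pres X
  f : P.sh ⟶ F
  isConstructible : EtPBC.IsConstructible P.sh
  prop : Q P.sh

/-- The object of `Over F` of an index. -/
noncomputable def toOver (i : Idx F Q) : Over F := Over.mk i.f

/-- The indexing category. -/
abbrev IdxCat : Type (u + 1) := InducedCategory (Over F) (toOver F Q)

/-- The diagram. -/
noncomputable abbrev idxDiagram : IdxCat F Q ⥤ EtCoh.Ab X := inducedFunctor (toOver F Q) ⋙ Over.forget F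

/-- The tautological cocone. -/
noncomputable def idxCocone : Cocone (idxDiagram F Q) where
  pt := F
  ι :=
    { app := fun i => Idx.f (F := F) (Q := Q) i
      naturality := fun i k g => (Over.w g.hom).trans (Category.comp_id _).symm }

theorem isConstructible_zero' : EtPBC.IsConstructible (⨁ (Fin.elim0 : Fin 0 → EtCoh.Ab X)) :=
  isConstructible_biproduct _ (fun i => i.elim0)

variable {F Q} [CompactSpace X] [QuasiSeparatedSpace X]
  (hQ0 : ∀ C, IsZero C → Q C)
  (hQ2 : ∀ A B, EtPBC.IsConstructible A → EtPBC.IsConstructible B → Q A → Q B → Q (A ⊞ B))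
  (hQe : ∀ {A B : EtCoh.Ab X} (g : A ⟶ B) [Epi g], EtPBC.IsConstructible A → Q A → Q B)
  (himg : ∀ {C : EtCoh.Ab X} (f : C ⟶ F), EtPBC.IsConstructible C →
    ∃ (C' : EtCoh.Ab X) (g : C ⟶ C') (q : C' ⟶ F), EtPBC.IsConstructible C' ∧ Q C' ∧ g ≫ q = f)

include hQe in
theorem exists_idx {C : EtCoh.Ab X} (hC : EtPBC.IsConstructible C) (hQ : Q C) (f : C ⟶ F) :
    ∃ (i : IdxCat F Q) (e : C ≅ (idxDiagram F Q).obj i), e.hom ≫ (idxCocone F Q).ι.app i = f := by
  obtain ⟨n, _, hn⟩ := exists_killedBy C hC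
  obtain ⟨a, b, V, U, hV, hU, φ, ⟨e⟩⟩ := exists_presentation C hC n hn
  exact ⟨(⟨⟨n, a, b, V, U, φ⟩, e.inv ≫ f, isConstructible_of_iso e hC, hQe e.hom hC hQ⟩ : Idx F Q), e,
    e.hom_inv_id_assoc f⟩

include hQ0 hQ2 hQe in
theorem isFiltered_idxCat : IsFiltered (IdxCat F Q) := by
  haveI : IsFilteredOrEmpty (IdxCat F Q) := by
    refine ⟨fun i k => ?_, fun i k g h => ?_⟩
    · obtain ⟨l, e, he⟩ := exists_idx hQe (isConstructible_biprod _ _ (Idx.isConstructible i) (Idx.isConstructible k))
        (hQ2 _ _ (Idx.isConstructible i) (Idx.isConstructible k) (Idx.prop i) (Idx.prop k))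
        (biprod.desc ((idxCocone F Q).ι.app i) ((idxCocone F Q).ι.app k))
      refine ⟨l, InducedCategory.homMk (Over.homMk (biprod.inl ≫ e.hom) ?_),
        InducedCategory.homMk (Over.homMk (biprod.inr ≫ e.hom) ?_), trivial⟩
      · exact (Category.assoc _ _ _).trans ((congrArg (biprod.inl ≫ ·) he).trans (biprod.inl_desc _ _))
      · exact (Category.assoc _ _ _).trans ((congrArg (biprod.inr ≫ ·) he).trans (biprod.inr_desc _ _))
    · let g' : (idxDiagram F Q).obj i ⟶ (idxDiagram F Q).obj k := (idxDiagram F Q).map g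
      let h' : (idxDiagram F Q).obj i ⟶ (idxDiagram F Q).obj k := (idxDiagram F Q).map h
      have hgh : (g' - h') ≫ (idxCocone F Q).ι.app k = 0 := by
        rw [Preadditive.sub_comp, (idxCocone F Q).w, (idxCocone F Q).w, sub_self]
      obtain ⟨l, e, he⟩ := exists_idx hQe
        (isConstructible_kernel_cokernel (g' - h') (Idx.isConstructible i) (Idx.isConstructible k)).2
        (hQe (cokernel.π (g' - h')) (Idx.isConstructible k) (Idx.prop k)) (cokernel.desc _ _ hgh)
      refine ⟨l, InducedCategory.homMk (Over.homMk (cokernel.π (g' - h') ≫ e.hom) ?_), ?_⟩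
      · exact (Category.assoc _ _ _).trans ((congrArg (cokernel.π _ ≫ ·) he).trans (cokernel.π_desc _ _ _))
      · refine InducedCategory.hom_ext (Over.OverMorphism.ext ?_)
        have h0 := cokernel.condition_assoc (g' - h') e.hom
        rw [zero_comp, Preadditive.sub_comp, sub_eq_zero] at h0
        exact h0
  have hz : IsZero (⨁ (Fin.elim0 : Fin 0 → EtCoh.Ab X)) :=
    (IsZero.iff_id_eq_zero _).2 (biproduct.hom_ext' _ _ fun i => i.elim0)
  obtain ⟨l, -⟩ := exists_idx (F := F) hQe isConstructible_zero' (hQ0 _ hz) 0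
  exact { nonempty := ⟨l⟩ }

include hQ0 hQ2 hQe himg in
/-- A torsion sheaf is the filtered colimit of the constructible sheaves over it. -/
theorem nonempty_isColimit_idxCocone (hF : EtCoh.IsTorsion F) : Nonempty (IsColimit (idxCocone F Q)) := by
  haveI := isFiltered_idxCat hQ0 hQ2 hQe (F := F)
  let d := colimit.desc (idxDiagram F Q) (idxCocone F Q)
  suffices IsIso d by
    haveI : IsIso ((colimit.isColimit (idxDiagram F Q)).desc (idxCocone F Q)) := this
    exact ⟨IsColimit.ofPointIso (colimit.isColimit (idxDiagram F Q))⟩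
  refine (isIso_iff_stalk d).2 fun Ω _ _ ξ => ?_
  haveI := ((Scheme.pointSmallEtale ξ).skyscraperSheafAdjunction
    (A := AddCommGrpCat.{u + 1})).leftAdjoint_preservesColimits
  have hcs := isColimitOfPreserves (EtCoh.stalk ξ) (colimit.isColimit (idxDiagram F Q))
  have hd : ∀ l (p : (EtCoh.stalk ξ).obj ((idxDiagram F Q).obj l)),
      (EtCoh.stalk ξ).map d ((EtCoh.stalk ξ).map (colimit.ι (idxDiagram F Q) l) p) =
        (EtCoh.stalk ξ).map ((idxCocone F Q).ι.app l) p := fun l p => by
    rw [← ConcreteCategory.comp_apply, ← Functor.map_comp, colimit.ι_desc]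
    rfl
  rw [ConcreteCategory.isIso_iff_bijective]
  refine ⟨(injective_iff_map_eq_zero _).2 fun x hx => ?_, fun p => ?_⟩
  · obtain ⟨l, p, hp⟩ := Concrete.isColimit_exists_rep _ hcs x
    replace hp : (EtCoh.stalk ξ).map (colimit.ι (idxDiagram F Q) l) p = x := hp
    subst hp
    rw [hd] at hx
    obtain ⟨U, z, t, rfl⟩ := germ_surjective ξ _ p
    let f : (idxDiagram F Q).obj l ⟶ F := (idxCocone F Q).ι.app l
    have h1 : germ ξ F U z (f.hom.app (op U) t) = germ ξ F U z 0 :=
      ((germ_naturality ξ f U z t).symm.trans hx).trans (map_zero _).symm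
    obtain ⟨W, g, w, hgw, hW⟩ := (germ_eq_iff ξ F U z _ _).1 h1
    obtain ⟨P, hP, i, z', hz'⟩ := exists_affine_nbhd w
    let C := (idxDiagram F Q).obj l
    let t' : EtCoh.sect C P := C.obj.map (i ≫ g).op t
    have hft' : f.hom.app (op P) t' = 0 := by
      refine (NatTrans.naturality_apply f.hom (i ≫ g).op t).trans ?_
      rw [op_comp, Functor.map_comp_apply, hW, map_zero, map_zero]
    obtain ⟨n, hn0, hn⟩ := exists_killedBy C (Idx.isConstructible l)
    obtain ⟨ev, hi, h0, -, hnat, hs⟩ := exists_ev P n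
    obtain ⟨ψ, hψ⟩ := hs C t' (hn _ _)
    have hψf : ψ ≫ f = 0 := hi F (by rw [hnat, hψ, h0]; exact hft')
    haveI := hP
    obtain ⟨m, e, he⟩ := exists_idx hQe
      (isConstructible_kernel_cokernel ψ (isConstructible_extZeroConst P (ZMod n))
        (Idx.isConstructible l)).2
      (hQe (cokernel.π ψ) (Idx.isConstructible l) (Idx.prop l)) (cokernel.desc ψ f hψf)
    let a : l ⟶ m := InducedCategory.homMk (Over.homMk (cokernel.π ψ ≫ e.hom)
      ((Category.assoc _ _ _).trans ((congrArg (cokernel.π _ ≫ ·) he).trans (cokernel.π_desc _ _ _))))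
    have hat : ((idxDiagram F Q).map a).hom.app (op P) t' = 0 := by
      rw [← hψ, ← hnat]
      change ev _ (ψ ≫ cokernel.π ψ ≫ e.hom) = 0
      rw [cokernel.condition_assoc, zero_comp, h0]
    rw [← colimit.w (idxDiagram F Q) a, Functor.map_comp, ConcreteCategory.comp_apply]
    refine (congrArg _ ?_).trans (map_zero ((EtCoh.stalk ξ).map (colimit.ι (idxDiagram F Q) m)).hom)
    refine (germ_naturality ξ ((idxDiagram F Q).map a) U z t).trans ?_
    rw [← hgw, ← hz', ← Functor.map_comp_apply]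
    refine ((Scheme.pointSmallEtale ξ).toPresheafFiber_w_apply (i ≫ g) z'
      ((idxDiagram F Q).obj m).obj _).symm.trans ?_
    refine (congrArg _ ((NatTrans.naturality_apply ((idxDiagram F Q).map a).hom (i ≫ g).op t).symm.trans
      hat)).trans (map_zero _)
  · obtain ⟨U, z, s, rfl⟩ := germ_surjective ξ F p
    obtain ⟨V, g, ⟨v, hv⟩, hfin⟩ := hF U s (ptOf z)
    obtain ⟨y, hy, -⟩ := LC.exists_fiber_map g z v hv
    obtain ⟨P, hP, i, z', hz'⟩ := exists_affine_nbhd y
    obtain ⟨n, hn0, hns⟩ := hfin.exists_nsmul_eq_zero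
    haveI : NeZero n := ⟨hn0.ne'⟩
    let s' : EtCoh.sect F P := F.obj.map (i ≫ g).op s
    have hs' : n • s' = 0 := by
      change n • F.obj.map (i ≫ g).op s = 0
      rw [op_comp, Functor.map_comp_apply, ← map_nsmul, hns, map_zero]
    obtain ⟨ev, hi, -, -, hnat, hs⟩ := exists_ev P n
    obtain ⟨ψ, hψ⟩ := hs F s' hs'
    haveI := hP
    obtain ⟨C', a, q, hC', hQ', haq⟩ := himg ψ (isConstructible_extZeroConst P (ZMod n))
    obtain ⟨l, e, he⟩ := exists_idx hQe hC' hQ' q
    let t : EtCoh.sect ((idxDiagram F Q).obj l) P := ev _ (a ≫ e.hom)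
    refine ⟨(EtCoh.stalk ξ).map (colimit.ι (idxDiagram F Q) l) (germ ξ ((idxDiagram F Q).obj l) P z' t), ?_⟩
    refine (hd l _).trans ((germ_naturality ξ ((idxCocone F Q).ι.app l) P z' t).trans ?_)
    have ht : ((idxCocone F Q).ι.app l).hom.app (op P) t = s' := by
      refine (hnat _ _ _ _).symm.trans ((congrArg (ev F) ?_).trans hψ)
      exact (Category.assoc _ _ _).trans ((congrArg (a ≫ ·) he).trans haq)
    refine (congrArg _ ht).trans (((Scheme.pointSmallEtale ξ).toPresheafFiber_w_apply (i ≫ g) z'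
      F.obj s).trans ?_)
    rw [Functor.map_comp_apply, hz', hy]
    rfl

end Groth.Agent.H18Et.Cons
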