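import Groth.Agent.H18Et.Cons.IsoSet

/-!
# Descent of constructibility along surjective quasi-compact morphisms
-/

set_option backward.isDefEq.respectTransparency false
set_option backward.isDefEq.respectTransparency.types false

universe u

open CategoryTheory CategoryTheory.Limits AlgebraicGeometry Opposite Topology

namespace Groth.Agent.H18Et.Cons

open scoped Groth.Agent.H18Et

variable {X Y : Scheme.{u}}

theorem isoSet_pull_iff (f : X ⟶ Y) (F : EtCoh.Ab Y) {P : Y.Etale} {M : AddCommGrpCat.{u + 1}}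
    (c : M ⟶ F.obj.obj (op P)) {Q : X.Etale} (j : Q ⟶ (EtCoh.bc f).obj P) (v : Q.left) :
    v ∈ isoSet ((EtCoh.pull f).obj F)
        ((c ≫ ((EtCoh.pullPushAdj f).unit.app F).hom.app (op P)) ≫ ((EtCoh.pull f).obj F).obj.map j.op) ↔
      (pullback.fst P.hom f : ((EtCoh.bc f).obj P).left ⟶ P.left) (j.left v) ∈ isoSet F c := by
  let G := (EtCoh.pull f).obj F
  let u := ((EtCoh.pullPushAdj f).unit.app F).hom.app (op P)
  obtain ⟨Ω, _, _, a, ha⟩ := LC.exists_geom_over (Q.hom v)
  obtain ⟨t, ht⟩ := exists_fiber_over (U := Q) v a ha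
  let t₁ := (Scheme.pointSmallEtale a).fiber.map j t
  let s := (fiberCompIso f a).hom.app P t₁
  have hs : ptOf s = (pullback.fst P.hom f : ((EtCoh.bc f).obj P).left ⟶ P.left) (j.left v) :=
    (LC.ptOf_fiberCompIso f a P t₁).trans (congrArg _ ((ptOf_map j t).trans (congrArg j.left.base ht)))
  have e : IsIso (((c ≫ u) ≫ G.obj.map j.op) ≫ germ a G Q t) ↔ IsIso (c ≫ germ (a ≫ f) F P s) := by
    rw [Category.assoc, germ, GrothendieckTopology.Point.toPresheafFiber_w]
    exact LC.isIso_germ_pull_iff f F c a t₁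
  constructor
  · intro hv Ω' _ _ ξ w hw
    rw [LC.isIso_germ_iff_of_ptOf_eq F c w s (hw.trans hs.symm), ← e]
    exact hv Ω a t ht
  · intro hv Ω' _ _ ξ w hw
    rw [LC.isIso_germ_iff_of_ptOf_eq G _ w t (hw.trans ht.symm), e]
    exact hv Ω (a ≫ f) s hs

theorem isConstructible_of_pull_qc (f : X ⟶ Y) [Surjective f] [QuasiCompact f]
    (F : EtCoh.Ab Y) (hF : EtPBC.IsConstructible ((EtCoh.pull f).obj F)) :
    EtPBC.IsConstructible F := by
  refine isConstructible_of_isoSet F (fun Ω _ _ ξ => ?_) fun P _ M _ c => ?_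
  · obtain ⟨x, hx⟩ := f.surjective (ξ.base default)
    obtain ⟨Ω', _, _, a, ha⟩ := LC.exists_geom_over x
    haveI : Finite ↑((EtCoh.pull f ⋙ EtCoh.stalk a).obj F) := finite_stalk_of_isConstructible _ hF a
    obtain ⟨e⟩ := LC.stalk_iso_of_base_eq ξ (a ≫ f)
      (hx.symm.trans ((congrArg f.base ha).symm.trans (Scheme.Hom.comp_apply _ _ _).symm)) F
    exact Finite.of_equiv _ (((stalkPullIso f a).app F) ≪≫ e.symm).addCommGroupIsoToAddEquiv.toEquiv
  · haveI : Etale P.hom := P.prop
    haveI : Etale ((EtCoh.bc f).obj P).hom := ((EtCoh.bc f).obj P).prop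
    let π : ((EtCoh.bc f).obj P).left ⟶ P.left := pullback.fst P.hom f
    haveI : QuasiCompact π := MorphismProperty.pullback_fst _ _ inferInstance
    haveI : Surjective π := MorphismProperty.pullback_fst _ _ inferInstance
    haveI : CompactSpace ((EtCoh.bc f).obj P).left := QuasiCompact.compactSpace_of_compactSpace π
    obtain ⟨ι, hι, B, hB, hu⟩ := exists_affine_cover ((EtCoh.bc f).obj P).left (fun _ => True) fun x => by
      obtain ⟨U, hU, hxU, -⟩ := exists_isAffineOpen_mem_and_subset (x := x) (U := ⊤) trivial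
      exact ⟨U, hxU, hU, trivial⟩
    have hB' : ∀ i, IsAffine (B i).toScheme := fun i => (hB i).1
    let Q : ι → X.Etale := fun i => MorphismProperty.Over.mk ⊤ ((B i).ι ≫ ((EtCoh.bc f).obj P).hom)
      (inferInstanceAs (Etale _))
    let j : ∀ i, Q i ⟶ (EtCoh.bc f).obj P := fun i => MorphismProperty.Over.homMk (B i).ι rfl trivial
    let K : ∀ i, Set (B i).toScheme := fun i =>
      haveI : IsAffine (Q i).left := hB' i
      isoSet ((EtCoh.pull f).obj F)
        ((c ≫ ((EtCoh.pullPushAdj f).unit.app F).hom.app (op P)) ≫ ((EtCoh.pull f).obj F).obj.map (j i).op)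
    have hK : ∀ i, IsConstructible (K i) := fun i =>
      haveI : IsAffine (Q i).left := hB' i
      isConstructible_isoSet _ hF _
    let b : ∀ i, (B i).toScheme ⟶ P.left := fun i => (B i).ι ≫ π
    have hb : ∀ i v, v ∈ K i ↔ b i v ∈ isoSet F c := fun i v => by
      rw [Scheme.Hom.comp_apply]
      exact isoSet_pull_iff f F c (j i) v
    have hcl : ∀ (i) (C : Set (B i).toScheme), IsConstructible C →
        @IsClosed P.left (constructibleTopology P.left) (b i '' C) := by
      intro i C hC
      haveI := hB' i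
      haveI : IsAffineHom (b i) := isAffineHom_of_isAffine _
      have hc' := Groth.Agent.H28Top.continuous_constr_of_isSpectralMap
        ((quasiCompact_iff_isSpectralMap (f := b i)).1 inferInstance)
      have hcpt : @IsCompact (B i).toScheme (constructibleTopology _) C :=
        @IsClosed.isCompact _ (constructibleTopology _) _ (Groth.Agent.H28Top.compactSpace_constr _)
          (Groth.Agent.H28Top.isClosed_constr_of_isConstructible hC)
      exact @IsCompact.isClosed P.left (constructibleTopology P.left)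
        (Groth.Agent.H28Top.t2Space_constr P.left) _
        (@IsCompact.image _ _ (constructibleTopology (B i).toScheme) (constructibleTopology P.left) _ _ hcpt hc')
    have hsurj : ∀ p : P.left, ∃ i v, b i v = p := fun p => by
      obtain ⟨q, hq⟩ := π.surjective p
      obtain ⟨i, hi⟩ := Set.mem_iUnion.1 (hu.symm ▸ Set.mem_univ q : q ∈ ⋃ i, (B i : Set _))
      exact ⟨i, ⟨q, hi⟩, (Scheme.Hom.comp_apply _ _ _).trans hq⟩
    have e₁ : isoSet F c = ⋃ i, b i '' K i := by
      refine Set.Subset.antisymm (fun p hp => ?_) (Set.iUnion_subset fun i => ?_)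
      · obtain ⟨i, v, rfl⟩ := hsurj p
        exact Set.mem_iUnion.2 ⟨i, v, (hb i v).2 hp, rfl⟩
      · rintro _ ⟨v, hv, rfl⟩
        exact (hb i v).1 hv
    have e₂ : (isoSet F c)ᶜ = ⋃ i, b i '' (K i)ᶜ := by
      refine Set.Subset.antisymm (fun p hp => ?_) (Set.iUnion_subset fun i => ?_)
      · obtain ⟨i, v, rfl⟩ := hsurj p
        exact Set.mem_iUnion.2 ⟨i, v, fun h => hp ((hb i v).1 h), rfl⟩
      · rintro _ ⟨v, hv, rfl⟩
        exact fun h => hv ((hb i v).2 h)
    rw [Groth.Agent.H28Top.isConstructible_iff_isClopen_constr]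
    refine ⟨?_, ?_⟩
    · rw [e₁]
      exact @isClosed_iUnion_of_finite P.left ι (constructibleTopology P.left) _ _ fun i => hcl i _ (hK i)
    · rw [← @isClosed_compl_iff P.left (constructibleTopology P.left), e₂]
      exact @isClosed_iUnion_of_finite P.left ι (constructibleTopology P.left) _ _ fun i =>
        hcl i _ (hK i).compl

/-- The locus where a morphism of constructible sheaves is surjective on stalks. -/
theorem isConstructible_surjective_locus [CompactSpace X] [QuasiSeparatedSpace X] {F G : EtCoh.Ab X}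
    (φ : F ⟶ G) (hC : EtPBC.IsConstructible (cokernel φ)) :
    Topology.IsConstructible (EtPBC.supp (cokernel φ))ᶜ :=
  (isLocallyConstructible_supp _ hC).isConstructible.compl

end Groth.Agent.H18Et.Cons
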