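import Groth.Agent.H18Et.Cons.PushFinEt
import Groth.Agent.H7Flat.FibreDegree
import Groth.Agent.H12AlgSp.CoprodSpace

/-!
# An etale morphism of qcqs schemes is finite along a finite constructible stratification
-/

set_option backward.isDefEq.respectTransparency false
set_option backward.isDefEq.respectTransparency.types false

universe u

open CategoryTheory CategoryTheory.Limits AlgebraicGeometry Topology

namespace Groth.Agent.H18Et.Cons

open scoped Groth.Agent.H18Et

variable {X W : Scheme.{u}}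

theorem exists_immersion_nbhd [CompactSpace X] [QuasiSeparatedSpace X] {S : Set X}
    (hS : IsConstructible S) {y : X} (hy : y ∈ S) :
    ∃ (T : Scheme.{u}) (g : T ⟶ X), IsImmersion g ∧ IsConstructible (Set.range g) ∧
      y ∈ Set.range g ∧ Set.range g ⊆ S := by
  classical
  obtain ⟨𝒰, h𝒰, h𝒰'⟩ := exists_opens_of_isConstructible hS
  let O : X.Opens := ⟨⋂ V ∈ 𝒰.filter (y ∈ ·), V,
    isOpen_biInter_finset fun V hV => (h𝒰 V (Finset.mem_filter.1 hV).1).1⟩
  let Z : Set X := ⋂ V ∈ 𝒰.filter (y ∉ ·), Vᶜ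
  have hZ : IsClosed Z := isClosed_biInter fun V hV => (h𝒰 V (Finset.mem_filter.1 hV).1).1.isClosed_compl
  obtain ⟨T, g, hg, hr⟩ := exists_immersion_range O Z hZ
  refine ⟨T, g, hg, ?_, ?_, fun v hv => ?_⟩
  · rw [hr]
    refine IsConstructible.inter ?_ ?_
    · change IsConstructible (⋂ V ∈ 𝒰.filter (y ∈ ·), V)
      exact IsConstructible.biInter (Finset.finite_toSet _) fun V hV =>
        (h𝒰 V (Finset.mem_filter.1 hV).1).2.isCompact.isConstructible (h𝒰 V (Finset.mem_filter.1 hV).1).1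
    · exact IsConstructible.biInter (Finset.finite_toSet _) fun V hV =>
        ((h𝒰 V (Finset.mem_filter.1 hV).1).2.isCompact.isConstructible
          (h𝒰 V (Finset.mem_filter.1 hV).1).1).compl
  · rw [hr]
    exact ⟨Set.mem_iInter₂.2 fun V hV => (Finset.mem_filter.1 hV).2,
      Set.mem_iInter₂.2 fun V hV => (Finset.mem_filter.1 hV).2⟩
  · rw [hr] at hv
    refine (h𝒰' v y fun V hV => ?_).2 hy
    by_cases hy' : y ∈ V
    · exact iff_of_true (Set.mem_iInter₂.1 hv.1 V (Finset.mem_filter.2 ⟨hV, hy'⟩)) hy'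
    · exact iff_of_false (Set.mem_iInter₂.1 hv.2 V (Finset.mem_filter.2 ⟨hV, hy'⟩)) hy'

/-- The property of becoming finite after base change. -/
def FinBC (f : W ⟶ X) {T : Scheme.{u}} (g : T ⟶ X) : Prop := IsFinite (pullback.snd f g)

theorem finBC_precomp (f : W ⟶ X) {T T' : Scheme.{u}} (p : T' ⟶ T) (g : T ⟶ X) (h : FinBC f g) :
    FinBC f (p ≫ g) := by
  unfold FinBC at *
  rw [← MorphismProperty.cancel_left_of_respectsIso @IsFinite (pullbackLeftPullbackSndIso f g p).hom,
    pullbackLeftPullbackSndIso_hom_snd]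
  exact MorphismProperty.pullback_snd _ _ h

theorem covered_finBC_of_isSeparated (f : W ⟶ X) [Etale f] [IsSeparated f] [QuasiCompact f]
    [CompactSpace X] [QuasiSeparatedSpace X] : Covered (FinBC f) (𝟙 X) := by
  haveI : LocallyQuasiFinite f :=
    ((Groth.Agent.H06Unram.etale_iff_smooth_and_locallyQuasiFinite f).mp inferInstance).2
  have key : ∀ y : X, ∃ (T : Scheme.{u}) (g : T ⟶ X), IsImmersion g ∧ IsConstructible (Set.range g) ∧
      y ∈ Set.range g ∧ FinBC f g := by
    intro y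
    obtain ⟨E, hE, hyE, hdeg⟩ := H7Flat.FibreDegree.exists_constructible_deg_const f y
    obtain ⟨T, g, hg, hc, hy, hsub⟩ := exists_immersion_nbhd hE hyE
    refine ⟨T, g, hg, hc, hy, ?_⟩
    haveI : LocallyQuasiFinite (pullback.snd f g) := MorphismProperty.pullback_snd _ _ inferInstance
    haveI : IsSeparated (pullback.snd f g) := MorphismProperty.pullback_snd _ _ inferInstance
    haveI : Etale (pullback.snd f g) := MorphismProperty.pullback_snd _ _ inferInstance
    haveI : QuasiCompact (pullback.snd f g) := MorphismProperty.pullback_snd _ _ inferInstance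
    refine H13AlgSp.Degree.isFinite_of_deg_const (pullback.snd f g)
      (fun t => (pullback.snd f g).finite_preimage_singleton t) (H13AlgSp.Degree.deg f y) fun t => ?_
    rw [H13AlgSp.Degree.deg_baseChange f (IsPullback.of_hasPullback f g) t
      (H13AlgSp.Degree.isFinite_fiber f _ (f.finite_preimage_singleton _))]
    exact hdeg _ (hsub ⟨t, rfl⟩)
  choose T g hg hc hy hq using key
  haveI := hg
  refine covered_of_constructible_immersions (finBC_precomp f) T g hc
    (Set.eq_univ_of_forall fun y => Set.mem_iUnion.2 ⟨y, hy y⟩) fun y => ?_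
  haveI := compactSpace_of_immersion (g y) (hc y)
  refine Covered.of_finite (ι := Unit) (fun _ => T y) (fun _ => 𝟙 _) ?_ ?_ ?_
  · intro _
    simpa using IsConstructible.univ
  · simp [Set.iUnion_const]
  · intro _
    simpa using hq y

/-- A scheme covered by opens finite over a separated base, whose pairwise intersections are covered
by finitely many opens finite over the base, is finite over the base. -/
theorem isFinite_of_cover {R T : Scheme.{u}} (h : R ⟶ T) {n : ℕ} (O : Fin n → R.Opens)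
    (hO : ∀ r : R, ∃ i, r ∈ O i) [∀ i, IsFinite ((O i).ι ≫ h)] {κ : Type*} (s : Fin n → Fin n → Set κ)
    (hs : ∀ i j, (s i j).Finite) (B : κ → R.Opens)
    (hB : ∀ i j, (O i ⊓ O j : R.Opens).carrier = ⋃ k ∈ s i j, (B k : Set R))
    [∀ k, IsFinite ((B k).ι ≫ h)] : IsFinite h := by
  classical
  have hcl : ∀ i j, IsClosed ((O i).ι ⁻¹' (O j : Set R)) := by
    intro i j
    have : (O i).ι ⁻¹' (O j : Set R) = ⋃ k ∈ s i j, (O i).ι ⁻¹' (B k : Set R) := by
      rw [← Set.preimage_iUnion₂, ← hB]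
      ext r
      exact ⟨fun hr => ⟨r.2, hr⟩, fun hr => hr.2⟩
    rw [this]
    refine (hs i j).isClosed_biUnion fun k hk => ?_
    have hle : B k ≤ O i := fun r hr =>
      ((hB i j).ge (Set.mem_biUnion hk hr)).1
    let l := R.homOfLE hle
    have hl : l ≫ (O i).ι ≫ h = (B k).ι ≫ h := by rw [← Category.assoc, Scheme.homOfLE_ι]
    haveI : IsFinite (l ≫ (O i).ι ≫ h) := hl.symm ▸ inferInstance
    haveI : IsFinite l := IsFinite.of_comp l ((O i).ι ≫ h)
    convert l.isClosedMap.isClosed_range using 1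
    ext r
    refine ⟨fun hr => ⟨⟨(O i).ι r, hr⟩, ?_⟩, ?_⟩
    · exact (O i).ι.isOpenEmbedding.injective ((Scheme.Hom.comp_apply _ _ _).symm.trans
        (congrArg (fun q => q.base (⟨(O i).ι r, hr⟩ : (B k).toScheme)) (R.homOfLE_ι hle)))
    · rintro ⟨z, rfl⟩
      change (O i).ι (l z) ∈ (B k : Set R)
      rw [← Scheme.Hom.comp_apply, Scheme.homOfLE_ι]
      exact z.2
  let V : ∀ i, (O i).toScheme.Opens := fun i =>
    ⟨((O i).ι ⁻¹' ⋃ j ∈ (Finset.univ.filter (· < i)), (O j : Set R))ᶜ, by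
      rw [Set.preimage_iUnion₂]
      exact (isClosed_biUnion_finset fun j _ => hcl i j).isOpen_compl⟩
  have hVc : ∀ i, IsClosed ((V i : Set (O i).toScheme)) := fun i => by
    change IsClosed (((O i).ι ⁻¹' _)ᶜ)
    rw [isClosed_compl_iff, Set.preimage_iUnion₂]
    exact isOpen_biUnion fun j _ => (O j).2.preimage (O i).ι.continuous
  refine H12AlgSp.isFinite_of_disjoint_cover h (κ := ULift.{u} (Fin n))
    (fun i => (V i.down).ι ≫ (O i.down).ι) (fun i => inferInstance) (fun r => ?_) (fun i i' hii => ?_) fun i => ?_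
  · have hne : (Finset.univ.filter fun i => r ∈ O i).Nonempty := by
      obtain ⟨i, hi⟩ := hO r
      exact ⟨i, by simpa using hi⟩
    let i := (Finset.univ.filter fun i => r ∈ O i).min' hne
    have hi : r ∈ O i := (Finset.mem_filter.1 (Finset.min'_mem _ hne)).2
    refine ⟨⟨i⟩, ⟨⟨r, hi⟩, ?_⟩, rfl⟩
    intro hmem
    obtain ⟨j, hj, hrj⟩ := Set.mem_iUnion₂.1 hmem
    exact absurd (Finset.min'_le _ j (by simp only [Finset.mem_filter, Finset.mem_univ, true_and]; exact hrj))
      (not_le.2 (Finset.mem_filter.1 hj).2)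
  · rw [Set.disjoint_left]
    rintro _ ⟨a, rfl⟩ ⟨b, hb⟩
    rcases lt_or_gt_of_ne (fun e => hii (ULift.ext _ _ e)) with hlt | hlt
    · refine b.2 (Set.mem_iUnion₂.2 ⟨i.down, by simpa using hlt, ?_⟩)
      change ((V i'.down).ι ≫ (O i'.down).ι) b ∈ O i.down
      rw [hb]
      exact a.1.2
    · refine a.2 (Set.mem_iUnion₂.2 ⟨i'.down, by simpa using hlt, ?_⟩)
      change ((V i.down).ι ≫ (O i.down).ι) a ∈ O i'.down
      rw [← hb]
      exact b.1.2
  · haveI : IsClosedImmersion (V i.down).ι :=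
      IsClosedImmersion.of_isPreimmersion _ (by rw [Scheme.Opens.range_ι]; exact hVc _)
    rw [Category.assoc]
    infer_instance

/-- An etale morphism of qcqs schemes is finite along a finite constructible stratification. -/
theorem covered_finBC {U : Scheme.{u}} [CompactSpace U] [QuasiSeparatedSpace U] [CompactSpace X]
    [QuasiSeparatedSpace X] (j : U ⟶ X) [Etale j] : Covered (FinBC j) (𝟙 X) := by
  classical
  obtain ⟨ι, hι, O, hO, hOu⟩ := exists_affine_cover U (fun B => IsSeparated (B.ι ≫ j)) fun x => by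
    obtain ⟨A, hA, hxA, -⟩ := exists_isAffineOpen_mem_and_subset (x := j x) (U := ⊤) trivial
    obtain ⟨B, hB, hxB, hBA⟩ := exists_isAffineOpen_mem_and_subset (x := x) (U := j ⁻¹ᵁ A) hxA
    refine ⟨B, hxB, hB, ?_⟩
    haveI : IsAffine A.toScheme := hA
    haveI : IsAffine B.toScheme := hB
    haveI : IsAffineHom (j.resLE A B hBA) := isAffineHom_of_isAffine _
    rw [← Scheme.Hom.resLE_comp_ι j hBA]
    infer_instance
  obtain ⟨n, ⟨e⟩⟩ := Finite.exists_equiv_fin ι
  let O' : Fin n → U.Opens := fun i => O (e.symm i)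
  choose s hs heq using fun i k : Fin n => isCompact_iff_finite_and_eq_biUnion_affineOpens.1
    (show IsCompact ((O' i ⊓ O' k : U.Opens) : Set U) from
      QuasiSeparatedSpace.inter_isCompact _ _ (O' i).2 (hO _).1.isCompact (O' k).2 (hO _).1.isCompact)
  let κ := {B : U.affineOpens // ∃ i k, B ∈ s i k}
  haveI : Finite κ := by
    have : {B : U.affineOpens | ∃ i k, B ∈ s i k}.Finite := by
      have h : (⋃ i, ⋃ k, s i k).Finite := Set.finite_iUnion fun i => Set.finite_iUnion fun k => hs i k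
      exact h.subset fun B ⟨i, k, hB⟩ => Set.mem_iUnion₂.2 ⟨i, k, hB⟩
    exact this.to_subtype
  have hle : ∀ (i k : Fin n) (B : U.affineOpens), B ∈ s i k → B.1 ≤ O' i := fun i k B hB =>
    (le_iSup₂_of_le B hB le_rfl).trans ((heq i k).ge.trans inf_le_left)
  obtain ⟨m, ⟨eκ⟩⟩ := Finite.exists_equiv_fin (Fin n ⊕ κ)
  let P : Fin m → U.Opens := fun q => Sum.elim O' (fun B => B.1.1) (eκ.symm q)
  have hP : ∀ q, IsCompact (P q : Set U) ∧ IsSeparated ((P q).ι ≫ j) := by
    intro q
    change IsCompact (Sum.elim O' _ _ : U.Opens).carrier ∧ IsSeparated ((Sum.elim O' _ _ : U.Opens).ι ≫ j)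
    rcases eκ.symm q with i | B
    · exact ⟨(hO _).1.isCompact, (hO _).2⟩
    · obtain ⟨i, k, hB⟩ := B.2
      refine ⟨B.1.2.isCompact, ?_⟩
      haveI := (hO (e.symm i)).2
      change IsSeparated (B.1.1.ι ≫ j)
      rw [← Scheme.homOfLE_ι U (hle i k B.1 hB), Category.assoc]
      infer_instance
  have hQ := Covered.forall_fin (fun q => @FinBC _ _ ((P q).ι ≫ j))
    (fun q {T T'} p g => finBC_precomp _ p g) (f := 𝟙 X) fun q => by
      haveI := (hP q).2
      haveI : Etale ((P q).ι ≫ j) := inferInstance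
      haveI : CompactSpace (P q).toScheme := isCompact_iff_compactSpace.1 (hP q).1
      haveI : QuasiCompact ((P q).ι ≫ j) := quasiCompact_of_compactSpace _
      exact covered_finBC_of_isSeparated _
  refine hQ.imp fun g hg => ?_
  let π := pullback.snd j g
  let φ := pullback.fst j g
  have hfin : ∀ q, IsFinite ((φ ⁻¹ᵁ P q).ι ≫ π) := fun q => by
    have sq : IsPullback (φ ∣_ P q) ((φ ⁻¹ᵁ P q).ι ≫ π) ((P q).ι ≫ j) g :=
      ((isPullback_morphismRestrict φ (P q)).flip.flip).paste_vert (IsPullback.of_hasPullback j g)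
    rw [← sq.isoPullback_hom_snd, MorphismProperty.cancel_left_of_respectsIso @IsFinite]
    exact hg q
  have hP₁ : ∀ i, P (eκ (Sum.inl i)) = O' i := fun i => by simp [P]
  have hP₂ : ∀ B, P (eκ (Sum.inr B)) = B.1.1 := fun B => by simp [P]
  haveI : ∀ i, IsFinite ((φ ⁻¹ᵁ O' i).ι ≫ π) := fun i => hP₁ i ▸ hfin (eκ (Sum.inl i))
  haveI : ∀ B : κ, IsFinite ((φ ⁻¹ᵁ B.1.1).ι ≫ π) := fun B => hP₂ B ▸ hfin (eκ (Sum.inr B))
  refine isFinite_of_cover π (fun i => φ ⁻¹ᵁ O' i) (fun r => ?_) (κ := κ)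
    (fun i k => {B | B.1 ∈ s i k}) (fun i k => Set.toFinite _) (fun B => φ ⁻¹ᵁ B.1.1) fun i k => ?_
  · obtain ⟨i, hi⟩ := Set.mem_iUnion.1 (hOu.symm ▸ Set.mem_univ (φ r) : φ r ∈ ⋃ i, (O i : Set U))
    exact ⟨e i, show φ r ∈ O (e.symm (e i)) by rwa [Equiv.symm_apply_apply]⟩
  · ext r
    have h1 : φ r ∈ (O' i ⊓ O' k : U.Opens) ↔ ∃ B ∈ s i k, φ r ∈ B.1 := by
      rw [heq i k]
      simp only [TopologicalSpace.Opens.mem_iSup]
      simp
    refine h1.trans ⟨?_, ?_⟩
    · rintro ⟨B, hB, hr⟩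
      exact Set.mem_iUnion₂.2 ⟨⟨B, i, k, hB⟩, hB, hr⟩
    · intro hr
      obtain ⟨B, hB, hr⟩ := Set.mem_iUnion₂.1 hr
      exact ⟨B.1, hB, hr⟩

end Groth.Agent.H18Et.Cons
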