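import Groth.Agent.H18Et.Cons.Subsheaf
import Groth.Agent.H28Top.Spectral
import Mathlib.CategoryTheory.Subobject.NoetherianObject

/-!
# Constructible sheaves on Noetherian schemes are Noetherian objects
-/

set_option backward.isDefEq.respectTransparency false
set_option backward.isDefEq.respectTransparency.types false

universe u

open CategoryTheory CategoryTheory.Limits AlgebraicGeometry Opposite Topology

namespace Groth.Agent.H18Et.Cons

open scoped Groth.Agent.H18Et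

variable {X : Scheme.{u}}

/-- The image of a subobject in a stalk. -/
noncomputable def stalkRange {F : EtCoh.Ab X} (S : Subobject F) {Ω : Type u} [Field Ω] [IsSepClosed Ω]
    (ξ : Spec (CommRingCat.of Ω) ⟶ X) : Set ((EtCoh.stalk ξ).obj F) :=
  Set.range ((EtCoh.stalk ξ).map S.arrow)

theorem stalkRange_mono {F : EtCoh.Ab X} {S S' : Subobject F} (h : S ≤ S') {Ω : Type u} [Field Ω]
    [IsSepClosed Ω] (ξ : Spec (CommRingCat.of Ω) ⟶ X) : stalkRange S ξ ⊆ stalkRange S' ξ := by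
  rintro _ ⟨a, rfl⟩
  exact ⟨(EtCoh.stalk ξ).map (S.ofLE S' h) a, by
    rw [← ConcreteCategory.comp_apply, ← Functor.map_comp, Subobject.ofLE_arrow]⟩

theorem stalkRange_map {F : EtCoh.Ab X} (S : Subobject F) {Ω Ω' : Type u} [Field Ω] [IsSepClosed Ω]
    [Field Ω'] [IsSepClosed Ω'] {ξ : Spec (CommRingCat.of Ω) ⟶ X} {ξ' : Spec (CommRingCat.of Ω') ⟶ X}
    (φ : Scheme.pointSmallEtale ξ' ⟶ Scheme.pointSmallEtale ξ) :
    (GrothendieckTopology.Point.Hom.sheafFiber (A := AddCommGrpCat.{u + 1}) φ).app F '' stalkRange S ξ ⊆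
      stalkRange S ξ' := by
  rintro _ ⟨_, ⟨a, rfl⟩, rfl⟩
  exact ⟨(GrothendieckTopology.Point.Hom.sheafFiber (A := AddCommGrpCat.{u + 1}) φ).app _ a,
    (NatTrans.naturality_apply (GrothendieckTopology.Point.Hom.sheafFiber (A := AddCommGrpCat.{u + 1}) φ)
      S.arrow a).symm⟩

theorem isIso_ofLE_of_stalkRange {F : EtCoh.Ab X} {S S' : Subobject F} (h : S ≤ S')
    (hr : ∀ (Ω : Type u) [Field Ω] [IsSepClosed Ω] (ξ : Spec (CommRingCat.of Ω) ⟶ X),
      stalkRange S' ξ ⊆ stalkRange S ξ) : S' = S := by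
  haveI : IsIso (S.ofLE S' h) := by
    rw [isIso_iff_stalk]
    intro Ω _ _ ξ
    rw [ConcreteCategory.isIso_iff_bijective]
    have hinj := (AddCommGrpCat.mono_iff_injective _).1 ((mono_iff_stalk S.arrow).1 inferInstance Ω ξ)
    have hinj' := (AddCommGrpCat.mono_iff_injective _).1 ((mono_iff_stalk S'.arrow).1 inferInstance Ω ξ)
    have e : ∀ a, (EtCoh.stalk ξ).map S'.arrow ((EtCoh.stalk ξ).map (S.ofLE S' h) a) =
        (EtCoh.stalk ξ).map S.arrow a := fun a => by
      rw [← ConcreteCategory.comp_apply, ← Functor.map_comp, Subobject.ofLE_arrow]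
    refine ⟨fun a b hab => hinj ((e a).symm.trans ((congrArg _ hab).trans (e b))), fun b => ?_⟩
    obtain ⟨a, ha⟩ := hr Ω ξ ⟨b, rfl⟩
    exact ⟨a, hinj' ((e a).trans ha)⟩
  exact le_antisymm (Subobject.le_of_comm (inv (S.ofLE S' h)) (by simp)) h

theorem exists_stable_piece [IsLocallyNoetherian X] (F : EtCoh.Ab X) (hF : EtPBC.IsConstructible F)
    (c : ℕ →o Subobject F) (x : X) :
    ∃ (V : X.Opens) (N : ℕ), x ∈ V ∧ ∀ (Ω : Type u) [Field Ω] [IsSepClosed Ω]
      (ξ : Spec (CommRingCat.of Ω) ⟶ X), ξ.base default ∈ (V : Set X) ∩ closure {x} →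
      ∀ m, N ≤ m → stalkRange (c m) ξ ⊆ stalkRange (c N) ξ := by
  haveI := finite_stalk_of_isConstructible F hF (geomPt x)
  obtain ⟨N, hN⟩ : ∃ N, ∀ m, N ≤ m → stalkRange (c m) (geomPt x) ⊆ stalkRange (c N) (geomPt x) := by
    let s : ℕ → Set ((EtCoh.stalk (geomPt x)).obj F) := fun n => stalkRange (c n) (geomPt x)
    obtain ⟨N, hN⟩ := WellFoundedGT.monotone_chain_condition
      (⟨s, fun a b hab => stalkRange_mono (c.monotone hab) _⟩ : ℕ →o Set ((EtCoh.stalk (geomPt x)).obj F))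
    exact ⟨N, fun m hm => (hN m hm).symm.subset⟩
  obtain ⟨V, T, g, hg, hxV, hr, hq⟩ := exists_piece_of_isConstructible F hF x
  obtain ⟨V', T', g', hg', hxV', hr', hq'⟩ := exists_piece_of_isConstructible _
    (isConstructible_sub (c N).arrow hF) x
  haveI := hg
  haveI := hg'
  refine ⟨V ⊓ V', N, ⟨hxV, hxV'⟩, fun Ω _ _ ξ hξ m hm => ?_⟩
  obtain ⟨φ⟩ := LC.exists_specialization ξ (geomPt x)
    (by rw [geomPt_base]; exact specializes_iff_mem_closure.2 hξ.2)
  haveI := LC.isIso_specialization_of_pull g F hq (ξ := ξ) (ξ' := geomPt x)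
    (by rw [hr]; exact ⟨hξ.1.1, hξ.2⟩) (by rw [hr, geomPt_base]; exact ⟨hxV, subset_closure rfl⟩) φ
  haveI := LC.isIso_specialization_of_pull g' ((c N : Subobject F) : EtCoh.Ab X) hq' (ξ := ξ) (ξ' := geomPt x)
    (by rw [hr']; exact ⟨hξ.1.2, hξ.2⟩) (by rw [hr', geomPt_base]; exact ⟨hxV', subset_closure rfl⟩) φ
  intro b hb
  let q := GrothendieckTopology.Point.Hom.sheafFiber (A := AddCommGrpCat.{u + 1}) φ
  have h1 : q.app F b ∈ stalkRange (c N) (geomPt x) := hN m hm (stalkRange_map _ φ ⟨b, hb, rfl⟩)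
  obtain ⟨a, ha⟩ := h1
  obtain ⟨a', rfl⟩ := (ConcreteCategory.bijective_of_isIso
    (q.app ((c N : Subobject F) : EtCoh.Ab X))).2 a
  refine ⟨a', (ConcreteCategory.bijective_of_isIso (q.app F)).1 ?_⟩
  exact (NatTrans.naturality_apply q (c N).arrow a').trans ha

theorem exists_stable [IsNoetherian X] (F : EtCoh.Ab X) (hF : EtPBC.IsConstructible F)
    (c : ℕ →o Subobject F) : ∃ N, ∀ m, N ≤ m → c m = c N := by
  choose V N hxV h using exists_stable_piece F hF c
  obtain ⟨t, ht⟩ := @IsCompact.elim_finite_subcover X (constructibleTopology X) Set.univ X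
    (@isCompact_univ X (constructibleTopology X) (Groth.Agent.H28Top.compactSpace_constr X))
    (fun x => (V x : Set X) ∩ closure {x})
    (fun x => Groth.Agent.H28Top.isOpen_constr_of_isConstructible
      (isConstructible_of_isLocallyClosed ((V x).2.isLocallyClosed.inter isClosed_closure.isLocallyClosed)))
    (fun x _ => Set.mem_iUnion.2 ⟨x, hxV x, subset_closure rfl⟩)
  refine ⟨t.sup N, fun m hm => isIso_ofLE_of_stalkRange (c.monotone hm) fun Ω _ _ ξ => ?_⟩
  obtain ⟨x, hx, hξ⟩ := Set.mem_iUnion₂.1 (ht (Set.mem_univ (ξ.base default)))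
  have hN : N x ≤ t.sup N := Finset.le_sup hx
  exact (h x Ω ξ hξ m (hN.trans hm)).trans (stalkRange_mono (c.monotone hN) ξ)

end Groth.Agent.H18Et.Cons
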