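import Groth.Agent.H18Et.Cons.ExtZeroConst
import Groth.Agent.H18Et.Cons.ACC

/-!
# Noetherian torsion sheaves are constructible
-/

set_option backward.isDefEq.respectTransparency false
set_option backward.isDefEq.respectTransparency.types false

universe u

open CategoryTheory CategoryTheory.Limits AlgebraicGeometry Opposite Topology

namespace Groth.Agent.H18Et.Cons

open scoped Groth.Agent.H18Et

variable {X : Scheme.{u}}

theorem isConstructible_biprod (F G : EtCoh.Ab X) (hF : EtPBC.IsConstructible F)
    (hG : EtPBC.IsConstructible G) : EtPBC.IsConstructible (F ⊞ G) := by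
  let S : ShortComplex (EtCoh.Ab X) := ShortComplex.mk (biprod.inl : F ⟶ F ⊞ G) biprod.snd (by simp)
  exact isConstructible_extension S
    (ShortComplex.Splitting.ofHasBinaryBiproduct F G).shortExact hF hG

/-- A section killed by an integer comes from the extension by zero of a constant sheaf. -/
theorem exists_hom_extZeroConst {F : EtCoh.Ab X} {V : X.Etale} (s : EtCoh.sect F V)
    (hs : IsOfFinAddOrder s) :
    ∃ (n : ℕ) (_ : NeZero n) (ψ : EtPBC.extZeroConst V (ZMod n) ⟶ F),
      ∀ (Q : EtCoh.Ab X) (π : F ⟶ Q), ψ ≫ π = 0 → π.hom.app (op V) s = 0 := by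
  haveI : NeZero (addOrderOf s) := ⟨addOrderOf_ne_zero_iff.2 hs⟩
  let n := addOrderOf s
  let g : ZMod n →+ F.obj.obj (op V) :=
    ZMod.lift n ⟨zmultiplesHom _ s, by
      simp only [zmultiplesHom_apply, natCast_zsmul, n, addOrderOf_nsmul_eq_zero]⟩
  let M' : AddCommGrpCat.{u + 1} := AddCommGrpCat.of (ULift.{u + 1} (ZMod n))
  let a : M' ⟶ F.obj.obj (op V) := AddCommGrpCat.ofHom (g.comp AddEquiv.ulift.toAddMonoidHom)
  let adj := (constantSheafAdj (X.smallEtaleTopology.over V) AddCommGrpCat.{u + 1}
    (Over.mkIdTerminal (X := V))).comp (EtPBC.extZeroAdj V)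
  refine ⟨n, inferInstance, (adj.homEquiv M' F).symm a, fun Q π h => ?_⟩
  have h2 := congrArg (adj.homEquiv M' Q) h
  have h0 : adj.homEquiv M' Q 0 = 0 := by
    rw [Adjunction.homEquiv_unit]
    exact comp_zero
  rw [adj.homEquiv_naturality_right, Equiv.apply_symm_apply, h0] at h2
  have h3 := ConcreteCategory.congr_hom h2 (ULift.up ((1 : ℤ) : ZMod n))
  rw [ConcreteCategory.comp_apply] at h3
  have ha : a (ULift.up ((1 : ℤ) : ZMod n)) = s := by
    change g ((1 : ℤ) : ZMod n) = s
    rw [ZMod.lift_coe]
    exact one_zsmul s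
  exact (congrArg (π.hom.app (op V)) ha).symm.trans h3

theorem isConstructible_of_isNoetherianObject [IsNoetherian X] (F : EtCoh.Ab X)
    (hF : EtCoh.IsTorsion F) [IsNoetherianObject F] : EtPBC.IsConstructible F := by
  let S : Set (Subobject F) := {A | ∃ (G : EtCoh.Ab X) (φ : G ⟶ F),
    EtPBC.IsConstructible G ∧ imageSubobject φ = A}
  haveI : CompactSpace (EtCoh.top X).left := inferInstanceAs (CompactSpace X)
  haveI : QuasiSeparatedSpace (EtCoh.top X).left := inferInstanceAs (QuasiSeparatedSpace X)
  have hne : S.Nonempty :=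
    ⟨_, EtPBC.extZeroConst (EtCoh.top X) (ZMod 1), 0, isConstructible_extZeroConst _ _, rfl⟩
  obtain ⟨A, ⟨G, φ, hG, rfl⟩, hmax⟩ := (wellFounded_gt (α := Subobject F)).has_min S hne
  haveI : Epi φ := by
    refine Preadditive.epi_of_cokernel_zero ?_
    have hπ : cokernel.π φ = 0 := by
      refine ObjectProperty.hom_ext _ (NatTrans.ext (funext fun U' => ?_))
      obtain ⟨U⟩ := U'
      ext s
      refine sect_ext _ _ fun Ω _ _ ξ z => ?_
      obtain ⟨V, g, ⟨v, hv⟩, hs⟩ := hF U s (ptOf z)
      obtain ⟨z₁, hz₁, hv₁⟩ := LC.exists_fiber_map g z v hv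
      obtain ⟨B, hB, hvB, -⟩ := exists_isAffineOpen_mem_and_subset (X := V.left) (x := ptOf z₁) (U := ⊤) trivial
      haveI : Etale V.hom := V.prop
      let P : X.Etale := MorphismProperty.Over.mk ⊤ (B.ι ≫ V.hom) (inferInstanceAs (Etale _))
      let j : P ⟶ V := MorphismProperty.Over.homMk B.ι rfl trivial
      haveI : IsAffine P.left := hB
      haveI : CompactSpace P.left := inferInstance
      haveI : QuasiSeparatedSpace P.left := inferInstance
      obtain ⟨z₂, hz₂, -⟩ := LC.exists_fiber_map j z₁ (⟨ptOf z₁, hvB⟩ : B.toScheme) rfl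
      obtain ⟨n, _, ψ, hψ⟩ := exists_hom_extZeroConst (F.obj.map j.op (F.obj.map g.op s))
        ((F.obj.map j.op).hom.isOfFinAddOrder hs)
      let Φ : G ⊞ EtPBC.extZeroConst P (ZMod n) ⟶ F := biprod.desc φ ψ
      have hle : imageSubobject φ ≤ imageSubobject Φ := by
        have := imageSubobject_comp_le (biprod.inl : G ⟶ G ⊞ EtPBC.extZeroConst P (ZMod n)) Φ
        rwa [biprod.inl_desc] at this
      have heq : imageSubobject φ = imageSubobject Φ := by
        refine hle.eq_or_lt.resolve_right fun hlt => hmax _ ⟨_, Φ, ?_, rfl⟩ hlt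
        exact isConstructible_biprod _ _ hG (isConstructible_extZeroConst P (ZMod n))
      have hψ0 : ψ ≫ cokernel.π φ = 0 := by
        have h0 : (imageSubobject φ).arrow ≫ cokernel.π φ = 0 := by
          rw [← cancel_epi (factorThruImageSubobject φ), comp_zero, imageSubobject_arrow_comp_assoc,
            cokernel.condition]
        rw [heq] at h0
        rw [← biprod.inr_desc φ ψ, Category.assoc]
        show biprod.inr ≫ Φ ≫ cokernel.π φ = 0
        rw [← imageSubobject_arrow_comp Φ, Category.assoc, h0, comp_zero, comp_zero]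
      have h0 := hψ _ _ hψ0
      have key : germ ξ F U z s = germ ξ F P z₂ (F.obj.map j.op (F.obj.map g.op s)) := by
        rw [← hz₁, ← hz₂]
        refine ((Scheme.pointSmallEtale ξ).toPresheafFiber_w_apply g _ F.obj s).symm.trans ?_
        exact ((Scheme.pointSmallEtale ξ).toPresheafFiber_w_apply j z₂ F.obj _).symm
      rw [← germ_naturality, key, germ_naturality, h0, map_zero]
      exact (map_zero (germ ξ (cokernel φ) U z).hom).symm
    exact hπ
  exact isConstructible_quotient φ hG

theorem isNoetherianObject_of_isConstructible [IsNoetherian X] (F : EtCoh.Ab X)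
    (hF : EtPBC.IsConstructible F) : IsNoetherianObject F := by
  rw [isNoetherianObject_iff_monotone_chain_condition]
  intro c
  obtain ⟨N, hN⟩ := exists_stable F hF c
  exact ⟨N, fun m hm => (hN m hm).symm⟩

end Groth.Agent.H18Et.Cons
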