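import Groth.Agent.H18Et.Cons.PushFinEt
import Groth.Agent.H18Et.Cons.DescentQC
import Groth.Agent.H18Et.Cons.Noetherian
import Groth.Agent.H18Et.Cons.FiniteStrata
import Groth.Agent.H18Et.PushClosed
import Groth.Agent.H24Algz.NisCover
import Groth.Agent.H12AlgSp.LocPCancel

/-!
# Direct images of constructible sheaves along finite morphisms of finite presentation
-/

set_option backward.isDefEq.respectTransparency false
set_option backward.isDefEq.respectTransparency.types false

universe u

open CategoryTheory CategoryTheory.Limits AlgebraicGeometry Opposite Topology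

namespace Groth.Agent.H18Et.Cons

open scoped Groth.Agent.H18Et

variable {X Y : Scheme.{u}}

theorem isConstructible_biproduct : ∀ {n : ℕ} (A : Fin n → EtCoh.Ab X)
    (_ : ∀ i, EtPBC.IsConstructible (A i)), EtPBC.IsConstructible (⨁ A)
  | 0, A, _ => by
    refine (isConstructible_iff _).2 (locAdapted_of_covered (flc_precomp _) fun U hU => ?_)
    haveI : IsAffine U.toScheme := hU
    refine ⟨1, fun _ => U.toScheme, fun _ => 𝟙 _, fun _ => inferInstance,
      fun _ => by simpa using IsConstructible.univ, by simp [Set.iUnion_const], fun _ => ?_⟩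
    refine (LC.isFiniteLocallyConstant_iff _).2 ⟨PUnit, fun _ => EtCoh.top _,
      fun x => ⟨PUnit.unit, x, rfl⟩, fun _ => ⟨AddCommGrpCat.of PUnit, inferInstanceAs (Finite PUnit),
        0, ?_⟩⟩
    intro Ω _ _ ξ t
    have h0 : IsZero (⨁ A) := (IsZero.iff_id_eq_zero _).2 (biproduct.hom_ext _ _ fun i => i.elim0)
    refine isIso_of_source_target_iso_zero _ ?_ ?_
    · exact (AddCommGrpCat.isZero_iff_subsingleton.2 inferInstance).isoZero
    · exact ((EtCoh.stalk ξ).map_isZero ((EtCoh.pull (𝟙 _ ≫ U.ι)).map_isZero h0)).isoZero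
  | n + 1, A, hA => by
    have ih := isConstructible_biproduct (fun i : Fin n => A i.succ) fun i => hA i.succ
    let e : ⨁ A ≅ A 0 ⊞ ⨁ fun i : Fin n => A i.succ :=
      { hom := biprod.lift (biproduct.π A 0) (biproduct.lift fun i => biproduct.π A i.succ)
        inv := biproduct.lift (Fin.cases biprod.fst fun i => biprod.snd ≫ biproduct.π _ i)
        hom_inv_id := by
          refine biproduct.hom_ext _ _ fun i => ?_
          refine Fin.cases ?_ (fun i => ?_) i
          · simp
          · simp
        inv_hom_id := by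
          refine biprod.hom_ext _ _ ?_ (biproduct.hom_ext _ _ fun i => ?_) <;> simp }
    exact isConstructible_of_iso e.symm (isConstructible_biprod _ _ (hA 0) ih)

/-- A scheme over the base with `n` sections of `f` distinct at every geometric point. -/
structure Stage (f : X ⟶ Y) (n : ℕ) where
  Z : Scheme.{u}
  a : Z ⟶ Y
  compact : CompactSpace Z
  qs : QuasiSeparatedSpace Z
  lfp : LocallyOfFinitePresentation a
  s : Fin n → (Z ⟶ X)
  w : ∀ i, s i ≫ f = a
  inj : ∀ (Ω : Type u) [Field Ω] [IsSepClosed Ω] (z : Spec (CommRingCat.of Ω) ⟶ Z),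
    Function.Injective fun i => z ≫ s i

theorem exists_stage_succ [IsAffine Y] (f : X ⟶ Y) [IsFinite f] [LocallyOfFinitePresentation f] {n : ℕ}
    (S : Stage f n) : ∃ S' : Stage f (n + 1), ∀ (Ω : Type u) [Field Ω] [IsSepClosed Ω]
      (p : Spec (CommRingCat.of Ω) ⟶ X) (z : Spec (CommRingCat.of Ω) ⟶ S.Z), p ≫ f = z ≫ S.a →
      (∀ i, z ≫ S.s i ≠ p) → (z ≫ S.a).base default ∈ Set.range S'.a := by
  haveI := S.compact
  haveI := S.qs
  haveI := S.lfp
  let W := pullback f S.a
  let π : W ⟶ S.Z := pullback.snd f S.a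
  haveI : IsFinite π := MorphismProperty.pullback_snd _ _ inferInstance
  haveI : LocallyOfFinitePresentation π := MorphismProperty.pullback_snd _ _ inferInstance
  haveI : CompactSpace W := QuasiCompact.compactSpace_of_compactSpace π
  haveI : QuasiSeparatedSpace W := quasiSeparatedSpace_of_quasiSeparated π
  let σ : Fin n → (S.Z ⟶ W) := fun i =>
    pullback.lift (S.s i) (𝟙 _) ((S.w i).trans (Category.id_comp _).symm)
  have hσ : ∀ i, σ i ≫ π = 𝟙 _ := fun i => pullback.lift_snd _ _ _
  haveI : ∀ i, LocallyOfFinitePresentation (σ i) := fun i => by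
    haveI : LocallyOfFinitePresentation (σ i ≫ π) := by rw [hσ]; infer_instance
    exact H12AlgSp.lfp_of_comp (σ i) π
  haveI : ∀ i, IsClosedImmersion (σ i) := fun i => by
    haveI : IsClosedImmersion (σ i ≫ π) := by rw [hσ]; infer_instance
    exact IsClosedImmersion.of_comp (σ i) π
  let C : Set W := ⋃ i, Set.range (σ i)
  have hC : IsConstructible C := IsConstructible.iUnion fun i => by
    haveI : QuasiCompact (σ i) := inferInstance
    rw [← Set.image_univ]
    exact (σ i).isConstructible_image IsConstructible.univ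
  have hCc : IsClosed C := isClosed_iUnion_of_finite fun i => (σ i).isClosedEmbedding.isClosed_range
  let O : W.Opens := ⟨Cᶜ, hCc.isOpen_compl⟩
  haveI : CompactSpace O.toScheme :=
    isCompact_iff_compactSpace.1 (H24Algz.isCompact_of_isConstructible hC.compl)
  refine ⟨⟨O.toScheme, O.ι ≫ π ≫ S.a, inferInstance, quasiSeparatedSpace_of_immersion O.ι, inferInstance,
    Fin.cases (O.ι ≫ pullback.fst f S.a) (fun i => O.ι ≫ π ≫ S.s i), ?_, ?_⟩, ?_⟩
  · intro i
    refine Fin.cases ?_ (fun i => ?_) i
    · simp only [Fin.cases_zero, Category.assoc]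
      rw [pullback.condition]
    · simp only [Fin.cases_succ, Category.assoc, S.w]
  · intro Ω _ _ z i j hij
    have hne : ∀ i, z ≫ O.ι ≫ pullback.fst f S.a ≠ z ≫ O.ι ≫ π ≫ S.s i := fun i h => by
      have e : z ≫ O.ι = (z ≫ O.ι ≫ π) ≫ σ i := by
        refine pullback.hom_ext ?_ ?_
        · simp only [σ, Category.assoc, pullback.lift_fst]
          exact h
        · simp only [σ, Category.assoc, pullback.lift_snd, Category.comp_id]
          rfl
      have : O.ι (z.base default) ∈ C := Set.mem_iUnion.2 ⟨i, (z ≫ O.ι ≫ π).base default, by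
        have := congrArg (fun k => k.base default) e
        simp only [Scheme.Hom.comp_apply] at this ⊢
        exact this.symm⟩
      exact (z.base default).2 this
    revert hij
    refine Fin.cases ?_ (fun i => ?_) i <;> refine Fin.cases ?_ (fun j => ?_) j <;> intro hij
    · rfl
    · exact absurd hij (hne j)
    · exact absurd hij.symm (hne i)
    · have := S.inj Ω (z ≫ O.ι ≫ π) (a₁ := i) (a₂ := j)
        (by simpa only [Fin.cases_succ, Category.assoc] using hij)
      rw [this]
  · intro Ω _ _ p z hpz hne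
    let w : Spec (CommRingCat.of Ω) ⟶ W := pullback.lift p z hpz
    have hw : w.base default ∈ O := by
      intro hC'
      obtain ⟨i, t, ht⟩ := Set.mem_iUnion.1 hC'
      obtain ⟨t', ht', -⟩ := LC.exists_lift_geom (σ i) w t ht
      have hz : t' = z := by
        have := congrArg (· ≫ π) ht'
        simpa only [Category.assoc, hσ, Category.comp_id, w, π, pullback.lift_snd] using this
      refine hne i ?_
      have := congrArg (· ≫ pullback.fst f S.a) ht'
      simpa only [Category.assoc, σ, w, pullback.lift_fst, hz] using this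
    refine ⟨⟨w.base default, hw⟩, ?_⟩
    change (O.ι ≫ π ≫ S.a) _ = _
    simp only [Scheme.Hom.comp_apply]
    refine congrArg S.a.base ?_
    exact (Scheme.Hom.comp_apply w π default).symm.trans
      (congrArg (fun k => k.base default) (pullback.lift_snd p z hpz))

/-- Geometric points of a finite fibre do not increase under field extensions. -/
theorem nat_card_pts_comp_le (f : X ⟶ Y) [IsFinite f] {Ω L : Type u} [Field Ω] [IsAlgClosed Ω] [Field L]
    [IsSepClosed L] (η : Spec (CommRingCat.of Ω) ⟶ Y) (q : Spec (CommRingCat.of L) ⟶ Spec (CommRingCat.of Ω)) :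
    Nat.card (Pts f (q ≫ η)) ≤ Nat.card (Pts f η) := by
  haveI : Finite (Pts f η) := finite_pts f η
  refine Nat.card_le_card_of_surjective
    (fun ξ => (⟨q ≫ ξ.1, (Category.assoc _ _ _).trans (congrArg (q ≫ ·) ξ.2)⟩ : Pts f (q ≫ η))) fun p => ?_
  let w : Spec (CommRingCat.of L) ⟶ pullback f η := pullback.lift p.1 q p.2
  obtain ⟨ξ, hξ⟩ := surjective_qOf (f := f) (η := η) (w.base default)
  haveI : IsClosedImmersion (secPt ξ) := by
    haveI : IsClosedImmersion (secPt ξ ≫ pullback.snd f η) := by rw [pullback.lift_snd]; infer_instance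
    exact IsClosedImmersion.of_comp (secPt ξ) (pullback.snd f η)
  obtain ⟨w₀, hw₀, -⟩ := LC.exists_lift_geom (secPt ξ) w default hξ
  have h1 : w₀ = q := by
    have := congrArg (· ≫ pullback.snd f η) hw₀
    simpa only [w, Category.assoc, pullback.lift_snd, Category.comp_id] using this
  subst h1
  refine ⟨ξ, Subtype.ext ?_⟩
  have := congrArg (· ≫ pullback.fst f η) hw₀
  simpa only [w, Category.assoc, pullback.lift_fst] using this

/-- Around each point there is a qc surjection over a constructible piece splitting `f` by sections. -/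
theorem exists_split_piece [IsAffine Y] (f : X ⟶ Y) [IsFinite f] [LocallyOfFinitePresentation f] (y : Y) :
    ∃ (T T' : Scheme.{u}) (j : T ⟶ Y) (q : T' ⟶ T) (n : ℕ) (σ : Fin n → (T' ⟶ pullback f (q ≫ j))),
      IsImmersion j ∧ IsConstructible (Set.range j) ∧ y ∈ Set.range j ∧ QuasiCompact q ∧ Surjective q ∧
      (∀ i, σ i ≫ pullback.snd f (q ≫ j) = 𝟙 _) ∧ (∀ x, ∃ i, x ∈ Set.range (σ i)) ∧
      ∀ i i' x, x ∈ Set.range (σ i) → x ∈ Set.range (σ i') → i = i' := by
  classical
  have h0 : ∃ S : Stage f 0, y ∈ Set.range S.a :=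
    ⟨⟨Y, 𝟙 Y, inferInstance, inferInstance, inferInstance, Fin.elim0, fun i => i.elim0,
      fun Ω _ _ z i => i.elim0⟩, y, rfl⟩
  let η : Spec (CommRingCat.of (AlgebraicClosure (Y.residueField y))) ⟶ Y :=
    (Scheme.SpecToEquivOfField (AlgebraicClosure (Y.residueField y)) Y).symm
      ⟨y, CommRingCat.ofHom (algebraMap (Y.residueField y) _)⟩
  have hη : η.base default = y := by simp [η, Scheme.SpecToEquivOfField]
  haveI : Finite (Pts f η) := finite_pts f η
  have hb : ∀ n, (∃ S : Stage f n, y ∈ Set.range S.a) → n ≤ Nat.card (Pts f η) := by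
    rintro n ⟨S, z₀, hz₀⟩
    obtain ⟨Ω, _, _, z, hz⟩ := LC.exists_geom_over z₀
    obtain ⟨L, _, _, p, q, hpq⟩ := LC.exists_amalgam (z ≫ S.a) η
      ((Scheme.Hom.comp_apply _ _ _).trans ((congrArg S.a.base hz).trans (hz₀.trans hη.symm)))
    haveI : Finite (Pts f (q ≫ η)) := finite_pts f _
    have hle : n ≤ Nat.card (Pts f (q ≫ η)) := by
      have := Nat.card_le_card_of_injective
        (fun i : Fin n => (⟨(p ≫ z) ≫ S.s i, by
          rw [Category.assoc, S.w, Category.assoc]; exact hpq⟩ : Pts f (q ≫ η)))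
        (fun i i' h => S.inj L (p ≫ z) (congrArg Subtype.val h))
      simpa using this
    exact hle.trans (nat_card_pts_comp_le f η q)
  have hex : ∃ n, (∃ S : Stage f n, y ∈ Set.range S.a) ∧ ¬ ∃ S : Stage f (n + 1), y ∈ Set.range S.a := by
    by_contra! h
    have hall : ∀ n, ∃ S : Stage f n, y ∈ Set.range S.a := fun n => Nat.rec h0 (fun m hm => h m hm) n
    exact Nat.not_succ_le_self _ (hb _ (hall (Nat.card (Pts f η) + 1)))
  obtain ⟨n, ⟨S, hS⟩, hmax⟩ := hex
  obtain ⟨S', hS'⟩ := exists_stage_succ f S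
  haveI := S.compact
  haveI := S.qs
  haveI := S.lfp
  haveI := S'.compact
  haveI := S'.qs
  haveI := S'.lfp
  haveI : QuasiCompact S.a := quasiCompact_of_compactSpace _
  haveI : QuasiCompact S'.a := quasiCompact_of_compactSpace _
  have hE : IsConstructible (Set.range S.a \ Set.range S'.a) := by
    simp only [← Set.image_univ]
    exact (S.a.isConstructible_image IsConstructible.univ).sdiff
      (S'.a.isConstructible_image IsConstructible.univ)
  obtain ⟨T, j, hj, hjc, hjy, hsub⟩ := exists_immersion_nbhd hE ⟨hS, fun h => hmax ⟨S', h⟩⟩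
  haveI := hj
  let T' := pullback S.a j
  let q : T' ⟶ T := pullback.snd S.a j
  let r : T' ⟶ S.Z := pullback.fst S.a j
  haveI : Surjective q := ⟨fun t => by
    obtain ⟨z, hz⟩ := (hsub ⟨t, rfl⟩).1
    obtain ⟨x, -, hx⟩ := Scheme.Pullback.exists_preimage_pullback (f := S.a) (g := j) z t hz
    exact ⟨x, hx⟩⟩
  let σ : Fin n → (T' ⟶ pullback f (q ≫ j)) := fun i => pullback.lift (r ≫ S.s i) (𝟙 _) (by
    rw [Category.assoc, S.w, Category.id_comp]
    exact pullback.condition)
  have hσ : ∀ i, σ i ≫ pullback.snd f (q ≫ j) = 𝟙 _ := fun i => pullback.lift_snd _ _ _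
  refine ⟨T, T', j, q, n, σ, hj, hjc, hjy, MorphismProperty.pullback_snd _ _ inferInstance, inferInstance,
    hσ, fun x => ?_, ?_⟩
  · obtain ⟨Ω, _, _, ξ, hξ⟩ := LC.exists_geom_over x
    let z := ξ ≫ pullback.snd f (q ≫ j) ≫ r
    by_contra! hx
    have hnot : (z ≫ S.a).base default ∉ Set.range S'.a := by
      have e : z ≫ S.a = (ξ ≫ pullback.snd f (q ≫ j) ≫ q) ≫ j := by
        simp only [z, r, q, Category.assoc, pullback.condition]
      rw [e, Scheme.Hom.comp_apply]
      exact (hsub ⟨_, rfl⟩).2
    refine hnot (hS' Ω (ξ ≫ pullback.fst f (q ≫ j)) z ?_ fun i h => hx i ?_)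
    · simp only [z, r, q, Category.assoc, pullback.condition]
    · have e : ξ = (ξ ≫ pullback.snd f (q ≫ j)) ≫ σ i := by
        refine pullback.hom_ext ?_ ?_
        · simp only [σ, Category.assoc, pullback.lift_fst]
          exact h.symm
        · simp only [σ, Category.assoc, pullback.lift_snd, Category.comp_id]
      refine ⟨(ξ ≫ pullback.snd f (q ≫ j)).base default, ?_⟩
      rw [← Scheme.Hom.comp_apply, ← e]
      exact hξ
  · intro i i' x hi hi'
    obtain ⟨Ω, _, _, ξ, hξ⟩ := LC.exists_geom_over x
    haveI : ∀ i, IsClosedImmersion (σ i) := fun i => by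
      haveI : IsClosedImmersion (σ i ≫ pullback.snd f (q ≫ j)) := by rw [hσ]; infer_instance
      exact IsClosedImmersion.of_comp (σ i) (pullback.snd f (q ≫ j))
    obtain ⟨t, ht⟩ := hi
    obtain ⟨t', ht'⟩ := hi'
    obtain ⟨b, hb', -⟩ := LC.exists_lift_geom (σ i) ξ t (ht.trans hξ.symm)
    obtain ⟨b', hb'', -⟩ := LC.exists_lift_geom (σ i') ξ t' (ht'.trans hξ.symm)
    have e1 := congrArg (· ≫ pullback.snd f (q ≫ j)) (hb'.trans hb''.symm)
    simp only [Category.assoc, hσ, Category.comp_id] at e1
    subst e1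
    refine S.inj Ω (b ≫ r) ?_
    have e2 := congrArg (· ≫ pullback.fst f (q ≫ j)) (hb'.trans hb''.symm)
    simpa only [σ, Category.assoc, pullback.lift_fst] using e2

/-- The direct image of a sheaf along a morphism split by disjoint sections. -/
theorem isConstructible_push_split {T' W : Scheme.{u}} (p : W ⟶ T') [IsSeparated p] {n : ℕ}
    (σ : Fin n → (T' ⟶ W)) (hσ : ∀ i, σ i ≫ p = 𝟙 _) (hc : ∀ x, ∃ i, x ∈ Set.range (σ i))
    (hd : ∀ i i' x, x ∈ Set.range (σ i) → x ∈ Set.range (σ i') → i = i')
    (G : EtCoh.Ab W) (hG : EtPBC.IsConstructible G) : EtPBC.IsConstructible ((EtCoh.push p).obj G) := by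
  haveI : ∀ i, IsClosedImmersion (σ i) := fun i => by
    haveI : IsClosedImmersion (σ i ≫ p) := by rw [hσ]; infer_instance
    exact IsClosedImmersion.of_comp (σ i) p
  let A : Fin n → EtCoh.Ab W := fun i => (EtCoh.push (σ i)).obj ((EtCoh.pull (σ i)).obj G)
  let Φ : G ⟶ ⨁ A := biproduct.lift fun i => (EtCoh.pullPushAdj (σ i)).unit.app G
  haveI : IsIso Φ := by
    refine isIso_of_stalk _ fun x => ?_
    obtain ⟨a, t, rfl⟩ := hc x
    refine ⟨_, _, inferInstance, geomPt t ≫ σ a, geomPt_comp_base (σ a) t, ?_⟩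
    have hu := bijective_stalk_unit (liftsEtaleUniv_of_isClosedImmersion (σ a)) G (geomPt t)
    let st := EtCoh.stalk (geomPt t ≫ σ a)
    haveI : IsIso (st.map (biproduct.π A a)) := by
      refine ⟨st.map (biproduct.ι A a), ?_, ?_⟩
      · rw [← st.map_comp, ← st.map_id, ← biproduct.total, Functor.map_sum, Finset.sum_eq_single a]
        · intro b _ hb
          have hz : IsZero (st.obj (A b)) := AddCommGrpCat.isZero_iff_subsingleton.2
            (subsingleton_stalk_push (σ b) (σ b).isClosedEmbedding.isClosed_range _ _ fun hm =>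
              hb (hd b a _ hm ⟨t, (geomPt_comp_base (σ a) t).symm⟩))
          rw [st.map_comp, hz.eq_zero_of_tgt (st.map (biproduct.π A b)), zero_comp]
        · simp
      · rw [← st.map_comp, biproduct.ι_π_self, st.map_id]
    have e : st.map Φ ≫ st.map (biproduct.π A a) = st.map ((EtCoh.pullPushAdj (σ a)).unit.app G) := by
      rw [← st.map_comp, biproduct.lift_π]
    have hb := ConcreteCategory.bijective_of_isIso (st.map (biproduct.π A a))
    have hcomp : Function.Bijective (st.map (biproduct.π A a) ∘ st.map Φ) := by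
      have : ⇑(st.map (biproduct.π A a)) ∘ ⇑(st.map Φ) = ⇑(st.map ((EtCoh.pullPushAdj (σ a)).unit.app G)) := by
        funext m
        exact (ConcreteCategory.comp_apply _ _ m).symm.trans (ConcreteCategory.congr_hom e m)
      rw [this]
      exact hu
    exact ⟨hcomp.1.of_comp, fun y => by
      obtain ⟨m, hm⟩ := hcomp.2 (st.map (biproduct.π A a) y)
      exact ⟨m, hb.1 hm⟩⟩
  refine isConstructible_of_iso ((EtCoh.push p).mapIso (asIso Φ).symm) ?_
  refine isConstructible_of_iso ((EtCoh.push p).mapBiproduct A).symm ?_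
  refine isConstructible_biproduct _ fun i => ?_
  refine isConstructible_of_iso ((EtCoh.pushComp p (σ i) ≪≫ EtCoh.pushCongr (hσ i)).app
    ((EtCoh.pull (σ i)).obj G)).symm ?_
  exact isConstructible_push (𝟙 T') _ (isConstructible_pull (σ i) G hG)

theorem isConstructible_push_finite_affine [IsAffine Y] (f : X ⟶ Y) [IsFinite f]
    [LocallyOfFinitePresentation f] (F : EtCoh.Ab X) (hF : EtPBC.IsConstructible F) :
    EtPBC.IsConstructible ((EtCoh.push f).obj F) := by
  choose T T' j q n σ hj hjc hjy hq hqs hσ hc hd using exists_split_piece f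
  haveI := hj
  refine isConstructible_of_strata _ T j hjc (Set.eq_univ_of_forall fun y => Set.mem_iUnion.2 ⟨y, hjy y⟩)
    fun y => ?_
  haveI := hq y
  haveI := hqs y
  refine isConstructible_of_pull_qc (q y) _ ?_
  refine isConstructible_of_iso ((EtCore.pullComp (q y) (j y)).app _) ?_
  let f' := pullback.snd f (q y ≫ j y)
  let g' := pullback.fst f (q y ≫ j y)
  haveI := isIso_baseChange0_of_isIntegralHom f (q y ≫ j y) f' g' (IsPullback.of_hasPullback _ _) F
  refine isConstructible_of_iso
    (asIso (EtCoh.baseChange0 f (q y ≫ j y) f' g' (IsPullback.of_hasPullback _ _).w F)).symm ?_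
  haveI : IsSeparated f' := MorphismProperty.pullback_snd _ _ inferInstance
  exact isConstructible_push_split f' (σ y) (hσ y) (hc y) (hd y) _ (isConstructible_pull g' F hF)

/-- Direct images of constructible sheaves along finite morphisms of finite presentation. -/
theorem isConstructible_push_finite (f : X ⟶ Y) [IsFinite f] [LocallyOfFinitePresentation f]
    (F : EtCoh.Ab X) (hF : EtPBC.IsConstructible F) :
    EtPBC.IsConstructible ((EtCoh.push f).obj F) := by
  refine isConstructible_of_openCover _ (fun U : Y.affineOpens => U.1) (iSup_affineOpens_eq_top Y) fun U => ?_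
  haveI : IsAffine U.1.toScheme := U.2
  let f' := pullback.snd f U.1.ι
  let g' := pullback.fst f U.1.ι
  haveI : IsFinite f' := MorphismProperty.pullback_snd _ _ inferInstance
  haveI : LocallyOfFinitePresentation f' := MorphismProperty.pullback_snd _ _ inferInstance
  haveI := isIso_baseChange0_of_isIntegralHom f U.1.ι f' g' (IsPullback.of_hasPullback _ _) F
  exact isConstructible_of_iso (asIso (EtCoh.baseChange0 f U.1.ι f' g' (IsPullback.of_hasPullback _ _).w F)).symm
    (isConstructible_push_finite_affine f' _ (isConstructible_pull g' F hF))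

end Groth.Agent.H18Et.Cons
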