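import Groth.Agent.H18Et.Cons.Noetherian
import Groth.Agent.H18Et.Cons.PushFinite

/-!
# Presentations of constructible sheaves killed by an integer
-/

set_option backward.isDefEq.respectTransparency false
set_option backward.isDefEq.respectTransparency.types false

universe u

open CategoryTheory CategoryTheory.Limits AlgebraicGeometry Opposite Topology

namespace Groth.Agent.H18Et.Cons

open scoped Groth.Agent.H18Et

variable {X : Scheme.{u}}

/-- A section killed by `n` comes from the extension by zero of `ℤ/n`. -/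
theorem exists_hom_extZeroConst_killed {F : EtCoh.Ab X} {V : X.Etale} (n : ℕ) (s : EtCoh.sect F V)
    (hs : n • s = 0) :
    ∃ ψ : EtPBC.extZeroConst V (ZMod n) ⟶ F,
      ∀ (Q : EtCoh.Ab X) (π : F ⟶ Q), ψ ≫ π = 0 → π.hom.app (op V) s = 0 := by
  let g : ZMod n →+ F.obj.obj (op V) :=
    ZMod.lift n ⟨zmultiplesHom _ s, by simp only [zmultiplesHom_apply, natCast_zsmul, hs]⟩
  let M' : AddCommGrpCat.{u + 1} := AddCommGrpCat.of (ULift.{u + 1} (ZMod n))
  let a : M' ⟶ F.obj.obj (op V) := AddCommGrpCat.ofHom (g.comp AddEquiv.ulift.toAddMonoidHom)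
  let adj := (constantSheafAdj (X.smallEtaleTopology.over V) AddCommGrpCat.{u + 1}
    (Over.mkIdTerminal (X := V))).comp (EtPBC.extZeroAdj V)
  refine ⟨(adj.homEquiv M' F).symm a, fun Q π h => ?_⟩
  have h2 := congrArg (adj.homEquiv M' Q) h
  have h0 : adj.homEquiv M' Q 0 = 0 := by
    rw [Adjunction.homEquiv_unit]
    exact comp_zero
  rw [adj.homEquiv_naturality_right, Equiv.apply_symm_apply, h0] at h2
  have h3 := ConcreteCategory.congr_hom h2 (ULift.up ((1 : ℤ) : ZMod n))
  rw [ConcreteCategory.comp_apply] at h3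
  have ha : a (ULift.up ((1 : ℤ) : ZMod n)) = s := by
    change g ((1 : ℤ) : ZMod n) = s
    rw [ZMod.lift_coe]
    exact one_zsmul s
  exact (congrArg (π.hom.app (op V)) ha).symm.trans h3

theorem nsmul_id_extZeroConst (V : X.Etale) (n : ℕ) : n • 𝟙 (EtPBC.extZeroConst V (ZMod n)) = 0 := by
  let M' : AddCommGrpCat.{u + 1} := AddCommGrpCat.of (ULift.{u + 1} (ZMod n))
  let R := X.smallEtaleTopology.overPullback AddCommGrpCat.{u + 1} V ⋙
      (sheafSections (X.smallEtaleTopology.over V) AddCommGrpCat.{u + 1}).obj (op (Over.mk (𝟙 V)))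
  let adj := (constantSheafAdj (X.smallEtaleTopology.over V) AddCommGrpCat.{u + 1}
    (Over.mkIdTerminal (X := V))).comp (EtPBC.extZeroAdj V)
  haveI : R.Additive := ⟨rfl⟩
  have h0 : n • 𝟙 M' = 0 := by
    ext m

    change n • m.down = (0 : ZMod n)
    rw [nsmul_eq_mul, ZMod.natCast_self, zero_mul]
  apply (adj.homEquiv M' _).injective
  rw [Adjunction.homEquiv_unit, Adjunction.homEquiv_unit]
  have h1 : R.map (n • 𝟙 (EtPBC.extZeroConst V (ZMod n))) = n • 𝟙 _ :=
    (R.map_nsmul).trans (congrArg (n • ·) (R.map_id _))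
  refine (congrArg (adj.unit.app M' ≫ ·) h1).trans ?_
  refine ((Preadditive.comp_nsmul _ _ _).trans (congrArg (n • ·) (Category.comp_id _))).trans ?_
  refine Eq.trans ?_ ((congrArg (adj.unit.app M' ≫ ·) (R.map_zero _ _)).trans comp_zero).symm
  have h2 := congrArg (· ≫ adj.unit.app M') h0
  exact ((congrArg (n • ·) (Category.id_comp _)).symm.trans (Preadditive.nsmul_comp _ _ _).symm).trans
    (h2.trans zero_comp)

theorem subsingleton_stalk_of_notMem_supp (F : EtCoh.Ab X) {Ω : Type u} [Field Ω] [IsSepClosed Ω]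
    (ξ : Spec (CommRingCat.of Ω) ⟶ X) (h : ξ.base default ∉ EtPBC.supp F) :
    Subsingleton ((EtCoh.stalk ξ).obj F) := by
  refine subsingleton_of_forall_eq 0 fun p => ?_
  obtain ⟨U, z, s, rfl⟩ := germ_surjective ξ F p
  exact (germ_eq_zero_iff F z s).2 fun hz =>
    h ((mem_supp_iff F _ ξ rfl).2 ⟨U, ptOf z, s, LC.ptOf_base z, hz⟩)

theorem notMem_supp_of_subsingleton (F : EtCoh.Ab X) {Ω : Type u} [Field Ω] [IsSepClosed Ω]
    (ξ : Spec (CommRingCat.of Ω) ⟶ X) [Subsingleton ((EtCoh.stalk ξ).obj F)] :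
    ξ.base default ∉ EtPBC.supp F := fun h => by
  obtain ⟨V, v, s, hv, hs⟩ := (mem_supp_iff F _ ξ rfl).1 h
  obtain ⟨w, hw⟩ := exists_fiber_over v ξ hv.symm
  exact (germ_eq_zero_iff F w s).1 (Subsingleton.elim _ _) (hw ▸ hs)

theorem isZero_of_supp_eq_empty (F : EtCoh.Ab X) (h : ∀ x, x ∉ EtPBC.supp F) : IsZero F := by
  rw [IsZero.iff_id_eq_zero]
  refine ObjectProperty.hom_ext _ (NatTrans.ext (funext fun U' => ?_))
  obtain ⟨U⟩ := U'
  ext s
  refine sect_ext _ _ fun Ω _ _ ξ z => ?_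
  haveI := subsingleton_stalk_of_notMem_supp F ξ (h _)
  exact Subsingleton.elim _ _

theorem exists_gen_at (F : EtCoh.Ab X) (hF : EtPBC.IsConstructible F) {n : ℕ}
    (hn : EtCoh.KilledBy n F) (x : X) :
    ∃ (a : ℕ) (V : Fin a → X.Etale) (_ : ∀ j, IsAffine (V j).left)
      (ψ : (⨁ fun j => EtPBC.extZeroConst (V j) (ZMod n)) ⟶ F), x ∉ EtPBC.supp (cokernel ψ) := by
  haveI := finite_stalk_of_isConstructible F hF (geomPt x)
  obtain ⟨a, ⟨e⟩⟩ := Finite.exists_equiv_fin ((EtCoh.stalk (geomPt x)).obj F)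
  have key : ∀ p : (EtCoh.stalk (geomPt x)).obj F, ∃ (P : X.Etale) (_ : IsAffine P.left)
      (z : (Scheme.pointSmallEtale (geomPt x)).fiber.obj P) (s : EtCoh.sect F P),
      germ (geomPt x) F P z s = p := by
    intro p
    obtain ⟨V, z, s, rfl⟩ := germ_surjective (geomPt x) F p
    obtain ⟨B, hB, hvB, -⟩ := exists_isAffineOpen_mem_and_subset (X := V.left) (x := ptOf z) (U := ⊤) trivial
    haveI : Etale V.hom := V.prop
    let P : X.Etale := MorphismProperty.Over.mk ⊤ (B.ι ≫ V.hom) (inferInstanceAs (Etale _))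
    let j : P ⟶ V := MorphismProperty.Over.homMk B.ι rfl trivial
    obtain ⟨z', hz', -⟩ := LC.exists_fiber_map j z (⟨ptOf z, hvB⟩ : B.toScheme) rfl
    refine ⟨P, hB, z', F.obj.map j.op s, ?_⟩
    exact ((Scheme.pointSmallEtale (geomPt x)).toPresheafFiber_w_apply j z' F.obj s).trans
      (congrArg (fun v => germ (geomPt x) F V v s) hz')
  choose P hP z s hs using key
  choose ψ hψ using fun i : Fin a => exists_hom_extZeroConst_killed n (s (e.symm i)) (hn _ _)
  refine ⟨a, fun i => P (e.symm i), fun i => hP _, biproduct.desc ψ, ?_⟩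
  let π := cokernel.π (biproduct.desc ψ)
  suffices Subsingleton ((EtCoh.stalk (geomPt x)).obj (cokernel (biproduct.desc ψ))) by
    have h := notMem_supp_of_subsingleton (cokernel (biproduct.desc ψ)) (geomPt x)
    rwa [geomPt_base] at h
  refine subsingleton_of_forall_eq 0 fun q => ?_
  haveI : PreservesFiniteColimits (EtCoh.stalk (geomPt x)) := by
    haveI := ((Scheme.pointSmallEtale (geomPt x)).skyscraperSheafAdjunction
      (A := AddCommGrpCat.{u + 1})).leftAdjoint_preservesColimits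
    exact PreservesColimitsOfSize.preservesFiniteColimits.{0, 0} _
  obtain ⟨p, rfl⟩ := (AddCommGrpCat.epi_iff_surjective ((EtCoh.stalk (geomPt x)).map π)).1 inferInstance q
  obtain ⟨i, rfl⟩ := e.symm.surjective p
  have h0 : π.hom.app _ (s (e.symm i)) = 0 := hψ i _ π (by
    rw [← biproduct.ι_desc ψ i, Category.assoc, cokernel.condition, comp_zero])
  rw [← hs (e.symm i)]
  refine (germ_naturality _ π _ _ _).trans ?_
  rw [h0]
  exact map_zero _

variable [CompactSpace X] [QuasiSeparatedSpace X]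

theorem isConstructible_biproduct_extZeroConst {n : ℕ} [NeZero n] {a : ℕ} (V : Fin a → X.Etale)
    (hV : ∀ j, IsAffine (V j).left) :
    EtPBC.IsConstructible (⨁ fun j => EtPBC.extZeroConst (V j) (ZMod n)) := by
  refine isConstructible_biproduct _ fun j => ?_
  haveI := hV j
  exact isConstructible_extZeroConst (V j) (ZMod n)

/-- Constructible sheaves killed by `n` are quotients of finite sums of `j_! ℤ/n`. -/
theorem exists_epi_extZeroConst (F : EtCoh.Ab X) (hF : EtPBC.IsConstructible F) (n : ℕ) [NeZero n]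
    (hn : EtCoh.KilledBy n F) :
    ∃ (a : ℕ) (V : Fin a → X.Etale) (_ : ∀ j, IsAffine (V j).left)
      (ψ : (⨁ fun j => EtPBC.extZeroConst (V j) (ZMod n)) ⟶ F), Epi ψ := by
  choose a V hV ψ hψ using exists_gen_at F hF hn
  have hc : ∀ x, IsConstructible (EtPBC.supp (cokernel (ψ x)))ᶜ := fun x =>
    ((isLocallyConstructible_supp _ (isConstructible_kernel_cokernel (ψ x)
      (isConstructible_biproduct_extZeroConst (V x) (hV x)) hF).2).isConstructible).compl
  obtain ⟨t, ht⟩ := @IsCompact.elim_finite_subcover X (constructibleTopology X) Set.univ X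
    (@isCompact_univ X (constructibleTopology X) (Groth.Agent.H28Top.compactSpace_constr X))
    (fun x => (EtPBC.supp (cokernel (ψ x)))ᶜ)
    (fun x => Groth.Agent.H28Top.isOpen_constr_of_isConstructible (hc x))
    (fun x _ => Set.mem_iUnion.2 ⟨x, hψ x⟩)
  let ι := Σ x : ↥t, Fin (a x.1)
  let e := (Fintype.equivFin ι).symm
  let W : Fin (Fintype.card ι) → X.Etale := fun k => V (e k).1.1 (e k).2
  let φ : (⨁ fun k => EtPBC.extZeroConst (W k) (ZMod n)) ⟶ F :=
    biproduct.desc fun k => biproduct.ι (fun j => EtPBC.extZeroConst (V (e k).1.1 j) (ZMod n)) (e k).2 ≫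
      ψ (e k).1.1
  refine ⟨_, W, fun k => hV _ _, φ, Preadditive.epi_of_cokernel_zero
    ((isZero_of_supp_eq_empty _ fun y hy => ?_).eq_of_tgt _ _)⟩
  obtain ⟨x, hx, hyx⟩ := Set.mem_iUnion₂.1 (ht (Set.mem_univ y))
  refine hyx ?_
  have h0 : ψ x ≫ cokernel.π φ = 0 := by
    refine biproduct.hom_ext' _ _ fun j => ?_
    rw [comp_zero, ← Category.assoc]
    suffices ∀ q : ι, (biproduct.ι (fun i => EtPBC.extZeroConst (V q.1.1 i) (ZMod n)) q.2 ≫ ψ q.1.1) ≫
        cokernel.π φ = 0 from this ⟨⟨x, hx⟩, j⟩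
    intro q
    obtain ⟨k, rfl⟩ := e.surjective q
    have := biproduct.ι (fun k => EtPBC.extZeroConst (W k) (ZMod n)) k ≫= cokernel.condition φ
    rw [comp_zero, ← Category.assoc, biproduct.ι_desc] at this
    exact this
  let d : cokernel (ψ x) ⟶ cokernel φ := cokernel.desc (ψ x) (cokernel.π φ) h0
  haveI : Epi d := epi_of_epi_fac (cokernel.π_desc _ _ h0)
  haveI : ∀ (Ω : Type u) [Field Ω] [IsSepClosed Ω] (ξ : Spec (CommRingCat.of Ω) ⟶ X),
      PreservesFiniteColimits (EtCoh.stalk ξ) := fun Ω _ _ ξ => by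
    haveI := ((Scheme.pointSmallEtale ξ).skyscraperSheafAdjunction
      (A := AddCommGrpCat.{u + 1})).leftAdjoint_preservesColimits
    exact PreservesColimitsOfSize.preservesFiniteColimits.{0, 0} _
  by_contra hnot
  have hb : (geomPt y).base default = y := geomPt_base y
  haveI := subsingleton_stalk_of_notMem_supp (cokernel (ψ x)) (geomPt y) (by rw [hb]; exact hnot)
  haveI : Subsingleton ((EtCoh.stalk (geomPt y)).obj (cokernel φ)) :=
    ((AddCommGrpCat.epi_iff_surjective ((EtCoh.stalk (geomPt y)).map d)).1 inferInstance).subsingleton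
  exact notMem_supp_of_subsingleton (cokernel φ) (geomPt y) (by rw [hb]; exact hy)

/-- Constructible sheaves killed by `n` have a finite presentation by sums of `j_! ℤ/n`. -/
theorem exists_presentation (F : EtCoh.Ab X) (hF : EtPBC.IsConstructible F) (n : ℕ) [NeZero n]
    (hn : EtCoh.KilledBy n F) :
    ∃ (a b : ℕ) (V : Fin a → X.Etale) (U : Fin b → X.Etale) (_ : ∀ j, IsAffine (V j).left)
      (_ : ∀ i, IsAffine (U i).left)
      (φ : (⨁ fun j => EtPBC.extZeroConst (V j) (ZMod n)) ⟶ ⨁ fun i => EtPBC.extZeroConst (U i) (ZMod n)),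
      Nonempty (F ≅ cokernel φ) := by
  obtain ⟨b, U, hU, ψ, _⟩ := exists_epi_extZeroConst F hF n hn
  have hK : EtPBC.IsConstructible (kernel ψ) :=
    (isConstructible_kernel_cokernel ψ (isConstructible_biproduct_extZeroConst U hU) hF).1
  have hB : n • 𝟙 (⨁ fun i => EtPBC.extZeroConst (U i) (ZMod n)) = 0 :=
    biproduct.hom_ext' _ _ fun i => by
      rw [comp_zero, Preadditive.comp_nsmul, Category.comp_id, ← Category.id_comp (biproduct.ι _ i),
        ← Preadditive.nsmul_comp, nsmul_id_extZeroConst, zero_comp]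
  have hK0 : n • 𝟙 (kernel ψ) = 0 := by
    rw [← cancel_mono (kernel.ι ψ), Preadditive.nsmul_comp, Category.id_comp, zero_comp,
      ← Category.comp_id (kernel.ι ψ), ← Preadditive.comp_nsmul, hB, comp_zero]
  have hKn : EtCoh.KilledBy n (kernel ψ) := fun W s => by
    have h := ConcreteCategory.congr_hom (congrArg (fun f : kernel ψ ⟶ kernel ψ => f.hom.app (op W)) hK0) s
    exact h
  obtain ⟨a, V, hV, χ, _⟩ := exists_epi_extZeroConst (kernel ψ) hK n hKn
  refine ⟨a, b, V, U, hV, hU, χ ≫ kernel.ι ψ, ⟨?_⟩⟩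
  exact ((Abelian.epiIsCokernelOfKernel (f := ψ) _ (limit.isLimit (parallelPair ψ 0))).coconePointUniqueUpToIso
    (cokernelIsCokernel (kernel.ι ψ))) ≪≫ (cokernelEpiComp χ (kernel.ι ψ)).symm

end Groth.Agent.H18Et.Cons
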