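import Groth.Agent.H18Et.Cons.ExtZero
import Groth.Agent.H18Et.ConstSheaf
import Groth.Prelude.Def_PBC

/-!
# Extension by zero of constant sheaves
-/

set_option backward.isDefEq.respectTransparency false
set_option backward.isDefEq.respectTransparency.types false

universe u

open CategoryTheory CategoryTheory.Limits AlgebraicGeometry Opposite Topology

namespace Groth.Agent.H18Et.LC

open scoped Groth.Agent.H18Et

variable {X : Scheme.{u}}

theorem isFiniteLocallyConstant_const (M : AddCommGrpCat.{u + 1}) [Finite M] :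
    EtCoh.IsFiniteLocallyConstant ((constantSheaf X.smallEtaleTopology AddCommGrpCat.{u + 1}).obj M) := by
  refine (isFiniteLocallyConstant_iff _).2 ⟨PUnit, fun _ => EtCoh.top X, fun x => ⟨PUnit.unit, x, rfl⟩,
    fun _ => ⟨M, inferInstance,
      (toSheafify X.smallEtaleTopology ((Functor.const X.Etaleᵒᵖ).obj M)).app (op (EtCoh.top X)), ?_⟩⟩
  refine isConstOn_of_bijective fun Ω _ _ ξ x => ?_
  have h := Groth.Agent.H18Et.ConstSheaf.isConstant_unitTop (X := X) M Ω ξ (EtCoh.top X) x
  simp only [Groth.Agent.H18Et.ConstSheaf.rest_unitTop] at h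
  exact h

end Groth.Agent.H18Et.LC

namespace Groth.Agent.H18Et.Cons

open scoped Groth.Agent.H18Et

variable {X : Scheme.{u}}

/-- The etale `X`-scheme `U` is the image of the final object of its small etale site. -/
noncomputable def topIso (U : X.Etale) (f : U.left ⟶ X) (hf : f = U.hom) [Etale f] :
    (EtShriek.compEtale f).obj (EtCoh.top U.left) ≅ U :=
  MorphismProperty.Over.isoMk (Iso.refl _) (by subst hf; rfl)

theorem isConstructible_extZeroConst [CompactSpace X] [QuasiSeparatedSpace X] (U : X.Etale)
    [CompactSpace U.left] [QuasiSeparatedSpace U.left] (M : Type) [AddCommGroup M] [Finite M] :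
    EtPBC.IsConstructible (EtPBC.extZeroConst U M) := by
  let f : U.left ⟶ X := U.hom
  haveI : Etale f := U.prop
  haveI : EtShriek.JCont f := Groth.Agent.H18Et.jCont f
  let M' : AddCommGrpCat.{u + 1} := AddCommGrpCat.of (ULift.{u + 1} M)
  haveI : Finite M' := inferInstanceAs (Finite (ULift.{u + 1} M))
  let hT : IsTerminal (Over.mk (𝟙 U) : Over U) := Over.mkIdTerminal
  let adj₁ := (constantSheafAdj (X.smallEtaleTopology.over U) AddCommGrpCat.{u + 1} hT).comp (EtPBC.extZeroAdj U)
  let adj₂ := (constantSheafAdj U.left.smallEtaleTopology AddCommGrpCat.{u + 1}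
    (EtCore.topIsTerminal U.left)).comp (EtShriek.extZeroAdj f)
  let e : X.smallEtaleTopology.overPullback AddCommGrpCat.{u + 1} U ⋙
      (sheafSections (X.smallEtaleTopology.over U) AddCommGrpCat.{u + 1}).obj (op (Over.mk (𝟙 U))) ≅
      EtShriek.restrAlong f ⋙
        (sheafSections U.left.smallEtaleTopology AddCommGrpCat.{u + 1}).obj (op (EtCoh.top U.left)) :=
    (sheafSections X.smallEtaleTopology AddCommGrpCat.{u + 1}).mapIso (topIso U f rfl).op
  refine isConstructible_of_iso ((((adj₁.ofNatIsoRight e).leftAdjointUniq adj₂).app M').symm) ?_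
  exact isConstructible_extZero f _ (LC.isFiniteLocallyConstant_const M')

end Groth.Agent.H18Et.Cons
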