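import Groth.Agent.H18Et.Cons.Apply
import Groth.Agent.H18Et.LC.Criterion

/-!
# Criteria for constructibility
-/

set_option backward.isDefEq.respectTransparency false
set_option backward.isDefEq.respectTransparency.types false

universe w u

open CategoryTheory CategoryTheory.Limits AlgebraicGeometry Topology Opposite

namespace Groth.Agent.H18Et.LC

open scoped Groth.Agent.H18Et

section General

variable {C D : Type*} [Category C] [Category D] {J : GrothendieckTopology C}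
  {K : GrothendieckTopology D} (Φ : GrothendieckTopology.Point.{w} K) (F : C ⥤ D)
  [RepresentablyFlat F] (hF : CoverPreserving J K F) [InitiallySmall (F ⋙ Φ.fiber).Elements]
  {A : Type*} [Category A] [HasProducts.{w} A] [Functor.IsContinuous F J K]
  [(F.sheafPushforwardContinuous A J K).IsRightAdjoint] [HasColimitsOfSize.{w, w} A]

theorem isIso_germ_unit_iff {Ψ : GrothendieckTopology.Point.{w} J} (θ : Φ.comap F hF ≅ Ψ)
    (G : Sheaf J A) (U : C) (x : Φ.fiber.obj (F.obj U)) {M : A} (c : M ⟶ G.obj.obj (op U)) :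
    IsIso ((c ≫ ((F.sheafAdjunctionContinuous A J K).unit.app G).hom.app (op U)) ≫
      Φ.toPresheafFiber (F.obj U) x ((F.sheafPullback A J K).obj G).obj) ↔
      IsIso (c ≫ Ψ.toPresheafFiber U (θ.inv.hom.app U x) G.obj) := by
  have hz : θ.hom.hom.app U (θ.inv.hom.app U x) = x := by
    have := congrArg (fun k => GrothendieckTopology.Point.Hom.hom k) θ.hom_inv_id
    exact ConcreteCategory.congr_hom (congrArg (fun k => NatTrans.app k U) this) x
  have key := toPresheafFiber_hom_sheafFiberComapIso_hom Φ F hF A θ.hom G U (θ.inv.hom.app U x)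
  rw [hz] at key
  haveI : IsIso (θ.hom.sheafFiber.app G : Ψ.sheafFiber.obj G ⟶ (Φ.comap F hF).sheafFiber.obj G) := by
    refine ⟨θ.inv.sheafFiber.app G, ?_, ?_⟩
    · rw [← NatTrans.comp_app, ← GrothendieckTopology.Point.Hom.sheafFiber_comp, Iso.inv_hom_id,
        GrothendieckTopology.Point.Hom.sheafFiber_id]
      rfl
    · rw [← NatTrans.comp_app, ← GrothendieckTopology.Point.Hom.sheafFiber_comp, Iso.hom_inv_id,
        GrothendieckTopology.Point.Hom.sheafFiber_id]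
      rfl
  rw [Category.assoc, ← key, ← Category.assoc]
  exact ⟨fun h => IsIso.of_isIso_comp_right _ (θ.hom.sheafFiber.app G ≫
    (Φ.sheafFiberComapIso F hF A).hom.app G), fun h => inferInstance⟩

end General

variable {X Y : Scheme.{u}} {Ω Ω' : Type u} [Field Ω] [IsSepClosed Ω] [Field Ω'] [IsSepClosed Ω']

/-- Geometric points lift along preimmersions. -/
theorem exists_lift_geom {T : Scheme.{u}} (g : T ⟶ X) [IsPreimmersion g]
    (ξ : Spec (CommRingCat.of Ω) ⟶ X) (t : T) (h : g t = ξ.base default) :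
    ∃ ξ' : Spec (CommRingCat.of Ω) ⟶ T, ξ' ≫ g = ξ ∧ ξ'.base default = t := by
  obtain ⟨⟨x, a⟩, rfl⟩ := (Scheme.SpecToEquivOfField Ω X).symm.surjective ξ
  obtain rfl : g t = x := by
    rw [h]; simp [Scheme.SpecToEquivOfField]
  have hs : Function.Surjective (g.residueFieldMap t) := by
    intro r
    obtain ⟨r, rfl⟩ := T.residue_surjective t r
    obtain ⟨s, rfl⟩ := g.stalkMap_surjective t r
    exact ⟨X.residue _ s, ConcreteCategory.congr_hom (Scheme.residue_residueFieldMap g t) s⟩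
  haveI : IsIso (g.residueFieldMap t) :=
    (ConcreteCategory.isIso_iff_bijective _).2 ⟨RingHom.injective _, hs⟩
  refine ⟨(Scheme.SpecToEquivOfField Ω T).symm ⟨t, inv (g.residueFieldMap t) ≫ a⟩, ?_, ?_⟩
  · simp only [Scheme.SpecToEquivOfField, Equiv.coe_fn_symm_mk, Category.assoc]
    rw [← Scheme.Hom.SpecMap_residueFieldMap_fromSpecResidueField g t, ← Category.assoc, ← Spec.map_comp,
      IsIso.hom_inv_id_assoc]
  · simp [Scheme.SpecToEquivOfField]

theorem range_geom (ξ : Spec (CommRingCat.of Ω) ⟶ X) : Set.range ξ = {ξ.base default} := by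
  haveI : Subsingleton ↥(Spec (CommRingCat.of Ω)) := inferInstanceAs (Subsingleton (PrimeSpectrum _))
  refine Set.eq_singleton_iff_unique_mem.2 ⟨⟨default, rfl⟩, ?_⟩
  rintro _ ⟨y, rfl⟩
  rw [Subsingleton.elim y default]

theorem geom_base_of_range {ξ : Spec (CommRingCat.of Ω) ⟶ X} {x : X} (h : Set.range ξ = {x}) :
    ξ.base default = x :=
  Set.mem_singleton_iff.1 (h ▸ Set.mem_range_self _)

theorem ptOf_fiberCompIso (f : X ⟶ Y) (ξ : Spec (CommRingCat.of Ω) ⟶ X) (U : Y.Etale)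
    (x : (Scheme.pointSmallEtale ξ).fiber.obj ((EtCoh.bc f).obj U)) :
    ptOf ((fiberCompIso f ξ).hom.app U x) =
      (pullback.fst U.hom f : ((EtCoh.bc f).obj U).left ⟶ U.left) (ptOf x) := rfl

theorem exists_geom_over (x : X) : ∃ (Ω : Type u) (_ : Field Ω) (_ : IsSepClosed Ω)
    (ξ : Spec (CommRingCat.of Ω) ⟶ X), ξ.base default = x :=
  ⟨_, inferInstance, inferInstance, geomPt x, geomPt_base x⟩

/-- A specialisation of geometric points moves the point of a lift to a generisation. -/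
theorem specializes_of_hom {ξ : Spec (CommRingCat.of Ω) ⟶ X} {ξ' : Spec (CommRingCat.of Ω') ⟶ X}
    (φ : Scheme.pointSmallEtale ξ' ⟶ Scheme.pointSmallEtale ξ) {U : X.Etale}
    (x : (Scheme.pointSmallEtale ξ).fiber.obj U) : ptOf (φ.hom.app U x) ⤳ ptOf x := by
  refine specializes_iff_forall_open.2 fun V hV hx => ?_
  let V' : U.left.Opens := ⟨V, hV⟩
  let W : X.Etale := MorphismProperty.Over.mk ⊤ (V'.ι ≫ U.hom)
    (haveI : Etale U.hom := U.prop; inferInstanceAs (Etale _))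
  let g : W ⟶ U := MorphismProperty.Over.homMk V'.ι rfl trivial
  obtain ⟨a, ha, -⟩ := exists_lift_geom (V'.ι : V'.toScheme ⟶ U.left)
    (x.left : Spec (CommRingCat.of Ω) ⟶ U.left) ⟨ptOf x, hx⟩ rfl
  let w : (Scheme.pointSmallEtale ξ).fiber.obj W :=
    Over.homMk a ((Category.assoc _ _ _).symm.trans ((congrArg (· ≫ U.hom) ha).trans (Over.w x)))
  have hw : (Scheme.pointSmallEtale ξ).fiber.map g w = x := Over.OverMorphism.ext ha
  have key : φ.hom.app U ((Scheme.pointSmallEtale ξ).fiber.map g w) =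
      (Scheme.pointSmallEtale ξ').fiber.map g (φ.hom.app W w) :=
    ConcreteCategory.congr_hom (φ.hom.naturality g) w
  rw [← hw, key, ← ptOf_map]
  exact (ptOf (φ.hom.app W w)).2

theorem pt_eq_ptOf (ξ : Spec (CommRingCat.of Ω) ⟶ X) {U : X.Etale}
    (x : (Scheme.pointSmallEtale ξ).fiber.obj U) :
    SitePoints.pt (Scheme.pointSmallEtale ξ) x = ptOf x := by
  refine Inseparable.eq (inseparable_iff_forall_isOpen.2 fun A hA => ?_)
  let V' : U.left.Opens := ⟨A, hA⟩
  change SitePoints.pt (Scheme.pointSmallEtale ξ) x ∈ V' ↔ ptOf x ∈ V'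
  rw [← SitePoints.inP_iff]
  constructor
  · rintro ⟨W, g, w, e, r⟩
    rw [← e, ← ptOf_map]
    exact r _
  · intro hx
    let W : X.Etale := MorphismProperty.Over.mk ⊤ (V'.ι ≫ U.hom)
      (haveI : Etale U.hom := U.prop; inferInstanceAs (Etale _))
    let g : W ⟶ U := MorphismProperty.Over.homMk V'.ι rfl trivial
    obtain ⟨a, ha, -⟩ := exists_lift_geom (V'.ι : V'.toScheme ⟶ U.left)
      (x.left : Spec (CommRingCat.of Ω) ⟶ U.left) ⟨ptOf x, hx⟩ rfl
    exact ⟨W, g, Over.homMk a ((Category.assoc _ _ _).symm.trans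
      ((congrArg (· ≫ U.hom) ha).trans (Over.w x))), Over.OverMorphism.ext ha, fun z => z.2⟩

theorem stalk_iso_geomPt (ξ : Spec (CommRingCat.of Ω) ⟶ X) (F : EtCoh.Ab X) :
    Nonempty ((EtCoh.stalk ξ).obj F ≅ (EtCoh.stalk (geomPt (ξ.base default))).obj F) := by
  let p := Scheme.pointSmallEtale ξ
  have hx : SitePoints.x₀ p = ξ.base default := by
    rw [SitePoints.x₀, pt_eq_ptOf ξ]
    exact ptOf_base (U := EtCoh.top X) _
  obtain ⟨e⟩ := SitePoints.nonempty_iso p
  let θ : p ≅ Scheme.pointSmallEtale (SitePoints.ξ₀ p) :=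
    { hom := ⟨e.inv⟩, inv := ⟨e.hom⟩,
      hom_inv_id := GrothendieckTopology.Point.hom_ext e.hom_inv_id,
      inv_hom_id := GrothendieckTopology.Point.hom_ext e.inv_hom_id }
  have h1 : (EtCoh.stalk ξ).obj F ≅ (EtCoh.stalk (SitePoints.ξ₀ p)).obj F :=
    { hom := θ.inv.sheafFiber.app F
      inv := θ.hom.sheafFiber.app F
      hom_inv_id := by
        rw [← NatTrans.comp_app, ← GrothendieckTopology.Point.Hom.sheafFiber_comp, Iso.hom_inv_id,
          GrothendieckTopology.Point.Hom.sheafFiber_id]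
        rfl
      inv_hom_id := by
        rw [← NatTrans.comp_app, ← GrothendieckTopology.Point.Hom.sheafFiber_comp, Iso.inv_hom_id,
          GrothendieckTopology.Point.Hom.sheafFiber_id]
        rfl }
  rw [← hx]
  exact ⟨h1⟩

theorem stalk_iso_of_base_eq (ξ : Spec (CommRingCat.of Ω) ⟶ X) (ξ' : Spec (CommRingCat.of Ω') ⟶ X)
    (h : ξ.base default = ξ'.base default) (F : EtCoh.Ab X) :
    Nonempty ((EtCoh.stalk ξ).obj F ≅ (EtCoh.stalk ξ').obj F) := by
  obtain ⟨e⟩ := stalk_iso_geomPt ξ F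
  obtain ⟨e'⟩ := stalk_iso_geomPt ξ' F
  rw [h] at e
  exact ⟨e ≪≫ e'.symm⟩

end Groth.Agent.H18Et.LC

namespace Groth.Agent.H18Et.Cons

open scoped Groth.Agent.H18Et

variable {X : Scheme.{u}}

theorem isConstructible_of_isLocallyClosed [IsNoetherian X] {s : Set X} (hs : IsLocallyClosed s) :
    IsConstructible s := by
  obtain ⟨U, Z, hU, hZ, rfl⟩ := hs
  have hopen : ∀ V : Set X, IsOpen V → IsConstructible V := fun V hV =>
    (TopologicalSpace.NoetherianSpace.isCompact V).isConstructible hV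
  exact (hopen U hU).inter (by simpa using (hopen Zᶜ hZ.isOpen_compl).compl)

/-- A set of points described by an isomorphism invariant property of the stalks. -/
def stalkSet (F : EtCoh.Ab X) (P : AddCommGrpCat.{u + 1} → Prop) : Set X :=
  {x | ∃ (Ω : Type u) (_ : Field Ω) (_ : IsSepClosed Ω) (ξ : Spec (CommRingCat.of Ω) ⟶ X),
    Set.range ξ = {x} ∧ P ((EtCoh.stalk ξ).obj F)}

theorem stalk_iso_of_flc (F : EtCoh.Ab X) {T : Scheme.{u}} (g : T ⟶ X) [IsPreimmersion g]
    {W : T.Etale} {M : AddCommGrpCat.{u + 1}}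
    {c : M ⟶ ((EtCoh.pull g).obj F).obj.obj (op W)} (hc : LC.IsConstOn _ W c) (w : W.left)
    {Ω : Type u} [Field Ω] [IsSepClosed Ω] (ξ : Spec (CommRingCat.of Ω) ⟶ X)
    (hξ : ξ.base default = g (W.hom.base w)) : Nonempty ((EtCoh.stalk ξ).obj F ≅ M) := by
  obtain ⟨ξ', rfl, hξ'⟩ := LC.exists_lift_geom g ξ (W.hom.base w) hξ.symm
  obtain ⟨z, -⟩ := exists_fiber_over w ξ' hξ'
  haveI := hc.isIso ξ' z
  exact ⟨((stalkPullIso g ξ').app F).symm ≪≫ (asIso (c ≫ germ ξ' _ W z)).symm⟩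

theorem isClopen_stalkSet_of_flc (F : EtCoh.Ab X) (P : AddCommGrpCat.{u + 1} → Prop)
    (hP : ∀ {M N : AddCommGrpCat.{u + 1}}, (M ≅ N) → P M → P N) {T : Scheme.{u}} (g : T ⟶ X)
    [IsPreimmersion g] (h : FLC F g) : IsClopen (g ⁻¹' stalkSet F P) := by
  classical
  obtain ⟨ι, U, hU, hc⟩ := (LC.isFiniteLocallyConstant_iff _).1 h
  choose M hM c hc using hc
  refine isClopen_of_pieces (S := fun i => Set.range (U i).hom.base) (fun i => ?_)
    (fun t => (hU t).imp fun i ⟨y, hy⟩ => ⟨y, hy⟩) fun i => ?_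
  · haveI : Etale (U i).hom := (U i).prop
    exact (U i).hom.isOpenMap.isOpen_range
  · by_cases hz : P (M i)
    · left
      rintro t ⟨u, rfl⟩
      obtain ⟨Ω, _, _, ξ, hξ⟩ := LC.exists_geom_over (g ((U i).hom.base u))
      obtain ⟨e⟩ := stalk_iso_of_flc F g (hc i) u ξ hξ
      exact ⟨Ω, inferInstance, inferInstance, ξ, hξ ▸ LC.range_geom ξ, hP e.symm hz⟩
    · right
      rintro t ⟨u, rfl⟩ ⟨Ω, _, _, ξ, hξ, hp⟩
      obtain ⟨e⟩ := stalk_iso_of_flc F g (hc i) u ξ (LC.geom_base_of_range hξ)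
      exact hz (hP e hp)

theorem isLocallyConstructible_stalkSet (F : EtCoh.Ab X) (P : AddCommGrpCat.{u + 1} → Prop)
    (hP : ∀ {M N : AddCommGrpCat.{u + 1}}, (M ≅ N) → P M → P N) (hF : EtPBC.IsConstructible F) :
    IsLocallyConstructible (stalkSet F P) := by
  refine .of_isOpenCover (U := fun U : X.affineOpens => (U.1 : TopologicalSpace.Opens X))
    X.isBasis_affineOpens.isOpenCover fun U => ?_
  haveI : IsAffine U.1.toScheme := U.2
  obtain ⟨n, T, k, hk, hc, hu, hq⟩ := ((isConstructible_iff F).1 hF).covered (flc_precomp _) U.1.ι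
  refine IsConstructible.isLocallyConstructible ?_
  have e : (U.1.ι ⁻¹' stalkSet F P : Set U.1.toScheme) =
      ⋃ i, k i '' ((k i ≫ U.1.ι) ⁻¹' stalkSet F P) := by
    ext x
    simp only [Set.mem_iUnion, Set.mem_image, Set.mem_preimage]
    constructor
    · intro hx
      obtain ⟨i, t, rfl⟩ := Set.mem_iUnion.1 (hu.symm ▸ Set.mem_univ x : x ∈ ⋃ i, Set.range (k i))
      exact ⟨i, t, hx, rfl⟩
    · rintro ⟨i, t, ht, rfl⟩
      exact ht
  change IsConstructible (U.1.ι ⁻¹' stalkSet F P : Set U.1.toScheme)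
  rw [e]
  refine IsConstructible.iUnion fun i => ?_
  haveI := compactSpace_of_immersion (k i) (hc i)
  haveI := quasiSeparatedSpace_of_immersion (k i)
  have hcl := isClopen_stalkSet_of_flc F P hP _ (hq i)
  exact isConstructible_image (k i) (hc i) (hcl.1.isCompact.isConstructible hcl.2)

theorem finite_stalk_of_isConstructible (F : EtCoh.Ab X) (hF : EtPBC.IsConstructible F)
    {Ω : Type u} [Field Ω] [IsSepClosed Ω] (ξ : Spec (CommRingCat.of Ω) ⟶ X) :
    Finite ((EtCoh.stalk ξ).obj F) := by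
  obtain ⟨U, hU, hxU, -⟩ := exists_isAffineOpen_mem_and_subset (x := ξ.base default) (U := ⊤) trivial
  obtain ⟨n, T, k, hk, hc, hu, hq⟩ := covered_of_adaptedQ ((isConstructible_iff F).1 hF U hU)
  obtain ⟨i, t, ht⟩ := Set.mem_iUnion.1 (hu.symm ▸ Set.mem_univ _ :
    (⟨ξ.base default, hxU⟩ : U.toScheme) ∈ ⋃ i, Set.range (k i))
  obtain ⟨ι, W, hW, hd⟩ := (LC.isFiniteLocallyConstant_iff _).1 (hq i)
  obtain ⟨j, w, hw⟩ := hW t
  obtain ⟨M, hM, c, hc⟩ := hd j
  haveI := hk i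
  obtain ⟨e⟩ := stalk_iso_of_flc F (k i ≫ U.ι) hc w ξ (by
    rw [hw, Scheme.Hom.comp_apply, ht]
    rfl)
  exact Finite.of_equiv M e.symm.addCommGroupIsoToAddEquiv.toEquiv

/-- Noetherian induction form of constructibility. -/
theorem isConstructible_of_pieces [IsLocallyNoetherian X] (F : EtCoh.Ab X)
    (h : ∀ x : X, ∃ (V : X.Opens) (T : Scheme.{u}) (g : T ⟶ X), IsImmersion g ∧ x ∈ V ∧
      Set.range g = (V : Set X) ∩ closure {x} ∧ FLC F g) : EtPBC.IsConstructible F := by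
  rw [isConstructible_iff]
  refine locAdapted_of_covered (flc_precomp _) fun O hO => ?_
  haveI : IsAffine O.toScheme := hO
  haveI : IsLocallyNoetherian O.toScheme := isLocallyNoetherian_of_isOpenImmersion O.ι
  haveI : IsNoetherian O.toScheme := {}
  choose V T g hg hxV hr hq using fun y : O.toScheme => h (O.ι y)
  haveI := hg
  refine covered_of_constructible_immersions (flc_precomp _) (fun y => pullback O.ι (g y))
    (fun y => pullback.fst O.ι (g y)) (fun y => ?_) ?_ fun y => ?_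
  · exact isConstructible_of_isLocallyClosed (Scheme.Hom.isLocallyClosed_range _)
  · refine Set.eq_univ_of_forall fun y => Set.mem_iUnion.2 ⟨y, ?_⟩
    rw [Scheme.Pullback.range_fst, Set.mem_preimage, hr]
    exact ⟨hxV y, subset_closure rfl⟩
  · haveI : CompactSpace ↥(pullback O.ι (g y)) :=
      compactSpace_of_immersion (pullback.fst O.ι (g y))
        (isConstructible_of_isLocallyClosed (Scheme.Hom.isLocallyClosed_range _))
    refine Covered.of_finite (ι := Unit) (fun _ => pullback O.ι (g y)) (fun _ => 𝟙 _) ?_ ?_ ?_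
    · intro _
      simpa using IsConstructible.univ
    · simp [Set.iUnion_const]
    · intro _
      rw [Category.id_comp, pullback.condition]
      exact flc_precomp _ _ _ (hq y)

theorem exists_piece_of_isConstructible (F : EtCoh.Ab X) (hF : EtPBC.IsConstructible F) (x : X) :
    ∃ (V : X.Opens) (T : Scheme.{u}) (g : T ⟶ X), IsImmersion g ∧ x ∈ V ∧
      Set.range g = (V : Set X) ∩ closure {x} ∧ FLC F g := by
  obtain ⟨O, hO, hxO, -⟩ := exists_isAffineOpen_mem_and_subset (x := x) (U := ⊤) trivial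
  obtain ⟨n, T, g, hg, -, -, hu, hq⟩ := (isConstructible_iff F).1 hF O hO
  obtain ⟨i, t, rfl⟩ := Set.mem_iUnion.1 (hu.symm ▸ hxO : x ∈ ⋃ i, Set.range (g i))
  haveI := hg i
  obtain ⟨A, C, hA, hC, he⟩ := (g i).isLocallyClosed_range
  have hmem : g i t ∈ A ∩ C := he ▸ ⟨t, rfl⟩
  obtain ⟨Z, z, hz, hrz⟩ := exists_immersion_range ⟨A, hA⟩ (closure {g i t}) isClosed_closure
  haveI := hz
  refine ⟨⟨A, hA⟩, pullback z (g i), pullback.fst z (g i) ≫ z, inferInstance, hmem.1, ?_, ?_⟩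
  · rw [Scheme.Hom.comp_base, TopCat.coe_comp, Set.range_comp, Scheme.Pullback.range_fst,
      Set.image_preimage_eq_inter_range, hrz]
    refine Set.inter_eq_right.2 ?_
    rw [he]
    exact fun y hy => ⟨hy.1, hC.closure_subset_iff.2 (Set.singleton_subset_iff.2 hmem.2) hy.2⟩
  · rw [pullback.condition]
    exact flc_precomp _ _ _ (hq i)

theorem exists_open_point {V : Scheme.{u}} (f : V ⟶ X) [Etale f] (v : V) :
    ∃ O : V.Opens, v ∈ O ∧ ∀ w ∈ O, f w ∈ closure {f v} → v ⤳ w := by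
  classical
  obtain ⟨A, hA, hxA, -⟩ := exists_isAffineOpen_mem_and_subset (x := f v) (U := ⊤) trivial
  obtain ⟨B, hB, hvB, hBA⟩ := exists_isAffineOpen_mem_and_subset (X := V) (x := v) (U := f ⁻¹ᵁ A) hxA
  haveI : IsAffine A.toScheme := hA
  haveI : IsAffine B.toScheme := hB
  let a : B.toScheme ⟶ A.toScheme := f.resLE A B hBA
  haveI : Etale a := inferInstance
  haveI : IsAffineHom a := isAffineHom_of_isAffine a
  haveI : LocallyQuasiFinite a :=
    ((Groth.Agent.H06Unram.etale_iff_smooth_and_locallyQuasiFinite a).mp inferInstance).2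
  let S : Set B.toScheme := a ⁻¹' {a ⟨v, hvB⟩}
  have hfin : S.Finite := a.finite_preimage_singleton _
  have hdisc : _root_.IsDiscrete S := a.isDiscrete_preimage_singleton _
  let K : Set B.toScheme := ⋃ w ∈ S \ {⟨v, hvB⟩}, closure {w}
  have hK : IsClosed K := (hfin.subset Set.sdiff_subset).isClosed_biUnion fun w _ => isClosed_closure
  have hvK : (⟨v, hvB⟩ : B.toScheme) ∉ K := by
    intro h
    obtain ⟨w, ⟨hw, hwv⟩, hvw⟩ := Set.mem_iUnion₂.1 h
    have hvS : (⟨v, hvB⟩ : B.toScheme) ∈ S := rfl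
    obtain ⟨U, hU, hU'⟩ := SitePoints.exists_open_inter_eq_singleton hdisc hvS
    have hvU : (⟨v, hvB⟩ : B.toScheme) ∈ U := (hU'.ge rfl).1
    obtain ⟨w', hw'U, rfl⟩ := mem_closure_iff.1 hvw U hU hvU
    exact hwv (hU'.le ⟨hw'U, hw⟩)
  refine ⟨B.ι ''ᵁ ⟨Kᶜ, hK.isOpen_compl⟩, ⟨⟨v, hvB⟩, hvK, rfl⟩, ?_⟩
  rintro _ ⟨w, hw, rfl⟩ hcl
  haveI : Etale (B.ι ≫ f) := inferInstance
  obtain ⟨w₀, hw₀, hw₀f⟩ := Flat.generalizingMap (B.ι ≫ f)
    (specializes_iff_mem_closure.2 hcl : f v ⤳ (B.ι ≫ f) w)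
  have hS : a w₀ = a ⟨v, hvB⟩ := by
    apply A.ι.isOpenEmbedding.injective
    rw [← Scheme.Hom.comp_apply, ← Scheme.Hom.comp_apply, Scheme.Hom.resLE_comp_ι]
    exact hw₀f
  by_cases hwv : w₀ = ⟨v, hvB⟩
  · subst hwv
    exact hw₀.map B.ι.continuous
  · exact absurd (Set.mem_biUnion (show w₀ ∈ S \ {⟨v, hvB⟩} from ⟨hS, hwv⟩)
      (specializes_iff_mem_closure.1 hw₀)) hw

/-- The criterion along the closure of a point. -/
theorem exists_piece_of_epi [IsLocallyNoetherian X] (F : EtCoh.Ab X)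
    (hfin : ∀ (Ω : Type u) [Field Ω] [IsSepClosed Ω] (ξ : Spec (CommRingCat.of Ω) ⟶ X),
      Finite ((EtCoh.stalk ξ).obj F))
    (x : X) (V₀ : X.Opens) (hxV₀ : x ∈ V₀)
    (h : ∀ (Ω : Type u) [Field Ω] [IsSepClosed Ω] (ξ : Spec (CommRingCat.of Ω) ⟶ X)
      (φ : Scheme.pointSmallEtale (geomPt x) ⟶ Scheme.pointSmallEtale ξ)
      (M : AddCommGrpCat.{u + 1}) (f : M ⟶ (EtCoh.stalk ξ).obj F),
      ξ.base default ∈ (V₀ : Set X) ∩ closure {x} →
      IsIso (f ≫ (GrothendieckTopology.Point.Hom.sheafFiber (A := AddCommGrpCat.{u + 1}) φ).app F) →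
      IsIso f) :
    ∃ (V : X.Opens) (T : Scheme.{u}) (g : T ⟶ X), IsImmersion g ∧ x ∈ V ∧
      Set.range g = (V : Set X) ∩ closure {x} ∧ FLC F g := by
  obtain ⟨e, -⟩ := exists_fiber_over (U := EtCoh.top X) x (geomPt x) (geomPt_base x)
  haveI hM : Finite ((Scheme.pointSmallEtale (geomPt x)).sheafFiber.obj F : AddCommGrpCat.{u + 1}) :=
    hfin _ (geomPt x)
  obtain ⟨U, -, z, -, c, hc⟩ := LC.exists_hom_lift_ab (geomPt x) F e _ (𝟙 _)
  haveI : Etale U.hom := U.prop
  obtain ⟨O₁, hvO, hO⟩ := exists_open_point U.hom (ptOf z)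
  have hbase : U.hom (ptOf z) = x := (LC.ptOf_base z).trans (geomPt_base x)
  let O : U.left.Opens := O₁ ⊓ U.hom ⁻¹ᵁ V₀
  let V : X.Opens := ⟨U.hom '' (O : Set U.left), U.hom.isOpenMap _ O.2⟩
  obtain ⟨T, g, hg, hr⟩ := exists_immersion_range V (closure {x}) isClosed_closure
  haveI := hg
  refine ⟨V, T, g, hg, ⟨ptOf z, ⟨hvO, (show U.hom (ptOf z) ∈ V₀ by rw [hbase]; exact hxV₀)⟩, hbase⟩, hr, ?_⟩
  let W : X.Etale := MorphismProperty.Over.mk ⊤ (O.ι ≫ U.hom) (inferInstanceAs (Etale _))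
  let j : W ⟶ U := MorphismProperty.Over.homMk O.ι rfl trivial
  refine (LC.isFiniteLocallyConstant_iff _).2 ⟨PUnit, fun _ => (EtCoh.bc g).obj W, fun t => ?_,
    fun _ => ⟨_, hM, (c ≫ F.obj.map j.op) ≫ ((EtCoh.pullPushAdj g).unit.app F).hom.app (op W), ?_⟩⟩
  · have hmem : g t ∈ (V : Set X) ∩ closure {x} := hr ▸ ⟨t, rfl⟩
    obtain ⟨o, ho, hot⟩ := hmem.1
    obtain ⟨q, -, hq⟩ := Scheme.Pullback.exists_preimage_pullback (f := W.hom) (g := g)
      (⟨o, ho⟩ : O.toScheme) t ((Scheme.Hom.comp_apply _ _ _).trans hot)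
    exact ⟨PUnit.unit, q, hq⟩
  · intro Ω _ _ ξ' t
    refine (LC.isIso_germ_unit_iff (Scheme.pointSmallEtale ξ') (EtCoh.bc g)
      (EtCoh.coverPreserving_bc g) (pointCompIso g ξ') F W t (c ≫ F.obj.map j.op)).2 ?_
    let s := (fiberCompIso g ξ').hom.app W t
    change IsIso ((c ≫ F.obj.map j.op) ≫ germ (ξ' ≫ g) F W s)
    rw [Category.assoc, germ, GrothendieckTopology.Point.toPresheafFiber_w]
    let s' := (Scheme.pointSmallEtale (ξ' ≫ g)).fiber.map j s
    have hs' : ptOf s' ∈ O := (ptOf_map j s).symm ▸ (ptOf s).2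
    have hcl : U.hom (ptOf s') ∈ (V₀ : Set X) ∩ closure {x} := by
      refine ⟨hs'.2, ?_⟩
      have : U.hom (ptOf s') = g (ξ'.base default) :=
        (LC.ptOf_base s').trans (Scheme.Hom.comp_apply _ _ _)
      rw [this]
      exact (hr ▸ (⟨_, rfl⟩ : g (ξ'.base default) ∈ Set.range g) : _ ∈ (V : Set X) ∩ closure {x}).2
    obtain ⟨φ, hφ⟩ := LC.exists_specialization_lift s' z (hO _ hs'.1 (hbase.symm ▸ hcl.2))
    refine h Ω (ξ' ≫ g) φ _ _ ?_ ?_
    · rw [← LC.ptOf_base s']; exact hcl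
    · have e' := LC.germ_sheafFiber_hom φ F U s'
      rw [Category.assoc]
      erw [e']
      rw [hφ, hc]
      exact IsIso.id _

theorem isConstructible_of_mono_specialization [IsLocallyNoetherian X] (F : EtCoh.Ab X)
    (hfin : ∀ (Ω : Type u) [Field Ω] [IsSepClosed Ω] (ξ : Spec (CommRingCat.of Ω) ⟶ X),
      Finite ((EtCoh.stalk ξ).obj F))
    (hmono : ∀ (Ω Ω' : Type u) [Field Ω] [IsSepClosed Ω] [Field Ω'] [IsSepClosed Ω']
        (ξ : Spec (CommRingCat.of Ω) ⟶ X) (ξ' : Spec (CommRingCat.of Ω') ⟶ X)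
        (φ : Scheme.pointSmallEtale ξ' ⟶ Scheme.pointSmallEtale ξ),
        Mono ((GrothendieckTopology.Point.Hom.sheafFiber (A := AddCommGrpCat.{u + 1}) φ).app F)) :
    EtPBC.IsConstructible F := by
  refine isConstructible_of_pieces F fun x => exists_piece_of_epi F hfin x ⊤ trivial
    fun Ω _ _ ξ φ M f _ hi => ?_
  haveI := hmono _ _ _ _ φ
  haveI := hi
  haveI : Epi ((GrothendieckTopology.Point.Hom.sheafFiber (A := AddCommGrpCat.{u + 1}) φ).app F) :=
    epi_of_epi f _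
  haveI := isIso_of_mono_of_epi
    ((GrothendieckTopology.Point.Hom.sheafFiber (A := AddCommGrpCat.{u + 1}) φ).app F)
  exact IsIso.of_isIso_comp_right f
    ((GrothendieckTopology.Point.Hom.sheafFiber (A := AddCommGrpCat.{u + 1}) φ).app F)

theorem isConstructible_of_card [IsLocallyNoetherian X] (F : EtCoh.Ab X)
    (hfin : ∀ (Ω : Type u) [Field Ω] [IsSepClosed Ω] (ξ : Spec (CommRingCat.of Ω) ⟶ X),
      Finite ((EtCoh.stalk ξ).obj F))
    (h : ∀ n : ℕ, IsLocallyConstructible (stalkSet F fun M => Nat.card M = n)) :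
    EtPBC.IsConstructible F := by
  refine isConstructible_of_pieces F fun x => ?_
  obtain ⟨O, hO, hxO, -⟩ := exists_isAffineOpen_mem_and_subset (x := x) (U := ⊤) trivial
  haveI : IsAffine O.toScheme := hO
  let n := Nat.card ((EtCoh.stalk (geomPt x)).obj F)
  let E : Set O.toScheme := O.ι ⁻¹' stalkSet F (fun M => Nat.card M = n)
  have hE : IsConstructible E :=
    ((h n).preimage_of_isOpenEmbedding O.ι.isOpenEmbedding).isConstructible
  let x' : O.toScheme := ⟨x, hxO⟩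
  obtain ⟨W, hW, hxW, hWE⟩ : ∃ W : Set O.toScheme, IsOpen W ∧ x' ∈ W ∧ W ∩ closure {x'} ⊆ E := by
    obtain ⟨𝒰, hU, hdet⟩ := exists_opens_of_isConstructible hE
    classical
    refine ⟨(⋂ U ∈ 𝒰.filter (x' ∈ ·), U), isOpen_biInter_finset fun U hU' =>
      (hU U (Finset.mem_filter.1 hU').1).1, Set.mem_iInter₂.2 fun U hU' => (Finset.mem_filter.1 hU').2,
      fun y hy => ?_⟩
    refine (hdet x' y fun U hU' => ⟨fun hx => Set.mem_iInter₂.1 hy.1 U (Finset.mem_filter.2 ⟨hU', hx⟩),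
      fun hy' => (specializes_iff_mem_closure.2 hy.2).mem_open (hU U hU').1 hy'⟩).1 ?_
    exact ⟨_, inferInstance, inferInstance, geomPt x, (LC.range_geom _).trans (by rw [geomPt_base]; rfl), rfl⟩
  refine exists_piece_of_epi F hfin x (O.ι ''ᵁ ⟨W, hW⟩) ⟨x', hxW, rfl⟩ fun Ω _ _ ξ φ M f hξ hi => ?_
  obtain ⟨⟨y, hy, hye⟩, hcl⟩ := hξ
  have hyE : y ∈ E := hWE ⟨hy, by
    rw [← hye] at hcl
    rw [← specializes_iff_mem_closure]
    exact (subtype_specializes_iff _ _).2 (specializes_iff_mem_closure.2 hcl)⟩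
  obtain ⟨Ω', _, _, η, hη, hcard⟩ := hyE
  obtain ⟨e⟩ := LC.stalk_iso_of_base_eq ξ η (hye.symm.trans (LC.geom_base_of_range hη).symm) F
  have hc1 : Nat.card ((EtCoh.stalk ξ).obj F) = Nat.card ((EtCoh.stalk (geomPt x)).obj F) :=
    (Nat.card_congr e.addCommGroupIsoToAddEquiv.toEquiv).trans hcard
  haveI := hi
  let q := (GrothendieckTopology.Point.Hom.sheafFiber (A := AddCommGrpCat.{u + 1}) φ).app F
  have hb := ConcreteCategory.bijective_of_isIso (f ≫ q)
  have hbeq : ⇑(ConcreteCategory.hom (f ≫ q)) = q ∘ f := funext fun m => ConcreteCategory.comp_apply _ _ _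
  rw [hbeq] at hb
  rw [ConcreteCategory.isIso_iff_bijective]
  haveI := hfin _ ξ
  refine (Nat.bijective_iff_injective_and_card _).2 ⟨hb.1.of_comp, ?_⟩
  rw [Nat.card_congr (Equiv.ofBijective _ hb), hc1]

theorem range_eq_singleton_card (F : EtCoh.Ab X) (n : ℕ) :
    {x : X | ∃ (Ω : Type u) (_ : Field Ω) (_ : IsSepClosed Ω) (ξ : Spec (CommRingCat.of Ω) ⟶ X),
        Set.range ξ = {x} ∧ Nat.card ((EtCoh.stalk ξ).obj F) = n} =
      stalkSet F fun M => Nat.card M = n := rfl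

end Groth.Agent.H18Et.Cons
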