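import Groth.Agent.H18Et.Cons.Apply
import Groth.Agent.H18Et.LC.Apply
import Groth.Agent.H18Et.StalkSets

/-!
# Constructible sheaves: kernels, cokernels, extensions
-/

set_option backward.isDefEq.respectTransparency false
set_option backward.isDefEq.respectTransparency.types false

universe u

open CategoryTheory CategoryTheory.Limits AlgebraicGeometry Topology

namespace Groth.Agent.H18Et.Cons

open scoped Groth.Agent.H18Et

variable {X : Scheme.{u}}

theorem Covered.imp {Q Q' : ∀ {T : Scheme.{u}}, (T ⟶ X) → Prop} {W : Scheme.{u}} {f : W ⟶ X}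
    (h : Covered Q f) (hi : ∀ {T : Scheme.{u}} (g : T ⟶ X), Q g → Q' g) : Covered Q' f := by
  obtain ⟨n, T, k, h1, h2, h3, h4⟩ := h
  exact ⟨n, T, k, h1, h2, h3, fun i => hi _ (h4 i)⟩

theorem Covered.and {Q Q' : ∀ {T : Scheme.{u}}, (T ⟶ X) → Prop}
    (hQ : ∀ {T T' : Scheme.{u}} (p : T' ⟶ T) (g : T ⟶ X), Q g → Q (p ≫ g))
    (hQ' : ∀ {T T' : Scheme.{u}} (p : T' ⟶ T) (g : T ⟶ X), Q' g → Q' (p ≫ g))
    {W : Scheme.{u}} {f : W ⟶ X} (h : Covered Q f) (h' : Covered Q' f) :
    Covered (fun {T} (g : T ⟶ X) => Q g ∧ Q' g) f := by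
  obtain ⟨n, S, k, hk, hkc, hku, hkq⟩ := h
  obtain ⟨m, R, l, hl, hlc, hlu, hlq⟩ := h'
  haveI := hk
  haveI := hl
  have hr : ∀ p : Fin n × Fin m, Set.range (pullback.fst (k p.1) (l p.2) ≫ k p.1) =
      Set.range (k p.1) ∩ Set.range (l p.2) := fun p => by
    rw [Scheme.Hom.comp_base, TopCat.coe_comp, Set.range_comp, Scheme.Pullback.range_fst,
      Set.image_preimage_eq_inter_range, Set.inter_comm]
  refine Covered.of_finite (fun p : Fin n × Fin m => pullback (k p.1) (l p.2))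
    (fun p => pullback.fst _ _ ≫ k p.1) (fun p => ?_) ?_ fun p => ⟨?_, ?_⟩
  · rw [hr]; exact (hkc _).inter (hlc _)
  · refine Set.eq_univ_of_forall fun w => ?_
    obtain ⟨i, hi⟩ := Set.mem_iUnion.1 (hku.symm ▸ Set.mem_univ w : w ∈ ⋃ i, Set.range (k i))
    obtain ⟨j, hj⟩ := Set.mem_iUnion.1 (hlu.symm ▸ Set.mem_univ w : w ∈ ⋃ i, Set.range (l i))
    refine Set.mem_iUnion.2 ⟨(i, j), ?_⟩
    rw [hr]; exact ⟨hi, hj⟩
  · rw [Category.assoc]; exact hQ _ _ (hkq _)
  · rw [pullback.condition, Category.assoc]; exact hQ' _ _ (hlq _)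

theorem covered_affine {F : EtCoh.Ab X} (hF : EtPBC.IsConstructible F) (U : X.Opens) (hU : IsAffineOpen U) :
    Covered (FLC F) U.ι := covered_of_adaptedQ ((isConstructible_iff F).1 hF U hU)

theorem isConstructible_of_imp {F G H : EtCoh.Ab X} (hF : EtPBC.IsConstructible F)
    (hG : EtPBC.IsConstructible G)
    (h : ∀ {T : Scheme.{u}} (g : T ⟶ X), FLC F g → FLC G g → FLC H g) :
    EtPBC.IsConstructible H :=
  (isConstructible_iff H).2 (locAdapted_of_covered (flc_precomp _) fun U hU =>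
    ((covered_affine hF U hU).and (flc_precomp _) (flc_precomp _) (covered_affine hG U hU)).imp
      fun g hg => h g hg.1 hg.2)

theorem isConstructible_kernel_cokernel {F G : EtCoh.Ab X} (φ : F ⟶ G)
    (hF : EtPBC.IsConstructible F) (hG : EtPBC.IsConstructible G) :
    EtPBC.IsConstructible (kernel φ) ∧ EtPBC.IsConstructible (cokernel φ) := by
  refine ⟨isConstructible_of_imp hF hG fun g h1 h2 => ?_,
    isConstructible_of_imp hF hG fun g h1 h2 => ?_⟩
  · haveI := pull_preservesFiniteLimits g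
    exact LC.isFiniteLocallyConstant_of_iso (PreservesKernel.iso (EtCoh.pull g) φ).symm
      (LC.isFiniteLocallyConstant_kernel_cokernel ((EtCoh.pull g).map φ) h1 h2).1
  · exact LC.isFiniteLocallyConstant_of_iso (PreservesCokernel.iso (EtCoh.pull g) φ).symm
      (LC.isFiniteLocallyConstant_kernel_cokernel ((EtCoh.pull g).map φ) h1 h2).2

theorem isConstructible_extension (S : ShortComplex (EtCoh.Ab X)) (hS : S.ShortExact)
    (h₁ : EtPBC.IsConstructible S.X₁) (h₃ : EtPBC.IsConstructible S.X₃) :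
    EtPBC.IsConstructible S.X₂ :=
  isConstructible_of_imp h₁ h₃ fun g h1 h2 =>
    haveI := pull_preservesFiniteLimits g
    LC.isFiniteLocallyConstant_extension (hS.map_of_exact (EtCoh.pull g)) h1 h2

end Groth.Agent.H18Et.Cons
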