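import Groth.Agent.H18Et.LC.Locus
import Groth.Agent.H18Et.Cons.Serre
import Groth.Agent.H18Et.Cons.Criteria

/-!
# Subsheaves and quotients of constructible sheaves on Noetherian schemes
-/

set_option backward.isDefEq.respectTransparency false
set_option backward.isDefEq.respectTransparency.types false

universe u

open CategoryTheory CategoryTheory.Limits AlgebraicGeometry Opposite

namespace Groth.Agent.H18Et.Cons

open scoped Groth.Agent.H18Et

variable {X : Scheme.{u}} [IsLocallyNoetherian X] {F G : EtCoh.Ab X}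

theorem isConstructible_sub (ι : G ⟶ F) [Mono ι] (hF : EtPBC.IsConstructible F) :
    EtPBC.IsConstructible G := by
  have hinj : ∀ (Ω : Type u) [Field Ω] [IsSepClosed Ω] (ξ : Spec (CommRingCat.of Ω) ⟶ X),
      Mono ((EtCoh.stalk ξ).map ι) := (mono_iff_stalk ι).1 inferInstance
  have hfin : ∀ (Ω : Type u) [Field Ω] [IsSepClosed Ω] (ξ : Spec (CommRingCat.of Ω) ⟶ X),
      Finite ((EtCoh.stalk ξ).obj G) := fun Ω _ _ ξ =>
    haveI := finite_stalk_of_isConstructible F hF ξ
    Finite.of_injective _ ((AddCommGrpCat.mono_iff_injective _).1 (hinj Ω ξ))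
  refine isConstructible_of_pieces G fun x => ?_
  obtain ⟨V, T, g, hg, hxV, hr, hq⟩ := exists_piece_of_isConstructible F hF x
  haveI := hg
  refine exists_piece_of_epi G hfin x V hxV fun Ω _ _ ξ φ M f hξ hi => ?_
  have hx : (geomPt x).base default ∈ Set.range g := by
    rw [geomPt_base, hr]; exact ⟨hxV, subset_closure rfl⟩
  have hξ' : ξ.base default ∈ Set.range g := by rw [hr]; exact hξ
  haveI := LC.isIso_specialization_of_pull g F hq hξ' hx φ
  let q (H : EtCoh.Ab X) :=
    (GrothendieckTopology.Point.Hom.sheafFiber (A := AddCommGrpCat.{u + 1}) φ).app H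
  have hnat := (GrothendieckTopology.Point.Hom.sheafFiber (A := AddCommGrpCat.{u + 1}) φ).naturality ι
  haveI : Mono ((EtCoh.stalk ξ).map ι ≫ q F) := by
    haveI := hinj Ω ξ
    exact mono_comp _ _
  haveI : Mono (q G) := by
    haveI : Mono (q G ≫ (EtCoh.stalk (geomPt x)).map ι) := by
      rw [← hnat]; assumption
    exact mono_of_mono (q G) ((EtCoh.stalk (geomPt x)).map ι)
  haveI : IsIso (f ≫ q G) := hi
  haveI : Epi (q G) := epi_of_epi f _
  haveI := isIso_of_mono_of_epi (q G)
  exact IsIso.of_isIso_comp_right f (q G)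

theorem isConstructible_quotient {Q : EtCoh.Ab X} (π : F ⟶ Q) [Epi π] (hF : EtPBC.IsConstructible F) :
    EtPBC.IsConstructible Q := by
  have hK := isConstructible_sub (kernel.ι π) hF
  have hC := (isConstructible_kernel_cokernel (kernel.ι π) hK hF).2
  have e : cokernel (kernel.ι π) ≅ Q :=
    (cokernelIsCokernel (kernel.ι π)).coconePointUniqueUpToIso
      (Abelian.epiIsCokernelOfKernel _ (limit.isLimit (parallelPair π 0)))
  refine (isConstructible_iff Q).2 (locAdapted_of_covered (flc_precomp _) fun U hU => ?_)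
  exact (covered_affine hC U hU).imp fun g hg =>
    LC.isFiniteLocallyConstant_of_iso ((EtCoh.pull g).mapIso e) hg

end Groth.Agent.H18Et.Cons
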