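import Groth.Agent.H18Et.Cons.TorsionColim
import Groth.Agent.H18Et.Cons.Subsheaf

/-!
# Torsion sheaves supported in a specialization stable subset
-/

set_option backward.isDefEq.respectTransparency false
set_option backward.isDefEq.respectTransparency.types false

universe u

open CategoryTheory CategoryTheory.Limits AlgebraicGeometry Opposite Topology

namespace Groth.Agent.H18Et.Cons

open scoped Groth.Agent.H18Et

variable {X : Scheme.{u}}

/-- A point in the closure of a constructible subset of a noetherian scheme specializes from it. -/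
theorem exists_specializes_of_mem_closure [IsNoetherian X] {s : Set X} (hs : IsConstructible s) {y : X}
    (hy : y ∈ closure s) : ∃ x ∈ s, x ⤳ y := by
  by_contra! h
  have h' : ∀ x ∈ s, ∃ O : Set X, IsOpen O ∧ y ∈ O ∧ x ∉ O := fun x hx => by
    have := h x hx
    rw [specializes_iff_forall_open] at this
    push Not at this
    exact this
  choose O hO hyO hxO using h'
  have hK : @IsCompact X (constructibleTopology X) s :=
    @IsClosed.isCompact X (constructibleTopology X) s (Groth.Agent.H28Top.compactSpace_constr X)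
      ((@isOpen_compl_iff X s (constructibleTopology X)).1
        (Groth.Agent.H28Top.isOpen_constr_of_isConstructible hs.compl))
  obtain ⟨t, ht⟩ := @IsCompact.elim_finite_subcover X (constructibleTopology X) s s hK
    (fun x => (O x x.2)ᶜ)
    (fun x => Groth.Agent.H28Top.isOpen_constr_of_isConstructible
      ((TopologicalSpace.NoetherianSpace.isCompact _).isConstructible (hO x x.2)).compl)
    (fun x hx => Set.mem_iUnion.2 ⟨⟨x, hx⟩, hxO x hx⟩)
  obtain ⟨z, hz, hzs⟩ := mem_closure_iff.1 hy (⋂ x ∈ t, O x x.2)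
    (isOpen_biInter_finset fun x _ => hO x x.2) (Set.mem_iInter₂.2 fun x _ => hyO x x.2)
  obtain ⟨x, hx, hzx⟩ := Set.mem_iUnion₂.1 (ht hzs)
  exact hzx (Set.mem_iInter₂.1 hz x hx)

/-- A point in the closure of a constructible subset of a qcqs scheme specializes from it. -/
theorem exists_specializes_of_mem_closure_qcqs [CompactSpace X] [QuasiSeparatedSpace X] {s : Set X}
    (hs : IsConstructible s) {y : X} (hy : y ∈ closure s) : ∃ x ∈ s, x ⤳ y := by
  by_contra! h
  have h' : ∀ x ∈ s, ∃ O : Set X, IsOpen O ∧ IsCompact O ∧ y ∈ O ∧ x ∉ O := fun x hx => by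
    have := h x hx
    rw [specializes_iff_forall_open] at this
    push Not at this
    obtain ⟨O, hO, hyO, hxO⟩ := this
    obtain ⟨B, hB, hyB, hBO⟩ := exists_isAffineOpen_mem_and_subset (X := X) (x := y) (U := ⟨O, hO⟩) hyO
    exact ⟨B, B.2, hB.isCompact, hyB, fun hxB => hxO (hBO hxB)⟩
  choose O hO hOc hyO hxO using h'
  have hK : @IsCompact X (constructibleTopology X) s :=
    @IsClosed.isCompact X (constructibleTopology X) s (Groth.Agent.H28Top.compactSpace_constr X)
      ((@isOpen_compl_iff X s (constructibleTopology X)).1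
        (Groth.Agent.H28Top.isOpen_constr_of_isConstructible hs.compl))
  obtain ⟨t, ht⟩ := @IsCompact.elim_finite_subcover X (constructibleTopology X) s s hK
    (fun x => (O x x.2)ᶜ)
    (fun x => Groth.Agent.H28Top.isOpen_constr_of_isConstructible
      ((hOc x x.2).isConstructible (hO x x.2)).compl)
    (fun x hx => Set.mem_iUnion.2 ⟨⟨x, hx⟩, hxO x hx⟩)
  obtain ⟨z, hz, hzs⟩ := mem_closure_iff.1 hy (⋂ x ∈ t, O x x.2)
    (isOpen_biInter_finset fun x _ => hO x x.2) (Set.mem_iInter₂.2 fun x _ => hyO x x.2)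
  obtain ⟨x, hx, hzx⟩ := Set.mem_iUnion₂.1 (ht hzs)
  exact hzx (Set.mem_iInter₂.1 hz x hx)

theorem supp_subset_of_stalk {A B : EtCoh.Ab X}
    (h : ∀ (Ω : Type u) [Field Ω] [IsSepClosed Ω] (ξ : Spec (CommRingCat.of Ω) ⟶ X),
      Subsingleton ((EtCoh.stalk ξ).obj A) → Subsingleton ((EtCoh.stalk ξ).obj B)) :
    EtPBC.supp B ⊆ EtPBC.supp A := by
  intro x hx
  by_contra hA
  haveI := subsingleton_stalk_of_notMem_supp A (geomPt x) (by rw [geomPt_base]; exact hA)
  haveI := h _ (geomPt x) inferInstance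
  have := notMem_supp_of_subsingleton B (geomPt x)
  rw [geomPt_base] at this
  exact this hx

theorem supp_subset_of_epi {A B : EtCoh.Ab X} (f : A ⟶ B) [Epi f] : EtPBC.supp B ⊆ EtPBC.supp A :=
  supp_subset_of_stalk fun Ω _ _ ξ _ => by
    haveI := (epi_iff_stalk f).1 inferInstance Ω ξ
    exact ((AddCommGrpCat.epi_iff_surjective ((EtCoh.stalk ξ).map f)).1 inferInstance).subsingleton

theorem supp_subset_of_mono {A B : EtCoh.Ab X} (f : A ⟶ B) [Mono f] : EtPBC.supp A ⊆ EtPBC.supp B :=
  supp_subset_of_stalk fun Ω _ _ ξ _ => by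
    haveI := (mono_iff_stalk f).1 inferInstance Ω ξ
    exact ((AddCommGrpCat.mono_iff_injective ((EtCoh.stalk ξ).map f)).1 inferInstance).subsingleton

theorem supp_biprod_subset (A B : EtCoh.Ab X) : EtPBC.supp (A ⊞ B) ⊆ EtPBC.supp A ∪ EtPBC.supp B := by
  intro x hx
  by_contra hAB
  simp only [Set.mem_union, not_or] at hAB
  haveI := subsingleton_stalk_of_notMem_supp A (geomPt x) (by rw [geomPt_base]; exact hAB.1)
  haveI := subsingleton_stalk_of_notMem_supp B (geomPt x) (by rw [geomPt_base]; exact hAB.2)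
  suffices Subsingleton ((EtCoh.stalk (geomPt x)).obj (A ⊞ B)) by
    have := notMem_supp_of_subsingleton (A ⊞ B) (geomPt x)
    rw [geomPt_base] at this
    exact this hx
  refine subsingleton_of_forall_eq 0 fun p => ?_
  have h := congrArg (EtCoh.stalk (geomPt x)).map (biprod.total (X := A) (Y := B))
  rw [Functor.map_add, Functor.map_comp, Functor.map_comp, CategoryTheory.Functor.map_id] at h
  refine (ConcreteCategory.congr_hom h p).symm.trans ?_
  simp only [AddCommGrpCat.hom_add_apply, ConcreteCategory.comp_apply]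
  rw [Subsingleton.elim ((EtCoh.stalk (geomPt x)).map biprod.fst p) 0,
    Subsingleton.elim ((EtCoh.stalk (geomPt x)).map biprod.snd p) 0, map_zero, map_zero, add_zero]

/-- A map to a sheaf with vanishing stalk at a point factors through a constructible sheaf with vanishing
stalk there. -/
theorem exists_factor_notMem_supp [CompactSpace X] [QuasiSeparatedSpace X] {C F : EtCoh.Ab X}
    (hC : EtPBC.IsConstructible C) (f : C ⟶ F) {x : X} (hx : x ∉ EtPBC.supp F) :
    ∃ (C' : EtCoh.Ab X) (g : C ⟶ C') (q : C' ⟶ F),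
      EtPBC.IsConstructible C' ∧ x ∉ EtPBC.supp C' ∧ g ≫ q = f := by
  obtain ⟨n, _, hn⟩ := exists_killedBy C hC
  haveI := finite_stalk_of_isConstructible C hC (geomPt x)
  haveI := subsingleton_stalk_of_notMem_supp F (geomPt x) (by rw [geomPt_base]; exact hx)
  obtain ⟨a, ⟨e⟩⟩ := Finite.exists_equiv_fin ((EtCoh.stalk (geomPt x)).obj C)
  have key : ∀ p : (EtCoh.stalk (geomPt x)).obj C, ∃ (P : X.Etale) (_ : IsAffine P.left)
      (z : (Scheme.pointSmallEtale (geomPt x)).fiber.obj P) (s : EtCoh.sect C P),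
      germ (geomPt x) C P z s = p ∧ f.hom.app (op P) s = 0 := by
    intro p
    obtain ⟨V, z, s, rfl⟩ := germ_surjective (geomPt x) C p
    obtain ⟨W, g, w, hgw, hW⟩ := (germ_eq_iff (geomPt x) F V z (f.hom.app (op V) s) 0).1
      (Subsingleton.elim (α := (EtCoh.stalk (geomPt x)).obj F) _ _)
    obtain ⟨P, hP, i, z', hz'⟩ := exists_affine_nbhd w
    refine ⟨P, hP, z', C.obj.map (i ≫ g).op s, ?_, ?_⟩
    · refine ((Scheme.pointSmallEtale (geomPt x)).toPresheafFiber_w_apply (i ≫ g) z' C.obj s).trans ?_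
      rw [Functor.map_comp_apply, hz', hgw]
      rfl
    · refine (NatTrans.naturality_apply f.hom (i ≫ g).op s).trans ?_
      rw [op_comp, Functor.map_comp_apply, hW, map_zero, map_zero]
  choose P hP z s hs hfs using key
  choose ev hinj h0 hn' hnat hsurj using fun V : X.Etale => exists_ev V n
  choose ψ hψ using fun i : Fin a => hsurj (P (e.symm i)) C (s (e.symm i)) (hn _ _)
  let Φ : (⨁ fun i : Fin a => EtPBC.extZeroConst (P (e.symm i)) (ZMod n)) ⟶ C := biproduct.desc ψ
  have hΦ : Φ ≫ f = 0 := biproduct.hom_ext' _ _ fun i => by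
    rw [biproduct.ι_desc_assoc, comp_zero]
    refine hinj _ F ?_
    rw [hnat, hψ, h0]
    exact hfs _
  refine ⟨cokernel Φ, cokernel.π Φ, cokernel.desc Φ f hΦ,
    (isConstructible_kernel_cokernel Φ (isConstructible_biproduct_extZeroConst _ fun i => hP _) hC).2,
    ?_, cokernel.π_desc _ _ _⟩
  suffices Subsingleton ((EtCoh.stalk (geomPt x)).obj (cokernel Φ)) by
    have h := notMem_supp_of_subsingleton (cokernel Φ) (geomPt x)
    rwa [geomPt_base] at h
  haveI : PreservesFiniteColimits (EtCoh.stalk (geomPt x)) := by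
    haveI := ((Scheme.pointSmallEtale (geomPt x)).skyscraperSheafAdjunction
      (A := AddCommGrpCat.{u + 1})).leftAdjoint_preservesColimits
    exact PreservesColimitsOfSize.preservesFiniteColimits.{0, 0} _
  refine subsingleton_of_forall_eq 0 fun q => ?_
  obtain ⟨p, rfl⟩ := (AddCommGrpCat.epi_iff_surjective
    ((EtCoh.stalk (geomPt x)).map (cokernel.π Φ))).1 inferInstance q
  obtain ⟨i, rfl⟩ := e.symm.surjective p
  have h1 : ψ i ≫ cokernel.π Φ = 0 := by
    rw [← biproduct.ι_desc ψ i, Category.assoc, cokernel.condition, comp_zero]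
  have h2 : (cokernel.π Φ).hom.app _ (s (e.symm i)) = 0 := by
    rw [← hψ i, ← hnat, h1, h0]
  rw [← hs (e.symm i)]
  refine (germ_naturality _ (cokernel.π Φ) _ _ _).trans ?_
  rw [h2]
  exact map_zero _

end Groth.Agent.H18Et.Cons
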