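import Groth.Agent.H18Et.Cons.Strata
import Groth.Agent.H18Et.LC.Wrap
import Groth.Agent.H18Et.Support
import Groth.Prelude.Def_EtCore
import Groth.Prelude.Def_FixPt

/-!
# Constructible sheaves: locality and inverse images
-/

set_option backward.isDefEq.respectTransparency false
set_option backward.isDefEq.respectTransparency.types false

universe u

open CategoryTheory CategoryTheory.Limits AlgebraicGeometry Topology

namespace Groth.Agent.H18Et.Cons

open scoped Groth.Agent.H18Et

variable {X Y : Scheme.{u}}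

/-- The sheaf becomes finite locally constant along the morphism. -/
def FLC (F : EtCoh.Ab X) {T : Scheme.{u}} (g : T ⟶ X) : Prop :=
  EtCoh.IsFiniteLocallyConstant ((EtCoh.pull g).obj F)

theorem flc_precomp (F : EtCoh.Ab X) {T T' : Scheme.{u}} (p : T' ⟶ T) (g : T ⟶ X) (h : FLC F g) :
    FLC F (p ≫ g) :=
  LC.isFiniteLocallyConstant_of_iso ((EtCore.pullComp p g).app F).symm
    (LC.isFiniteLocallyConstant_pull p h)

theorem flc_pull (f : X ⟶ Y) (F : EtCoh.Ab Y) {T : Scheme.{u}} (g : T ⟶ X) :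
    FLC ((EtCoh.pull f).obj F) g ↔ FLC F (g ≫ f) :=
  ⟨LC.isFiniteLocallyConstant_of_iso ((EtCore.pullComp g f).app F).symm,
    LC.isFiniteLocallyConstant_of_iso ((EtCore.pullComp g f).app F)⟩

theorem adaptedStrata_iff (F : EtCoh.Ab X) (S : Set X) :
    EtPBC.AdaptedStrata F S ↔ AdaptedQ (FLC F) S := by
  constructor
  · rintro ⟨n, T, g, h1, h2, h3, h4, h5⟩
    exact ⟨n, T, g, h1, h2, h3, h4, fun i => h5 i⟩
  · rintro ⟨n, T, g, h1, h2, h3, h4, h5⟩
    exact ⟨n, T, g, h1, h2, h3, h4, fun i => by intro _; exact h5 i⟩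

theorem isConstructible_iff (F : EtCoh.Ab X) :
    EtPBC.IsConstructible F ↔ LocAdapted (FLC F) :=
  forall₂_congr fun U _ => adaptedStrata_iff F _

theorem covered_pull_iff (f : X ⟶ Y) (F : EtCoh.Ab Y) {W : Scheme.{u}} (g : W ⟶ X) :
    Covered (FLC ((EtCoh.pull f).obj F)) g ↔ Covered (FLC F) (g ≫ f) := by
  simp only [Covered, flc_pull, Category.assoc]

theorem isConstructible_pull (f : X ⟶ Y) (F : EtCoh.Ab Y) (hF : EtPBC.IsConstructible F) :
    EtPBC.IsConstructible ((EtCoh.pull f).obj F) := by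
  rw [isConstructible_iff] at hF ⊢
  refine locAdapted_of_covered (flc_precomp _) fun U hU => ?_
  haveI : IsAffine U.toScheme := hU
  exact (covered_pull_iff f F U.ι).2 (hF.covered (flc_precomp _) _)

theorem isConstructible_iff_univ [CompactSpace X] [QuasiSeparatedSpace X] (F : EtCoh.Ab X) :
    EtPBC.IsConstructible F ↔ EtPBC.AdaptedStrata F (Set.univ : Set X) := by
  rw [isConstructible_iff, adaptedStrata_iff]
  exact ⟨LocAdapted.adaptedQ_univ (flc_precomp _), locAdapted_of_adaptedQ_univ (flc_precomp _)⟩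

theorem isConstructible_of_openCover (F : EtCoh.Ab X) {ι : Type*} (U : ι → X.Opens) (hU : ⨆ i, U i = ⊤)
    (h : ∀ i, EtPBC.IsConstructible ((EtCoh.pull (U i).ι).obj F)) : EtPBC.IsConstructible F := by
  rw [isConstructible_iff]
  refine locAdapted_of_opens (flc_precomp _) U hU fun i W _ _ f => ?_
  exact (covered_pull_iff (U i).ι F f).1
    (((isConstructible_iff _).1 (h i)).covered (flc_precomp _) f)

theorem isConstructible_of_strata [CompactSpace X] [QuasiSeparatedSpace X] (F : EtCoh.Ab X) {ι : Type u}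
    (T : ι → Scheme.{u}) (g : ∀ i, T i ⟶ X) [∀ i, IsImmersion (g i)]
    (hc : ∀ i, IsConstructible (Set.range (g i))) (hcov : (⋃ i, Set.range (g i)) = Set.univ)
    (h : ∀ i, EtPBC.IsConstructible ((EtCoh.pull (g i)).obj F)) : EtPBC.IsConstructible F := by
  rw [isConstructible_iff]
  have hid : Covered (FLC F) (𝟙 X) := by
    refine covered_of_constructible_immersions (flc_precomp _) T g hc hcov fun i => ?_
    haveI := compactSpace_of_immersion (g i) (hc i)
    haveI := quasiSeparatedSpace_of_immersion (g i)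
    have := ((isConstructible_iff _).1 (h i)).covered (flc_precomp _) (𝟙 (T i))
    rw [covered_pull_iff, Category.id_comp] at this
    rwa [Category.comp_id]
  refine locAdapted_of_covered (flc_precomp _) fun U hU => ?_
  haveI : IsAffine U.toScheme := hU
  rw [← Category.comp_id U.ι]
  exact hid.precomp (flc_precomp _) _

theorem isClopen_of_pieces {T : Scheme.{u}} {ι : Type*} {C : Set T} {S : ι → Set T}
    (ho : ∀ i, IsOpen (S i)) (hu : ∀ t, ∃ i, t ∈ S i) (h : ∀ i, S i ⊆ C ∨ S i ⊆ Cᶜ) : IsClopen C := by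
  refine ⟨isOpen_compl_iff.1 (isOpen_iff_forall_mem_open.2 fun t ht => ?_),
    isOpen_iff_forall_mem_open.2 fun t ht => ?_⟩
  · obtain ⟨i, hi⟩ := hu t
    exact ⟨S i, (h i).resolve_left fun h' => ht (h' hi), ho i, hi⟩
  · obtain ⟨i, hi⟩ := hu t
    exact ⟨S i, (h i).resolve_right fun h' => h' hi ht, ho i, hi⟩

theorem isClopen_supp_of_flc (F : EtCoh.Ab X) {T : Scheme.{u}} (g : T ⟶ X) (h : FLC F g) :
    IsClopen (g ⁻¹' EtPBC.supp F) := by
  classical
  obtain ⟨ι, U, hU, hc⟩ := (LC.isFiniteLocallyConstant_iff _).1 h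
  choose M hM c hc using hc
  refine isClopen_of_pieces (S := fun i => Set.range (U i).hom.base) (fun i => ?_)
    (fun t => (hU t).imp fun i ⟨y, hy⟩ => ⟨y, hy⟩) fun i => ?_
  · haveI : Etale (U i).hom := (U i).prop
    exact (U i).hom.isOpenMap.isOpen_range
  · have iso : ∀ (Ω : Type u) [Field Ω] [IsSepClosed Ω] (ξ : Spec (CommRingCat.of Ω) ⟶ T)
        (u : (U i).left), ξ.base default = (U i).hom.base u →
        Nonempty ((EtCoh.stalk (ξ ≫ g)).obj F ≅ M i) := by
      intro Ω _ _ ξ u hu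
      obtain ⟨z, -⟩ := exists_fiber_over u ξ hu
      haveI := (hc i).isIso ξ z
      exact ⟨((stalkPullIso g ξ).app F).symm ≪≫ (asIso (c i ≫ germ ξ _ (U i) z)).symm⟩
    by_cases hz : IsZero (M i)
    · right
      rintro t ⟨u, rfl⟩ ⟨Ω, _, _, η, hη, hne⟩
      obtain ⟨e⟩ := iso _ (geomPt ((U i).hom.base u)) u (geomPt_base _)
      have hb : (geomPt ((U i).hom.base u) ≫ g).base default = g ((U i).hom.base u) :=
        (Scheme.Hom.comp_apply _ _ _).trans (congrArg g.base (geomPt_base _))
      have h0 := (mem_supp_iff F _ _ hb).1 ⟨Ω, inferInstance, inferInstance, η, hη, hne⟩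
      obtain ⟨V, v, s, hv, hs⟩ := h0
      obtain ⟨w, hw⟩ := exists_fiber_over v _ (hb.trans hv.symm)
      have hsub : Subsingleton ((EtCoh.stalk (geomPt ((U i).hom.base u) ≫ g)).obj F) :=
        AddCommGrpCat.subsingleton_of_isZero (hz.of_iso e)
      exact (germ_eq_zero_iff F w s).1 (Subsingleton.elim _ _) (hw ▸ hs)
    · left
      rintro t ⟨u, rfl⟩
      obtain ⟨e⟩ := iso _ (geomPt ((U i).hom.base u)) u (geomPt_base _)
      refine ⟨_, inferInstance, inferInstance, geomPt ((U i).hom.base u) ≫ g, ?_,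
        fun h0 => hz (h0.of_iso e.symm)⟩
      refine Set.eq_singleton_iff_unique_mem.2 ⟨⟨default,
        (Scheme.Hom.comp_apply _ _ _).trans (congrArg g.base (geomPt_base _))⟩, ?_⟩
      rintro _ ⟨y, rfl⟩
      rw [Subsingleton.elim y default]
      exact (Scheme.Hom.comp_apply _ _ _).trans (congrArg g.base (geomPt_base _))

theorem isLocallyConstructible_supp (F : EtCoh.Ab X) (hF : EtPBC.IsConstructible F) :
    IsLocallyConstructible (EtPBC.supp F) := by
  refine .of_isOpenCover (U := fun U : X.affineOpens => (U.1 : TopologicalSpace.Opens X))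
    X.isBasis_affineOpens.isOpenCover fun U => ?_
  haveI : IsAffine U.1.toScheme := U.2
  obtain ⟨n, T, k, hk, hc, hu, hq⟩ := ((isConstructible_iff F).1 hF).covered (flc_precomp _) U.1.ι
  refine IsConstructible.isLocallyConstructible ?_
  have e : (U.1.ι ⁻¹' EtPBC.supp F : Set U.1.toScheme) =
      ⋃ i, k i '' ((k i ≫ U.1.ι) ⁻¹' EtPBC.supp F) := by
    ext x
    simp only [Set.mem_iUnion, Set.mem_image, Set.mem_preimage]
    constructor
    · intro hx
      obtain ⟨i, t, rfl⟩ := Set.mem_iUnion.1 (hu.symm ▸ Set.mem_univ x : x ∈ ⋃ i, Set.range (k i))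
      exact ⟨i, t, hx, rfl⟩
    · rintro ⟨i, t, ht, rfl⟩
      exact ht
  change IsConstructible (U.1.ι ⁻¹' EtPBC.supp F : Set U.1.toScheme)
  rw [e]
  refine IsConstructible.iUnion fun i => ?_
  haveI := compactSpace_of_immersion (k i) (hc i)
  haveI := quasiSeparatedSpace_of_immersion (k i)
  have hcl := isClopen_supp_of_flc F _ (hq i)
  exact isConstructible_image (k i) (hc i) (hcl.1.isCompact.isConstructible hcl.2)

end Groth.Agent.H18Et.Cons
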