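import Groth.Agent.H18Et.Cons.SectColim
import Groth.Agent.H18Et.Cons.Presentation

/-!
# Constructible abelian sheaves are compact objects
-/

set_option backward.isDefEq.respectTransparency false
set_option backward.isDefEq.respectTransparency.types false

universe u w

open CategoryTheory CategoryTheory.Limits AlgebraicGeometry Opposite Topology

namespace Groth.Agent.H18Et.Cons

open scoped Groth.Agent.H18Et

variable {X : Scheme.{u}} {J : Type w} [SmallCategory J] {D : J ⥤ EtCoh.Ab X}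
  [PreservesColimitsOfShape J (CategoryTheory.forget AddCommGrpCat.{u + 1})]

/-- Every morphism into the colimit comes from a stage. -/
def HomSurj (F : EtCoh.Ab X) (c : Cocone D) : Prop :=
  ∀ ψ : F ⟶ c.pt, ∃ (j : J) (a : F ⟶ D.obj j), a ≫ c.ι.app j = ψ

/-- Every morphism to a stage vanishing in the colimit vanishes at some stage. -/
def HomInj (F : EtCoh.Ab X) (c : Cocone D) : Prop :=
  ∀ (j : J) (a : F ⟶ D.obj j), a ≫ c.ι.app j = 0 → ∃ (k : J) (f : j ⟶ k), a ≫ D.map f = 0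

variable {c : Cocone D}

theorem homBij_of_iso {F G : EtCoh.Ab X} (e : F ≅ G) (h : HomSurj F c ∧ HomInj F c) :
    HomSurj G c ∧ HomInj G c := by
  refine ⟨fun ψ => ?_, fun j a ha => ?_⟩
  · obtain ⟨j, a, ha⟩ := h.1 (e.hom ≫ ψ)
    exact ⟨j, e.inv ≫ a, by rw [Category.assoc, ha, Iso.inv_hom_id_assoc]⟩
  · obtain ⟨k, f, hf⟩ := h.2 j (e.hom ≫ a) (by rw [Category.assoc, ha, comp_zero])
    exact ⟨k, f, by rw [← cancel_epi e.hom, ← Category.assoc, hf, comp_zero]⟩

variable [IsFiltered J]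

theorem homBij_biproduct {a : ℕ} (F : Fin a → EtCoh.Ab X) (h : ∀ i, HomSurj (F i) c ∧ HomInj (F i) c) :
    HomSurj (⨁ F) c ∧ HomInj (⨁ F) c := by
  classical
  refine ⟨fun ψ => ?_, fun j b hb => ?_⟩
  · choose j b hb using fun i => (h i).1 (biproduct.ι F i ≫ ψ)
    obtain ⟨k, hk⟩ := IsFiltered.sup_objs_exists (Finset.univ.image j)
    let g : ∀ i, j i ⟶ k := fun i => (hk (Finset.mem_image_of_mem j (Finset.mem_univ i))).some
    refine ⟨k, biproduct.desc fun i => b i ≫ D.map (g i), biproduct.hom_ext' _ _ fun i => ?_⟩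
    rw [biproduct.ι_desc_assoc, Category.assoc, c.w, hb]
  · obtain ⟨k, f, hf⟩ := exists_common_stage (fun i k f => biproduct.ι F i ≫ b ≫ D.map f = 0)
      (fun i => by
        obtain ⟨k, f, hf⟩ := (h i).2 j (biproduct.ι F i ≫ b) (by rw [Category.assoc, hb, comp_zero])
        exact ⟨k, f, by rwa [Category.assoc] at hf⟩)
      (fun i k l f g hf => by
        rw [D.map_comp, ← Category.assoc b, ← Category.assoc, hf, zero_comp])
    exact ⟨k, f, biproduct.hom_ext' _ _ fun i => (hf i).trans comp_zero.symm⟩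

omit [IsFiltered J] in
theorem homBij_cokernel {A B : EtCoh.Ab X} (φ : A ⟶ B) (hA : HomInj A c) (hB : HomSurj B c ∧ HomInj B c) :
    HomSurj (cokernel φ) c ∧ HomInj (cokernel φ) c := by
  refine ⟨fun ψ => ?_, fun j a ha => ?_⟩
  · obtain ⟨j, b, hb⟩ := hB.1 (cokernel.π φ ≫ ψ)
    obtain ⟨k, f, hf⟩ := hA j (φ ≫ b) (by
      rw [Category.assoc, hb, cokernel.condition_assoc, zero_comp])
    rw [Category.assoc] at hf
    refine ⟨k, cokernel.desc φ _ hf, ?_⟩
    rw [← cancel_epi (cokernel.π φ), cokernel.π_desc_assoc, Category.assoc, c.w, hb]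
  · obtain ⟨k, f, hf⟩ := hB.2 j (cokernel.π φ ≫ a) (by rw [Category.assoc, ha, comp_zero])
    exact ⟨k, f, by rw [← cancel_epi (cokernel.π φ), ← Category.assoc, hf, comp_zero]⟩

omit [IsFiltered J] in
/-- Morphisms out of `j_! ℤ/n` are the sections killed by `n`. -/
theorem exists_ev (V : X.Etale) (n : ℕ) :
    ∃ ev : ∀ G : EtCoh.Ab X, (EtPBC.extZeroConst V (ZMod n) ⟶ G) → EtCoh.sect G V,
      (∀ G, Function.Injective (ev G)) ∧ (∀ G, ev G 0 = 0) ∧ (∀ G ψ, n • ev G ψ = 0) ∧
      (∀ (G H : EtCoh.Ab X) (π : G ⟶ H) ψ, ev H (ψ ≫ π) = π.hom.app (op V) (ev G ψ)) ∧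
      (∀ G (s : EtCoh.sect G V), n • s = 0 → ∃ ψ, ev G ψ = s) := by
  let M' : AddCommGrpCat.{u + 1} := AddCommGrpCat.of (ULift.{u + 1} (ZMod n))
  let one : M' := ULift.up ((1 : ℤ) : ZMod n)
  let adj := (constantSheafAdj (X.smallEtaleTopology.over V) AddCommGrpCat.{u + 1}
    (Over.mkIdTerminal (X := V))).comp (EtPBC.extZeroAdj V)
  let φ : ∀ G : EtCoh.Ab X, (EtPBC.extZeroConst V (ZMod n) ⟶ G) → (M' ⟶ G.obj.obj (op V)) :=
    fun G ψ => adj.homEquiv M' G ψ
  refine ⟨fun G ψ => φ G ψ one, fun G a b h => ?_, fun G => ?_, fun G ψ => ?_, fun G H π ψ => ?_,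
    fun G s hs => ?_⟩
  · refine (adj.homEquiv M' G).injective ?_
    change φ G a = φ G b
    ext x
    obtain ⟨m, hm⟩ := ZMod.intCast_surjective x.down
    have hx : x = m • one := by
      refine ULift.down_injective ?_
      change x.down = m • ((1 : ℤ) : ZMod n)
      rw [zsmul_eq_mul, Int.cast_one, mul_one, hm]
    rw [hx, map_zsmul, map_zsmul]
    exact congrArg (m • ·) h
  · have h0 : adj.homEquiv M' G 0 = 0 := by
      rw [Adjunction.homEquiv_unit]
      exact comp_zero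
    exact ConcreteCategory.congr_hom h0 one
  · refine (map_nsmul _ n one).symm.trans ((congrArg _ ?_).trans (map_zero _))
    refine ULift.down_injective ?_
    change n • ((1 : ℤ) : ZMod n) = 0
    rw [nsmul_eq_mul, ZMod.natCast_self, zero_mul]
  · exact ConcreteCategory.congr_hom (adj.homEquiv_naturality_right ψ π) one
  · let g : ZMod n →+ G.obj.obj (op V) :=
      ZMod.lift n ⟨zmultiplesHom _ s, by simp only [zmultiplesHom_apply, natCast_zsmul, hs]⟩
    let a : M' ⟶ G.obj.obj (op V) := AddCommGrpCat.ofHom (g.comp AddEquiv.ulift.toAddMonoidHom)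
    refine ⟨(adj.homEquiv M' G).symm a, ?_⟩
    refine (ConcreteCategory.congr_hom ((adj.homEquiv M' G).apply_symm_apply a) one).trans ?_
    change g ((1 : ℤ) : ZMod n) = s
    rw [ZMod.lift_coe]
    exact one_zsmul s

theorem homBij_extZeroConst (hc : IsColimit c) (V : X.Etale) [CompactSpace V.left]
    [QuasiSeparatedSpace V.left] (n : ℕ) :
    HomSurj (EtPBC.extZeroConst V (ZMod n)) c ∧ HomInj (EtPBC.extZeroConst V (ZMod n)) c := by
  obtain ⟨ev, hi, h0, hn, hnat, hs⟩ := exists_ev V n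
  refine ⟨fun ψ => ?_, fun j a ha => ?_⟩
  · obtain ⟨j, t, ht⟩ := sect_colim_surj hc (ev _ ψ)
    have h1 : (c.ι.app j).hom.app (op V) (n • t) = 0 :=
      (map_nsmul _ n t).trans ((congrArg (n • ·) ht).trans (hn _ ψ))
    obtain ⟨k, f, hf⟩ := sect_colim_inj hc _ h1
    rw [map_nsmul] at hf
    obtain ⟨b, hb⟩ := hs _ _ hf
    refine ⟨k, b, hi _ ?_⟩
    rw [hnat, hb]
    exact (ConcreteCategory.congr_hom
      (congrArg (fun φ : D.obj j ⟶ c.pt => φ.hom.app (op V)) (c.w f)) t).trans ht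
  · obtain ⟨k, f, hf⟩ := sect_colim_inj hc (ev _ a)
      ((hnat _ _ (c.ι.app j) a).symm.trans ((congrArg (ev _) ha).trans (h0 _)))
    exact ⟨k, f, hi _ ((hnat _ _ (D.map f) a).trans (hf.trans (h0 _).symm))⟩

variable [CompactSpace X] [QuasiSeparatedSpace X]

omit [IsFiltered J] in
/-- A constructible sheaf on a qcqs scheme is killed by a positive integer. -/
theorem exists_killedBy (F : EtCoh.Ab X) (hF : EtPBC.IsConstructible F) :
    ∃ n : ℕ, NeZero n ∧ EtCoh.KilledBy n F := by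
  classical
  let nn : X → ℕ := fun x => Nat.card ((EtCoh.stalk (geomPt x)).obj F)
  let C : X → EtCoh.Ab X := fun x => cokernel (kernel.ι (nn x • 𝟙 F))
  have hKC : ∀ x, EtPBC.IsConstructible (C x) := fun x =>
    (isConstructible_kernel_cokernel _ (isConstructible_kernel_cokernel _ hF hF).1 hF).2
  have hc : ∀ x, IsConstructible (EtPBC.supp (C x))ᶜ := fun x =>
    ((isLocallyConstructible_supp _ (hKC x)).isConstructible).compl
  haveI hpres : ∀ (Ω : Type u) [Field Ω] [IsSepClosed Ω] (ξ : Spec (CommRingCat.of Ω) ⟶ X),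
      PreservesFiniteColimits (EtCoh.stalk ξ) := fun Ω _ _ ξ => by
    haveI := ((Scheme.pointSmallEtale ξ).skyscraperSheafAdjunction
      (A := AddCommGrpCat.{u + 1})).leftAdjoint_preservesColimits
    exact PreservesColimitsOfSize.preservesFiniteColimits.{0, 0} _
  have hsmul : ∀ (x : X) {Ω : Type u} [Field Ω] [IsSepClosed Ω] (ξ : Spec (CommRingCat.of Ω) ⟶ X),
      (EtCoh.stalk ξ).map (nn x • 𝟙 F) = nn x • 𝟙 _ := fun x Ω _ _ ξ =>
    (Functor.map_nsmul _).trans (congrArg (nn x • ·) ((EtCoh.stalk ξ).map_id F))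
  have hfac : ∀ x, cokernel.π (kernel.ι (nn x • 𝟙 F)) ≫ Abelian.factorThruCoimage (nn x • 𝟙 F) =
      nn x • 𝟙 F := fun x => Abelian.coimage.fac _
  have hx : ∀ x, x ∉ EtPBC.supp (C x) := by
    intro x
    haveI : Finite ((EtCoh.stalk (geomPt x)).obj F) := finite_stalk_of_isConstructible F hF _
    suffices Subsingleton ((EtCoh.stalk (geomPt x)).obj (C x)) by
      have h := notMem_supp_of_subsingleton (C x) (geomPt x)
      rwa [geomPt_base] at h
    refine subsingleton_of_forall_eq 0 fun q => ?_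
    obtain ⟨p, rfl⟩ := (AddCommGrpCat.epi_iff_surjective
      ((EtCoh.stalk (geomPt x)).map (cokernel.π (kernel.ι (nn x • 𝟙 F))))).1 inferInstance q
    refine (AddCommGrpCat.mono_iff_injective
      ((EtCoh.stalk (geomPt x)).map (Abelian.factorThruCoimage (nn x • 𝟙 F)))).1 inferInstance ?_
    rw [map_zero]
    refine ((ConcreteCategory.comp_apply _ _ p).symm.trans ?_)
    rw [← Functor.map_comp, hfac, hsmul]
    exact card_nsmul_eq_zero' (x := p)
  obtain ⟨t, ht⟩ := @IsCompact.elim_finite_subcover X (constructibleTopology X) Set.univ X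
    (@isCompact_univ X (constructibleTopology X) (Groth.Agent.H28Top.compactSpace_constr X))
    (fun x => (EtPBC.supp (C x))ᶜ)
    (fun x => Groth.Agent.H28Top.isOpen_constr_of_isConstructible (hc x))
    (fun x _ => Set.mem_iUnion.2 ⟨x, hx x⟩)
  refine ⟨∏ x ∈ t, nn x, ⟨Finset.prod_ne_zero_iff.2 fun x _ => ?_⟩, fun U s => ?_⟩
  · haveI : Finite ((EtCoh.stalk (geomPt x)).obj F) := finite_stalk_of_isConstructible F hF _
    exact Nat.card_pos.ne'
  refine sect_ext _ _ fun Ω _ _ ξ z => ?_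
  obtain ⟨x, hxt, hxy⟩ := Set.mem_iUnion₂.1 (ht (Set.mem_univ (ξ.base default)))
  haveI := subsingleton_stalk_of_notMem_supp (C x) ξ hxy
  rw [map_nsmul, map_zero]
  obtain ⟨r, hr⟩ := Finset.dvd_prod_of_mem nn hxt
  rw [hr, mul_comm, mul_nsmul']
  refine (congrArg (r • ·) ?_).trans (nsmul_zero r)
  let p : (EtCoh.stalk ξ).obj F := germ ξ F U z s
  have h1 : (EtCoh.stalk ξ).map (nn x • 𝟙 F) p = nn x • p := by rw [hsmul]; rfl
  refine h1.symm.trans ?_
  rw [← hfac, Functor.map_comp, ConcreteCategory.comp_apply,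
    Subsingleton.elim ((EtCoh.stalk ξ).map (cokernel.π (kernel.ι (nn x • 𝟙 F))) p) 0, map_zero]

/-- Morphisms out of a constructible sheaf commute with filtered colimits. -/
theorem homBij_of_isConstructible (hc : IsColimit c) (F : EtCoh.Ab X) (hF : EtPBC.IsConstructible F) :
    HomSurj F c ∧ HomInj F c := by
  obtain ⟨n, _, hn⟩ := exists_killedBy F hF
  obtain ⟨a, b, V, U, hV, hU, φ, ⟨e⟩⟩ := exists_presentation F hF n hn
  haveI := hV
  haveI := hU
  exact homBij_of_iso e.symm (homBij_cokernel φ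
    (homBij_biproduct _ fun i => homBij_extZeroConst hc (V i) n).2
    (homBij_biproduct _ fun i => homBij_extZeroConst hc (U i) n))

omit [IsFiltered J] [CompactSpace X] [QuasiSeparatedSpace X] in
theorem HomInj.eq_stage {F : EtCoh.Ab X} (h : HomInj F c) {i : J} (a b : F ⟶ D.obj i)
    (hab : a ≫ c.ι.app i = b ≫ c.ι.app i) : ∃ (k : J) (f : i ⟶ k), a ≫ D.map f = b ≫ D.map f := by
  obtain ⟨k, f, hf⟩ := h i (a - b) (by rw [Preadditive.sub_comp, hab, sub_self])
  rw [Preadditive.sub_comp, sub_eq_zero] at hf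
  exact ⟨k, f, hf⟩

/-- A constructible sheaf on a qcqs scheme is a compact object. -/
theorem preservesColimitsOfShape_coyoneda (F : EtCoh.Ab X) (hF : EtPBC.IsConstructible F) :
    PreservesColimitsOfShape J (coyoneda.obj (op F)) := by
  refine ⟨fun {D} => ⟨fun {c} hc => ⟨?_⟩⟩⟩
  obtain ⟨hsurj, hinj⟩ := homBij_of_isConstructible hc F hF
  refine Types.FilteredColimit.isColimitOf' _ _ (fun ψ => ?_) fun i a b h => ?_
  · obtain ⟨j, d, hd⟩ := hsurj ψ
    exact ⟨j, d, hd.symm⟩
  · exact hinj.eq_stage a b h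

end Groth.Agent.H18Et.Cons
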