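import Groth.Agent.H18Et.Cons.FiniteStrata
import Groth.Agent.H18Et.ExtZeroStalk
import Groth.Agent.H18Et.ExtZeroBaseChange
import Groth.Agent.H18Et.EtaleRestrict
import Mathlib.Algebra.Category.Grp.Biproducts

/-!
# Extension by zero of finite locally constant sheaves is constructible
-/

set_option backward.isDefEq.respectTransparency false
set_option backward.isDefEq.respectTransparency.types false

universe u

open CategoryTheory CategoryTheory.Limits AlgebraicGeometry Opposite Topology

namespace Groth.Agent.H18Et.ExtZeroStalk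

variable {U X : Scheme.{u}} (j : U ⟶ X) [Etale j] [EtShriek.JCont j]
  {Ω : Type u} [Field Ω] [IsSepClosed Ω] (ξ : Spec (CommRingCat.of Ω) ⟶ X) (F : EtCoh.Ab U)

theorem theta_germ (v : Pts j ξ) {M : AddCommGrpCat.{u + 1}}
    (k : (EtCoh.stalk ξ).obj ((EtShriek.extZero j).obj F) ⟶ M)
    {W : U.Etale} (y : (Scheme.pointSmallEtale v.1).fiber.obj W) :
    germ v.1 F W y ≫ theta j ξ F v k =
      ((EtShriek.extZeroAdj j).unit.app F).hom.app (op W) ≫
        germ ξ ((EtShriek.extZero j).obj F) ((EtShriek.compEtale j).obj W) (toFib v y) ≫ k := by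
  rw [theta]
  erw [(Scheme.pointSmallEtale v.1).skyscraperSheafAdjunction_homEquiv_symm_apply]
  refine ((Scheme.pointSmallEtale v.1).toPresheafFiber_skyscraperPresheafHomEquiv_symm
    (((EtShriek.extZeroAdj j).homEquiv F _ ((skyAdj ξ).homEquiv _ M k) ≫ (proj j ξ v).app M).hom) W y).trans ?_
  refine (Category.assoc _ _ _).trans ((congrArg (_ ≫ ·) (Pi.lift_π _ y)).trans ?_)
  rw [Adjunction.homEquiv_unit]
  refine (Category.assoc _ _ _).trans (congrArg (_ ≫ ·) ?_)
  refine Eq.trans (congrArg (fun a => a.app (op ((EtShriek.compEtale j).obj W)) ≫ Pi.π _ (toFib v y))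
    ((Scheme.pointSmallEtale ξ).skyscraperSheafAdjunction_homEquiv_apply_hom k)) ?_
  exact (Scheme.pointSmallEtale ξ).skyscraperPresheafHomEquiv_app_π
    (P := ((EtShriek.extZero j).obj F).obj) k ((EtShriek.compEtale j).obj W) (toFib v y)

end Groth.Agent.H18Et.ExtZeroStalk

namespace Groth.Agent.H18Et

theorem jCont {U X : Scheme.{u}} (j : U ⟶ X) [Etale j] : EtShriek.JCont j :=
  EtaleRestrict.emap_isContinuous j

end Groth.Agent.H18Et

namespace Groth.Agent.H18Et.LC

open scoped Groth.Agent.H18Et
open Groth.Agent.H18Et.ExtZeroStalk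

variable {U X : Scheme.{u}} (j : U ⟶ X) [Etale j] [EtShriek.JCont j] [IsFinite j]

/-- Extension by zero along a finite etale morphism preserves finite local constancy. -/
theorem isFiniteLocallyConstant_extZero (F : EtCoh.Ab U) (hF : EtCoh.IsFiniteLocallyConstant F) :
    EtCoh.IsFiniteLocallyConstant ((EtShriek.extZero j).obj F) := by
  classical
  obtain ⟨ι, O, hO, hd⟩ := (isFiniteLocallyConstant_iff F).1 hF
  let G := (EtShriek.extZero j).obj F
  have key : ∀ x : X, ∃ (W : X.Etale) (w : W.left), W.hom.base w = x ∧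
      ∃ (M : AddCommGrpCat.{u + 1}) (_ : Finite M) (C : M ⟶ G.obj.obj (op W)), IsConstOn G W C := by
    intro x
    obtain ⟨V, n, c, ⟨v₀, hv₀⟩, hc⟩ := Groth.Agent.H25Constr.exists_sections U j x
    obtain ⟨v, -⟩ := exists_fiber_over v₀ (geomPt x) ((geomPt_base x).trans hv₀.symm)
    let P : Fin n → ∀ (W : X.Etale), (W ⟶ V) → (Scheme.pointSmallEtale (geomPt x)).fiber.obj W → Prop :=
      fun i W k _ => ∃ (N : AddCommGrpCat.{u + 1}) (_ : Finite N)
        (d : N ⟶ F.obj.obj (op (viaObj j (k ≫ c i)))), IsConstOn F (viaObj j (k ≫ c i)) d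
    obtain ⟨W, k, w, hw, hP⟩ := exists_nbhd_forall (geomPt x) v (Finset.univ : Finset (Fin n)) P
      (fun i W₁ k₁ W₂ l _ ⟨N, hN, d, hd⟩ => ⟨N, hN, _, hd.res (MorphismProperty.Over.homMk l.left
        (Category.assoc l.left k₁.left (c i).left).symm trivial :
          viaObj j ((l ≫ k₁) ≫ c i) ⟶ viaObj j (k₁ ≫ c i))⟩) fun i _ => by
      let a : Spec (CommRingCat.of (SeparableClosure (X.residueField x))) ⟶ U := v.left ≫ (c i).left
      obtain ⟨l, u, hu⟩ := hO (a.base default)
      obtain ⟨b, -⟩ := exists_fiber_over u a hu.symm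
      obtain ⟨N, hN, d, hd⟩ := hd l
      let z : (Scheme.pointSmallEtale a).fiber.obj (viaObj j (c i)) := Over.homMk v.left rfl
      obtain ⟨Z, p, q, e, hp, -⟩ := exists_common a z b
      haveI : Etale Z.hom := Z.prop
      let W : X.Etale := MorphismProperty.Over.mk ⊤ (Z.hom ≫ j) (inferInstanceAs (Etale _))
      let k : W ⟶ V := MorphismProperty.Over.homMk p.left
        ((congrArg (p.left ≫ ·) (Over.w (c i).hom)).symm.trans ((Category.assoc _ _ _).symm.trans
          (congrArg (· ≫ j) (Over.w p.hom)))) trivial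
      let w : (Scheme.pointSmallEtale (geomPt x)).fiber.obj W := Over.homMk e.left
        ((Category.assoc _ _ _).symm.trans ((congrArg (· ≫ j) (Over.w e)).trans
          ((Category.assoc _ _ _).trans ((congrArg (v.left ≫ ·) (Over.w (c i).hom)).trans (Over.w v)))))
      let s : viaObj j (k ≫ c i) ⟶ Z :=
        MorphismProperty.Over.homMk (𝟙 Z.left) ((Category.id_comp _).trans (Over.w p.hom).symm) trivial
      refine ⟨W, k, w, Over.OverMorphism.ext (congrArg (fun t => t.left) hp), N, hN, _, (hd.res q).res s⟩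
    choose N hN d hdc using fun i => hP i (Finset.mem_univ i)
    let M : AddCommGrpCat.{u + 1} := ⨁ N
    haveI hM : Finite M := by
      haveI := hN
      exact Finite.of_equiv _ (AddCommGrpCat.biproductIsoPi N).addCommGroupIsoToAddEquiv.symm.toEquiv
    let e : ∀ i, W ⟶ (EtShriek.compEtale j).obj (viaObj j (k ≫ c i)) := fun i =>
      MorphismProperty.Over.homMk (𝟙 W.left) ((Category.id_comp _).trans (Over.w (k ≫ c i).hom)) trivial
    let C : M ⟶ G.obj.obj (op W) := biproduct.desc fun i =>
      d i ≫ ((EtShriek.extZeroAdj j).unit.app F).hom.app (op (viaObj j (k ≫ c i))) ≫ G.obj.map (e i).op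
    refine ⟨W, ptOf w, (ptOf_base w).trans (geomPt_base x), M, hM, C, ?_⟩
    intro Ω _ _ η t
    -- the points of the fibre
    let vi : Fin n → ExtZeroStalk.Pts j η := fun i => ⟨t.left ≫ (k ≫ c i).left,
      (Category.assoc _ _ _).trans ((congrArg (t.left ≫ ·) (Over.w (k ≫ c i).hom)).trans (Over.w t))⟩
    have hvi : Function.Bijective vi := by
      have hb := hc Ω η ((Scheme.pointSmallEtale η).fiber.map k t)
      refine ⟨fun a b hab => hb.1 (Over.OverMorphism.ext ?_), fun p => ?_⟩
      · have h := congrArg Subtype.val hab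
        exact (Category.assoc _ _ _).trans (h.trans (Category.assoc _ _ _).symm)
      · obtain ⟨i, hi⟩ := hb.2 (Over.homMk p.1 p.2)
        exact ⟨i, Subtype.ext ((Category.assoc _ _ _).symm.trans (congrArg (fun q => q.left) hi))⟩
    let yi : ∀ i, (Scheme.pointSmallEtale (vi i).1).fiber.obj (viaObj j (k ≫ c i)) :=
      fun i => Over.homMk t.left rfl
    have hcomp : ∀ (L : AddCommGrpCat.{u + 1}) (f : (EtCoh.stalk η).obj G ⟶ L) (i : Fin n),
        biproduct.ι N i ≫ (C ≫ germ η G W t) ≫ f =
          (d i ≫ germ (vi i).1 F _ (yi i)) ≫ theta j η F (vi i) f := by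
      intro L f i
      rw [Category.assoc, Category.assoc, biproduct.ι_desc_assoc, theta_germ, Category.assoc, Category.assoc]
      refine congrArg (_ ≫ ·) (congrArg (_ ≫ ·) ?_)
      have h2 : (Scheme.pointSmallEtale η).fiber.map (e i) t = toFib (vi i) (yi i) :=
        Over.OverMorphism.ext (Category.comp_id t.left)
      rw [← Category.assoc]
      refine congrArg (· ≫ f) ?_
      rw [← h2]
      exact (Scheme.pointSmallEtale η).toPresheafFiber_w (e i) t G.obj
    refine isIso_of_coyoneda_map_bijective _ fun L => ⟨fun f f' hff => theta_ext j η F fun p => ?_, fun g => ?_⟩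
    · obtain ⟨i, rfl⟩ := hvi.2 p
      haveI := (hdc i).isIso (vi i).1 (yi i)
      rw [← cancel_epi (d i ≫ germ (vi i).1 F _ (yi i)), ← hcomp, ← hcomp]
      exact congrArg (biproduct.ι N i ≫ ·) hff
    · let inv' : Fin n → Prop := fun _ => True
      haveI : ∀ i, IsIso (d i ≫ germ (vi i).1 F _ (yi i)) := fun i => (hdc i).isIso (vi i).1 (yi i)
      let g' : ∀ i, (EtCoh.stalk (vi i).1).obj F ⟶ L := fun i =>
        inv (d i ≫ germ (vi i).1 F _ (yi i)) ≫ biproduct.ι N i ≫ g
      let σ := Equiv.ofBijective vi hvi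
      obtain ⟨f, hf⟩ := exists_theta (j := j) (ξ := η) (F := F) (fun p =>
        eqToHom (by rw [show (vi (σ.symm p)) = p from σ.apply_symm_apply p]) ≫ g' (σ.symm p))
      refine ⟨f, biproduct.hom_ext' _ _ fun i => ?_⟩
      rw [hcomp, hf]
      have key : ∀ i' (h : vi i' = vi i),
          (d i ≫ germ (vi i).1 F _ (yi i)) ≫ eqToHom (by rw [h]) ≫ g' i' = biproduct.ι N i ≫ g := by
        intro i' h
        obtain rfl : i' = i := hvi.1 h
        simp only [eqToHom_refl, Category.id_comp, g', IsIso.hom_inv_id_assoc]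
      exact key _ (σ.apply_symm_apply (vi i))
  choose W w hw M hM C hC using key
  exact (isFiniteLocallyConstant_iff _).2 ⟨X, W, fun y => ⟨y, w y, hw y⟩, fun y => ⟨M y, hM y, C y, hC y⟩⟩

end Groth.Agent.H18Et.LC

namespace Groth.Agent.H18Et.Cons

open scoped Groth.Agent.H18Et

variable {U X : Scheme.{u}} [CompactSpace U] [QuasiSeparatedSpace U] [CompactSpace X]
  [QuasiSeparatedSpace X]

theorem isConstructible_extZero (j : U ⟶ X) [Etale j] [EtShriek.JCont j] (F : EtCoh.Ab U)
    (hF : EtCoh.IsFiniteLocallyConstant F) : EtPBC.IsConstructible ((EtShriek.extZero j).obj F) := by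
  have key : ∀ {T : Scheme.{u}} (g : T ⟶ X), FinBC j g → FLC ((EtShriek.extZero j).obj F) g := by
    intro T g hg
    haveI : IsFinite (pullback.snd j g) := hg
    haveI : Etale (pullback.snd j g) := MorphismProperty.pullback_snd _ _ inferInstance
    haveI := Groth.Agent.H18Et.jCont (pullback.snd j g)
    exact LC.isFiniteLocallyConstant_of_iso
      ((ExtZeroBaseChange.baseChangeIso (IsPullback.of_hasPullback j g).flip).app F)
      (LC.isFiniteLocallyConstant_extZero (pullback.snd j g) _
        (LC.isFiniteLocallyConstant_pull (pullback.fst j g) hF))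
  rw [isConstructible_iff]
  refine locAdapted_of_covered (flc_precomp _) fun A hA => ?_
  haveI : IsAffine A.toScheme := hA
  have h := (covered_finBC j).precomp (fun {T T'} p g => finBC_precomp j p g) A.ι
  rw [Category.comp_id] at h
  exact h.imp fun g hg => key g hg

end Groth.Agent.H18Et.Cons
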