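import Groth.Agent.H18Et.LC.Nbhd
import Groth.Agent.H18Et.LC.Locus
import Groth.Agent.H18Et.Support

/-!
# Sections over quasi-compact and quasi-separated etale schemes commute with filtered colimits
-/

set_option backward.isDefEq.respectTransparency false
set_option backward.isDefEq.respectTransparency.types false

universe u w

open CategoryTheory CategoryTheory.Limits AlgebraicGeometry Opposite

namespace Groth.Agent.H18Et.Cons

open scoped Groth.Agent.H18Et

variable {X : Scheme.{u}} {J : Type w} [SmallCategory J] [IsFiltered J]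

/-- Finitely many upward closed conditions are simultaneously satisfied. -/
theorem exists_common_stage {κ : Type*} [Finite κ] {i : J}
    (P : κ → ∀ k : J, (i ⟶ k) → Prop) (hex : ∀ s, ∃ (k : J) (f : i ⟶ k), P s k f)
    (hup : ∀ s k l (f : i ⟶ k) (g : k ⟶ l), P s k f → P s l (f ≫ g)) :
    ∃ (k : J) (f : i ⟶ k), ∀ s, P s k f := by
  classical
  haveI := Fintype.ofFinite κ
  suffices ∀ t : Finset κ, ∃ (k : J) (f : i ⟶ k), ∀ s ∈ t, P s k f by
    obtain ⟨k, f, h⟩ := this Finset.univ
    exact ⟨k, f, fun s => h s (Finset.mem_univ s)⟩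
  intro t
  induction t using Finset.induction with
  | empty => exact ⟨i, 𝟙 _, by simp⟩
  | @insert a t _ ih =>
    obtain ⟨k, f, h⟩ := ih
    obtain ⟨l, g, hg⟩ := hex a
    obtain ⟨m, p, q, e⟩ := IsFiltered.span f g
    refine ⟨m, f ≫ p, fun s hs => ?_⟩
    rcases Finset.mem_insert.1 hs with rfl | hs
    · rw [e]; exact hup _ _ _ _ _ hg
    · exact hup _ _ _ _ _ (h s hs)

variable {D : J ⥤ EtCoh.Ab X} {c : Cocone D}
  [PreservesColimitsOfShape J (CategoryTheory.forget AddCommGrpCat.{u + 1})]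

omit [IsFiltered J] in
/-- Stalks commute with colimits. -/
noncomputable def isColimitStalk (hc : IsColimit c) {Ω : Type u} [Field Ω] [IsSepClosed Ω]
    (ξ : Spec (CommRingCat.of Ω) ⟶ X) : IsColimit ((EtCoh.stalk ξ).mapCocone c) :=
  haveI := ((Scheme.pointSmallEtale ξ).skyscraperSheafAdjunction
    (A := AddCommGrpCat.{u + 1})).leftAdjoint_preservesColimits
  isColimitOfPreserves _ hc

theorem notMem_sectSupp_map {F G : EtCoh.Ab X} (φ : F ⟶ G) {U : X.Etale} (s : EtCoh.sect F U)
    {u : U.left} (hu : u ∉ EtShriek.sectSupp F U s) :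
    u ∉ EtShriek.sectSupp G U (φ.hom.app (op U) s) := by
  obtain ⟨z, hz⟩ := exists_fiber_over u (geomPt (U.hom.base u)) (geomPt_base _)
  have h := (germ_eq_zero_iff F z s).2 (hz.symm ▸ hu)
  refine hz ▸ (germ_eq_zero_iff G z _).1 ?_
  refine (germ_naturality _ φ U z s).symm.trans ?_
  exact (congrArg _ h).trans (map_zero _)

theorem sect_eq_zero_of_sectSupp {F : EtCoh.Ab X} {U : X.Etale} (s : EtCoh.sect F U)
    (h : ∀ u, u ∉ EtShriek.sectSupp F U s) : s = 0 :=
  sect_ext _ _ fun _ _ _ _ z => ((germ_eq_zero_iff F z s).2 (h _)).trans (map_zero _).symm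

/-- A section over a quasi-compact object vanishing in a filtered colimit vanishes at some stage. -/
theorem sect_colim_inj (hc : IsColimit c) {U : X.Etale} [CompactSpace U.left] {j : J}
    (s : EtCoh.sect (D.obj j) U) (h : (c.ι.app j).hom.app (op U) s = 0) :
    ∃ (k : J) (f : j ⟶ k), (D.map f).hom.app (op U) s = 0 := by
  let Z : (Σ k, j ⟶ k) → Set U.left := fun p =>
    (EtShriek.sectSupp (D.obj p.1) U ((D.map p.2).hom.app (op U) s))ᶜ
  have hcov : ∀ u : U.left, ∃ p, u ∈ Z p := by
    intro u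
    obtain ⟨z, hz⟩ := exists_fiber_over u (geomPt (U.hom.base u)) (geomPt_base _)
    have h0 : ((EtCoh.stalk _).mapCocone c).ι.app j (germ _ (D.obj j) U z s) =
        ((EtCoh.stalk _).mapCocone c).ι.app j 0 := by
      refine ((germ_naturality _ (c.ι.app j) U z s).trans ?_).trans (map_zero _).symm
      rw [h]
      exact map_zero _
    obtain ⟨k, f, g, hfg⟩ := Concrete.isColimit_exists_of_rep_eq _ (isColimitStalk hc _) _ _ h0
    refine ⟨⟨k, f⟩, hz ▸ (germ_eq_zero_iff (D.obj k) z _).1 ?_⟩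
    exact (germ_naturality _ (D.map f) U z s).symm.trans (hfg.trans (map_zero _))
  obtain ⟨t, ht⟩ := (isCompact_univ (X := U.left)).elim_finite_subcover Z
    (fun p => (isClosed_sectSupp _ _ _).isOpen_compl) fun u _ => Set.mem_iUnion.2 (hcov u)
  obtain ⟨k, f, hk⟩ := exists_common_stage (κ := t) (fun p k f => Z p.1 ⊆ Z ⟨k, f⟩)
    (fun p => ⟨p.1.1, p.1.2, subset_rfl⟩) (fun p k l f g hp => hp.trans fun u hu => by
      have h2 := notMem_sectSupp_map (D.map g) _ hu
      change u ∉ EtShriek.sectSupp (D.obj l) U ((D.map (f ≫ g)).hom.app (op U) s)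
      rw [D.map_comp]
      exact h2)
  refine ⟨k, f, sect_eq_zero_of_sectSupp _ fun u => ?_⟩
  obtain ⟨p, hp, hup⟩ := Set.mem_iUnion₂.1 (ht (Set.mem_univ u))
  exact hk ⟨p, hp⟩ hup

/-- A section of a filtered colimit is near every point a section at some stage. -/
theorem sect_colim_local (hc : IsColimit c) {U : X.Etale} (s : EtCoh.sect c.pt U) (u : U.left) :
    ∃ (P : X.Etale) (_ : IsAffine P.left) (π : P ⟶ U) (j : J) (t : EtCoh.sect (D.obj j) P),
      u ∈ Set.range π.left.base ∧ (c.ι.app j).hom.app (op P) t = c.pt.obj.map π.op s := by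
  obtain ⟨z, hz⟩ := exists_fiber_over u (geomPt (U.hom.base u)) (geomPt_base _)
  obtain ⟨j, p, hp⟩ := Concrete.isColimit_exists_rep _ (isColimitStalk hc _)
    (germ _ c.pt U z s)
  obtain ⟨V, y, t, rfl⟩ := germ_surjective _ (D.obj j) p
  obtain ⟨W, a, b, w, ha, hb⟩ := LC.exists_common _ z y
  let d₁ : EtCoh.sect c.pt W := (c.ι.app j).hom.app (op W) ((D.obj j).obj.map b.op t)
  let d₂ : EtCoh.sect c.pt W := c.pt.obj.map a.op s
  let d : EtCoh.sect c.pt W := d₁ - d₂
  have hd : ptOf w ∉ EtShriek.sectSupp c.pt W d := by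
    refine (germ_eq_zero_iff c.pt w d).1 ?_
    rw [show d = d₁ - d₂ from rfl, map_sub, sub_eq_zero]
    refine Eq.trans ?_ (hp.trans (Eq.trans (congrArg (fun z => germ _ c.pt U z s) ha.symm)
      ((Scheme.pointSmallEtale _).toPresheafFiber_w_apply a w c.pt.obj s).symm))
    refine (germ_naturality _ (c.ι.app j) W w _).symm.trans (congrArg _ ?_)
    exact ((Scheme.pointSmallEtale _).toPresheafFiber_w_apply b w (D.obj j).obj t).trans
      (congrArg (fun y => germ _ (D.obj j) V y t) hb)
  obtain ⟨B, hB, hwB, hBd⟩ := exists_isAffineOpen_mem_and_subset (X := W.left) (x := ptOf w)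
    (U := ⟨_, (isClosed_sectSupp c.pt W d).isOpen_compl⟩) hd
  haveI : Etale W.hom := W.prop
  let P : X.Etale := MorphismProperty.Over.mk ⊤ (B.ι ≫ W.hom) (inferInstanceAs (Etale _))
  let i : P ⟶ W := MorphismProperty.Over.homMk B.ι rfl trivial
  refine ⟨P, hB, i ≫ a, j, (D.obj j).obj.map (i ≫ b).op t, ⟨⟨ptOf w, hwB⟩, ?_⟩, ?_⟩
  · exact ((ptOf_map a w).trans (congrArg ptOf ha)).trans hz
  · have h0 : c.pt.obj.map i.op d = 0 := by
      refine (map_eq_zero_iff_range_subset c.pt d i).2 ?_
      rintro _ ⟨v, rfl⟩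
      exact hBd v.2
    rw [show d = d₁ - d₂ from rfl, map_sub, sub_eq_zero] at h0
    rw [op_comp, op_comp, Functor.map_comp_apply, Functor.map_comp_apply]
    exact (NatTrans.naturality_apply (c.ι.app j).hom i.op _).trans h0

/-- A section of a filtered colimit over a qcqs object comes from some stage. -/
theorem sect_colim_surj (hc : IsColimit c) {U : X.Etale} [CompactSpace U.left]
    [QuasiSeparatedSpace U.left] (s : EtCoh.sect c.pt U) :
    ∃ (j : J) (t : EtCoh.sect (D.obj j) U), (c.ι.app j).hom.app (op U) t = s := by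
  classical
  choose P hP π j t hu ht using sect_colim_local hc s
  obtain ⟨K, hK⟩ := (isCompact_univ (X := U.left)).elim_finite_subcover
    (fun u => Set.range (π u).left.base)
    (fun u => haveI := etale_left (π u); (π u).left.isOpenMap.isOpen_range)
    fun u _ => Set.mem_iUnion.2 ⟨u, hu u⟩
  obtain ⟨j₀, hj₀⟩ := IsFiltered.sup_objs_exists (K.image j)
  let g : ∀ p : K, j p.1 ⟶ j₀ := fun p => (hj₀ (Finset.mem_image_of_mem j p.2)).some
  let t₀ : ∀ p : K, EtCoh.sect (D.obj j₀) (P p.1) := fun p => (D.map (g p)).hom.app _ (t p.1)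
  have ht₀ : ∀ p : K, (c.ι.app j₀).hom.app _ (t₀ p) = c.pt.obj.map (π p.1).op s := fun p =>
    (ConcreteCategory.congr_hom
      (congrArg (fun φ : D.obj (j p.1) ⟶ c.pt => φ.hom.app (op (P p.1))) (c.w (g p))) (t p.1)).trans
      (ht p.1)
  haveI : ∀ u : U.left, Etale (P u).hom := fun u => (P u).prop
  haveI : ∀ u : U.left, Etale (π u).left := fun u => etale_left (π u)
  haveI : ∀ u : U.left, IsAffine (P u).left := hP
  haveI : ∀ u : U.left, QuasiCompact (π u).left := fun u => quasiCompact_of_compactSpace _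
  let Q : K × K → X.Etale := fun p =>
    MorphismProperty.Over.mk ⊤ (pullback.fst (π p.1.1).left (π p.2.1).left ≫ (P p.1.1).hom)
      (inferInstanceAs (Etale _))
  let q₁ : ∀ p : K × K, Q p ⟶ P p.1.1 := fun p =>
    MorphismProperty.Over.homMk (pullback.fst (π p.1.1).left (π p.2.1).left) rfl trivial
  let q₂ : ∀ p : K × K, Q p ⟶ P p.2.1 := fun p =>
    MorphismProperty.Over.homMk (pullback.snd (π p.1.1).left (π p.2.1).left) (by
      have h1 := Over.w (π p.1.1).hom
      have h2 := Over.w (π p.2.1).hom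
      exact (congrArg (pullback.snd _ _ ≫ ·) h2.symm).trans
        ((pullback.condition_assoc _).symm.trans (congrArg (pullback.fst _ _ ≫ ·) h1))) trivial
  have hq : ∀ p, q₁ p ≫ π p.1.1 = q₂ p ≫ π p.2.1 := fun p =>
    (Scheme.Etale.forget _).map_injective (Over.OverMorphism.ext pullback.condition)
  have hQ : ∀ p, CompactSpace (Q p).left := fun p =>
    QuasiCompact.compactSpace_of_compactSpace (pullback.fst (π p.1.1).left (π p.2.1).left)
  have hex : ∀ p : K × K, ∃ (k : J) (f : j₀ ⟶ k),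
      (D.map f).hom.app _ ((D.obj j₀).obj.map (q₁ p).op (t₀ p.1)) =
        (D.map f).hom.app _ ((D.obj j₀).obj.map (q₂ p).op (t₀ p.2)) := by
    intro p
    haveI := hQ p
    obtain ⟨k, f, hf⟩ := sect_colim_inj hc
      ((D.obj j₀).obj.map (q₁ p).op (t₀ p.1) - (D.obj j₀).obj.map (q₂ p).op (t₀ p.2)) (by
      rw [map_sub, sub_eq_zero]
      refine (NatTrans.naturality_apply (c.ι.app j₀).hom (q₁ p).op (t₀ p.1)).trans (Eq.trans ?_
        (NatTrans.naturality_apply (c.ι.app j₀).hom (q₂ p).op (t₀ p.2)).symm)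
      rw [ht₀, ht₀]
      exact ((Functor.map_comp_apply c.pt.obj (π p.1.1).op (q₁ p).op s).symm.trans
        (congrArg (fun e => c.pt.obj.map e.op s) (hq p))).trans
        (Functor.map_comp_apply c.pt.obj (π p.2.1).op (q₂ p).op s))
    rw [map_sub, sub_eq_zero] at hf
    exact ⟨k, f, hf⟩
  obtain ⟨k, f, hf⟩ := exists_common_stage _ hex fun p k l f g e => by
    rw [D.map_comp]
    exact congrArg ((D.map g).hom.app _) e
  let r : ∀ p : K, ToType ((D.obj k).obj.obj (op (P p.1))) := fun p => (D.map f).hom.app _ (t₀ p)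
  have hgen : Sieve.generate (Presieve.ofArrows (fun p : K => P p.1) (fun p => π p.1)) ∈
      X.smallEtaleTopology U := by
    refine mem_topology_of_forall_point _ fun x => ?_
    obtain ⟨u, huK, v, hv⟩ := Set.mem_iUnion₂.1 (hK (Set.mem_univ x))
    exact ⟨P u, π u, v, ⟨_, 𝟙 _, π u, Presieve.ofArrows.mk (⟨u, huK⟩ : K), Category.id_comp _⟩, hv⟩
  have hsheaf : ∀ G : EtCoh.Ab X, Presieve.IsSheafFor (G.obj ⋙ CategoryTheory.forget _)
      (Presieve.ofArrows (fun p : K => P p.1) (fun p => π p.1)) := fun G => by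
    rw [Presieve.isSheafFor_iff_generate]
    exact ((isSheaf_iff_isSheaf_of_type _ _).1
      ((sheafCompose _ (CategoryTheory.forget _)).obj G).property) _ hgen
  have hcomp : Presieve.Arrows.Compatible ((D.obj k).obj ⋙ CategoryTheory.forget _)
      (fun p : K => π p.1) r := by
    intro a b Z ga gb hZ
    let l : Z ⟶ Q (a, b) := MorphismProperty.Over.homMk
      (pullback.lift ga.left gb.left (congrArg (fun e => e.left) hZ)) (by
        exact (pullback.lift_fst_assoc _ _ _ _).trans (Over.w ga.hom)) trivial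
    have h1 : l ≫ q₁ (a, b) = ga :=
      (Scheme.Etale.forget _).map_injective (Over.OverMorphism.ext (pullback.lift_fst _ _ _))
    have h2 : l ≫ q₂ (a, b) = gb :=
      (Scheme.Etale.forget _).map_injective (Over.OverMorphism.ext (pullback.lift_snd _ _ _))
    change (D.obj k).obj.map ga.op (r a) = (D.obj k).obj.map gb.op (r b)
    rw [← h1, ← h2, op_comp, op_comp, Functor.map_comp_apply, Functor.map_comp_apply]
    refine congrArg _ ?_
    exact (NatTrans.naturality_apply (D.map f).hom (q₁ (a, b)).op (t₀ a)).symm.trans ((hf (a, b)).trans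
      (NatTrans.naturality_apply (D.map f).hom (q₂ (a, b)).op (t₀ b)))
  obtain ⟨x, hx, -⟩ := (Presieve.isSheafFor_arrows_iff _ _).1 (hsheaf (D.obj k)) r hcomp
  refine ⟨k, x, (hsheaf c.pt).isSeparatedFor.ext fun Y φ hφ => ?_⟩
  obtain ⟨p⟩ := hφ
  change c.pt.obj.map (π p.1).op _ = c.pt.obj.map (π p.1).op s
  refine (NatTrans.naturality_apply (c.ι.app k).hom (π p.1).op x).symm.trans ?_
  refine (congrArg _ (hx p)).trans ?_
  exact (ConcreteCategory.congr_hom
      (congrArg (fun φ : D.obj j₀ ⟶ c.pt => φ.hom.app (op (P p.1))) (c.w f)) (t₀ p)).trans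
    (ht₀ p)

end Groth.Agent.H18Et.Cons
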