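import Groth.Agent.H18Et.Cons.ModAdic
import Groth.Agent.H25Constr.ModPullExact
import Groth.Agent.H3CAlg.ARS.ARIso
import Mathlib.CategoryTheory.Limits.Preserves.FunctorCategory
import Mathlib.CategoryTheory.Limits.Preserves.Shapes.Kernels
import Groth.Prelude.Def_SixF1

/-!
# Stalks and inverse images of systems that are adic up to translation
-/

set_option backward.isDefEq.respectTransparency false
set_option backward.isDefEq.respectTransparency.types false

universe w v v' u u'

open CategoryTheory CategoryTheory.Limits AlgebraicGeometry Opposite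

namespace Groth.Agent.H18Et.Adic

section Generic

variable {C : Type u} [Category.{v} C] [Abelian C] {D : Type u'} [Category.{v'} D] [Abelian D]
  (G : C ⥤ D) [G.Additive]

theorem isARNull_map {X : ARSys.PS C} (h : ARSys.IsARNull X) : ARSys.IsARNull (X ⋙ G) := by
  obtain ⟨r, hr⟩ := h
  exact ⟨r, fun n => (congrArg G.map (hr n)).trans (G.map_zero _ _)⟩

theorem isARNull_of_iso {X Y : ARSys.PS C} (e : X ≅ Y) (h : ARSys.IsARNull X) : ARSys.IsARNull Y := by
  obtain ⟨r, hr⟩ := h
  refine ⟨r, fun n => ?_⟩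
  rw [← cancel_epi (e.hom.app (op (n + r))), comp_zero]
  exact (e.hom.naturality (homOfLE (Nat.le_add_right n r)).op).symm.trans
    ((congrArg (· ≫ e.hom.app (op n)) (hr n)).trans zero_comp)

/-- Exact functors preserve isomorphisms up to translation. -/
theorem isARIso_map [PreservesFiniteLimits G] [PreservesFiniteColimits G] {X Y : ARSys.PS C}
    {f : X ⟶ Y} (h : ARSys.IsARIso f) : ARSys.IsARIso (Functor.whiskerRight f G) := by
  let W := (Functor.whiskeringRight ℕᵒᵖ C D).obj G
  haveI : W.PreservesZeroMorphisms := ⟨fun _ _ => by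
    ext n
    exact G.map_zero _ _⟩
  exact ⟨isARNull_of_iso (PreservesKernel.iso W f) (isARNull_map G h.1),
    isARNull_of_iso (PreservesCokernel.iso W f) (isARNull_map G h.2)⟩

variable {A : Type w} [CommRing A] [Linear A C] [Linear A D] {J : Ideal A} {X : ARSys.PS C}
  (hG : ∀ {P Q : C} (a : A) (f : P ⟶ Q), G.map (a • f) = a • G.map f)

include hG in
omit [G.Additive] in
theorem termKilled_map (h : ARSys.TermKilled J X) : ARSys.TermKilled J (X ⋙ G) :=
  fun n => killedBy_map hG (h n)

include hG in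
omit [G.Additive] in
/-- Linear left adjoints preserve adic systems. -/
theorem isAdic_map {R : D ⥤ C} (adj : G ⊣ R) (h : ARSys.IsAdic J X) : ARSys.IsAdic J (X ⋙ G) :=
  ⟨termKilled_map G hG h.1, fun n m hnm => isQuot_map adj hG (h.2 n m hnm)⟩

/-- Left adjoints of linear functors are linear. -/
theorem map_smul_of_adjunction {R : D ⥤ C} (adj : G ⊣ R)
    (hR : ∀ {P Q : D} (a : A) (f : P ⟶ Q), R.map (a • f) = a • R.map f) {P Q : C} (a : A) (f : P ⟶ Q) :
    G.map (a • f) = a • G.map f := by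
  refine (adj.homEquiv _ _).injective ?_
  rw [adj.homEquiv_unit, adj.homEquiv_unit, hR, Linear.comp_smul, adj.unit_naturality,
    adj.unit_naturality, Linear.smul_comp]

end Generic

end Groth.Agent.H18Et.Adic

namespace Groth.Agent.H18Et.Cons

open scoped Groth.Agent.H18Et

variable (Λ : Type (u + 1)) [CommRing Λ] {X Y : Scheme.{u}}

theorem pull_map_smul (f : X ⟶ Y) {F G : EtModW.Mod Λ Y} (a : Λ) (φ : F ⟶ G) :
    (EtModW.pull Λ f).map (a • φ) = a • (EtModW.pull Λ f).map φ :=
  Adic.map_smul_of_adjunction (EtModW.pull Λ f) (EtSix.pullPushModAdj Λ f) (fun _ _ => rfl) a φ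

theorem isARIso_pull (f : X ⟶ Y) {F G : ARSys.PS (EtModW.Mod Λ Y)} {v : F ⟶ G} (h : ARSys.IsARIso v) :
    ARSys.IsARIso (Functor.whiskerRight v (EtModW.pull Λ f)) := by
  haveI := H25Constr.pullMod_preservesFiniteLimits Λ f
  haveI : PreservesFiniteColimits (EtModW.pull Λ f) := by
    haveI := (EtSix.pullPushModAdj Λ f).leftAdjoint_preservesColimits
    exact PreservesColimitsOfSize.preservesFiniteColimits.{0, 0} _
  haveI : (EtModW.pull Λ f).Additive := Functor.additive_of_preserves_binary_products _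
  exact Adic.isARIso_map _ h

theorem isARIso_stalk {Ω : Type u} [Field Ω] [IsSepClosed Ω] (ξ : Spec (CommRingCat.of Ω) ⟶ X)
    {F G : ARSys.PS (EtModW.Mod Λ X)} {v : F ⟶ G} (h : ARSys.IsARIso v) :
    ARSys.IsARIso (Functor.whiskerRight v (EtModW.stalk Λ ξ)) := by
  haveI := H25Constr.stalkMod_preservesFiniteLimits Λ ξ
  haveI : PreservesFiniteColimits (EtModW.stalk Λ ξ) := by
    haveI := (Scheme.pointSmallEtale ξ).skyscraperSheafAdjunction (A := ModuleCat.{u + 1} Λ)
    haveI := ((Scheme.pointSmallEtale ξ).skyscraperSheafAdjunction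
      (A := ModuleCat.{u + 1} Λ)).leftAdjoint_preservesColimits
    exact PreservesColimitsOfSize.preservesFiniteColimits.{0, 0} _
  haveI : (EtModW.stalk Λ ξ).Additive := Functor.additive_of_preserves_binary_products _
  exact Adic.isARIso_map _ h

theorem finite_stalk_of_isConstructible_mod [IsNoetherianRing Λ] {F : EtModW.Mod Λ X}
    (hF : EtModW.IsConstructible Λ F) {Ω : Type u} [Field Ω] [IsSepClosed Ω]
    (ξ : Spec (CommRingCat.of Ω) ⟶ X) : Module.Finite Λ ((EtModW.stalk Λ ξ).obj F) := by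
  obtain ⟨V, hV, h⟩ := exists_spec_of_isConstructible Λ F hF (ξ.base default)
  exact h.finite Ω ξ ⟨hV, subset_closure rfl⟩

theorem isZero_of_stalk {F : EtModW.Mod Λ X}
    (h : ∀ (Ω : Type u) [Field Ω] [IsSepClosed Ω] (ξ : Spec (CommRingCat.of Ω) ⟶ X),
      IsZero ((EtModW.stalk Λ ξ).obj F)) : IsZero F := by
  rw [IsZero.iff_id_eq_zero]
  ext U s
  refine sect_ext (A := ModuleCat.{u + 1} Λ) (U := unop U) _ _ fun Ω _ _ ξ x => ?_
  haveI := ModuleCat.subsingleton_of_isZero (h Ω ξ)
  exact Subsingleton.elim _ _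

/-- An adic system of sheaves whose stalk system has zero limit has zero stalks. -/
theorem isZero_stalk_of_isZero_limit [IsNoetherianRing Λ] (I : Ideal Λ) (F : ARSys.PS (EtModW.Mod Λ X))
    (hF : ARSys.IsAdic I F) {Ω : Type u} [Field Ω] [IsSepClosed Ω] (ξ : Spec (CommRingCat.of Ω) ⟶ X)
    (h : IsZero (limit (F ⋙ EtModW.stalk Λ ξ))) (n : ℕ) :
    IsZero ((EtModW.stalk Λ ξ).obj (F.obj (op n))) := by
  haveI := ModuleCat.subsingleton_of_isZero h
  suffices Subsingleton ((EtModW.stalk Λ ξ).obj (F.obj (op n))) from ModuleCat.isZero_of_subsingleton _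
  induction n with
  | zero =>
    refine subsingleton_of_forall_eq 0 fun y => ?_
    obtain ⟨x, hx⟩ := Concrete.surjective_π_app_zero_of_surjective_map (limit.isLimit (F ⋙ EtModW.stalk Λ ξ))
      (isAdicMaps_stalkTr Λ I F hF ξ).surj y
    rw [← hx, show x = 0 from @Subsingleton.elim (limit (F ⋙ EtModW.stalk Λ ξ) : ModuleCat.{u + 1} Λ) _ x 0]
    exact map_zero _
  | succ n ih =>
    refine subsingleton_of_forall_eq 0 fun y => ?_
    obtain ⟨z, rfl⟩ := (isAdicMaps_stalkTr Λ I F hF ξ).surjective_of_comp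
      (0 : PUnit.{u + 2} →ₗ[Λ] ((EtModW.stalk Λ ξ).obj (F.obj (op (n + 1))) : Type (u + 1)))
      (fun w => ⟨PUnit.unit, @Subsingleton.elim _ ih _ _⟩) y
    rfl

end Groth.Agent.H18Et.Cons
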