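import Groth.Agent.H18Et.LC.Locus
import Groth.Agent.H18Et.Cons.Criteria
import Groth.Agent.H28Top.Spectral

/-!
# Local constancy of constructible sheaves at a point
-/

set_option backward.isDefEq.respectTransparency false
set_option backward.isDefEq.respectTransparency.types false

universe u

open CategoryTheory CategoryTheory.Limits AlgebraicGeometry Opposite Topology

namespace Groth.Agent.H18Et.Cons

open scoped Groth.Agent.H18Et

variable {X : Scheme.{u}}

/-- The points over which `c` induces isomorphisms on all geometric stalks. -/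
def isoSet (F : EtCoh.Ab X) {P : X.Etale} {M : AddCommGrpCat.{u + 1}}
    (c : M ⟶ F.obj.obj (op P)) : Set P.left :=
  {p | ∀ (Ω : Type u) [Field Ω] [IsSepClosed Ω] (ξ : Spec (CommRingCat.of Ω) ⟶ X)
    (t : (Scheme.pointSmallEtale ξ).fiber.obj P), ptOf t = p → IsIso (c ≫ germ ξ F P t)}

theorem isClopen_preimage_isoSet (F : EtCoh.Ab X) {P : X.Etale} {M : AddCommGrpCat.{u + 1}} [Finite M]
    (c : M ⟶ F.obj.obj (op P)) {T : Scheme.{u}} (k : T ⟶ P.left) [IsPreimmersion k]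
    (h : FLC F (k ≫ P.hom)) : IsClopen (k ⁻¹' isoSet F c) := by
  let g := k ≫ P.hom
  let σ : T ⟶ ((EtCoh.bc g).obj P).left := pullback.lift k (𝟙 T) (Category.id_comp g).symm
  choose O hO hqO hcase using fun q : T => LC.exists_open_iso_or_not h
    (c ≫ ((EtCoh.pullPushAdj g).unit.app F).hom.app (op P)) (σ q)
  refine isClopen_of_pieces (S := fun q => σ ⁻¹' O q) (fun q => (hO q).preimage σ.continuous)
    (fun q => ⟨q, hqO q⟩) fun q => ?_
  have key : ∀ q' : T, ∀ (Ω : Type u) [Field Ω] [IsSepClosed Ω] (ξ : Spec (CommRingCat.of Ω) ⟶ X)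
      (t : (Scheme.pointSmallEtale ξ).fiber.obj P), ptOf t = k q' →
      ∃ (a : Spec (CommRingCat.of Ω) ⟶ T)
        (t₁ : (Scheme.pointSmallEtale a).fiber.obj ((EtCoh.bc g).obj P)), ptOf t₁ = σ q' ∧
          (IsIso (c ≫ germ ξ F P t) ↔
            IsIso ((c ≫ ((EtCoh.pullPushAdj g).unit.app F).hom.app (op P)) ≫
              germ a ((EtCoh.pull g).obj F) ((EtCoh.bc g).obj P) t₁)) := by
    intro q' Ω _ _ ξ t ht
    obtain ⟨a, ha, ha'⟩ := LC.exists_lift_geom k
      (t.left : Spec (CommRingCat.of Ω) ⟶ P.left) q' ht.symm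
    obtain rfl : ξ = a ≫ g := by
      rw [← Category.assoc, ha]
      exact (Over.w t).symm
    let t₁ : (Scheme.pointSmallEtale a).fiber.obj ((EtCoh.bc g).obj P) :=
      Over.homMk (a ≫ σ) ((Category.assoc _ _ _).trans
        ((congrArg (a ≫ ·) (pullback.lift_snd _ _ _)).trans (Category.comp_id a)))
    have h1 : (fiberCompIso g a).hom.app P t₁ = t := by
      refine Over.OverMorphism.ext ?_
      change (a ≫ σ) ≫ pullback.fst P.hom g = t.left
      rw [Category.assoc]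
      exact (congrArg (a ≫ ·) (pullback.lift_fst _ _ _)).trans ha
    refine ⟨a, t₁, (Scheme.Hom.comp_apply a σ _).trans (congrArg σ.base ha'), ?_⟩
    rw [LC.isIso_germ_pull_iff g F c a t₁, h1]
  rcases hcase q with hq | hq
  · left
    intro q' hq' Ω _ _ ξ t ht
    obtain ⟨a, t₁, h1, h2⟩ := key q' Ω ξ t ht
    exact h2.2 (hq Ω a t₁ (by rw [h1]; exact hq'))
  · right
    intro q' hq' hmem
    obtain ⟨Ω, _, _, ξ, hξ⟩ := LC.exists_geom_over (P.hom (k q'))
    obtain ⟨t, ht⟩ := exists_fiber_over (k q') ξ hξ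
    obtain ⟨a, t₁, h1, h2⟩ := key q' Ω ξ t ht
    exact hq Ω a t₁ (by rw [h1]; exact hq') (h2.1 (hmem Ω ξ t ht))

theorem isConstructible_isoSet (F : EtCoh.Ab X) (hF : EtPBC.IsConstructible F) {P : X.Etale}
    [IsAffine P.left] {M : AddCommGrpCat.{u + 1}} [Finite M] (c : M ⟶ F.obj.obj (op P)) :
    IsConstructible (isoSet F c) := by
  haveI : CompactSpace ↥((𝟭 Scheme).obj P.left) := inferInstanceAs (CompactSpace P.left)
  haveI : QuasiSeparatedSpace ↥((𝟭 Scheme).obj P.left) := inferInstanceAs (QuasiSeparatedSpace P.left)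
  obtain ⟨n, T, k, hk, hc, hu, hq⟩ := ((isConstructible_iff F).1 hF).covered (flc_precomp _) P.hom
  have e : isoSet F c = ⋃ i, k i '' (k i ⁻¹' isoSet F c) := by
    refine Set.Subset.antisymm (fun p hp => ?_) (Set.iUnion_subset fun i => Set.image_preimage_subset _ _)
    obtain ⟨i, t, rfl⟩ := Set.mem_iUnion.1 (hu.symm ▸ Set.mem_univ p : p ∈ ⋃ i, Set.range (k i))
    exact Set.mem_iUnion.2 ⟨i, t, hp, rfl⟩
  rw [e]
  refine IsConstructible.iUnion fun i => ?_
  haveI := hk i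
  haveI := compactSpace_of_immersion (k i) (hc i)
  haveI := quasiSeparatedSpace_of_immersion (k i)
  have hcl := isClopen_preimage_isoSet F c (k i) (hq i)
  exact isConstructible_image (k i) (hc i) (hcl.1.isCompact.isConstructible hcl.2)

theorem exists_flc_nbhd (F : EtCoh.Ab X) (hF : EtPBC.IsConstructible F) {Ω : Type u} [Field Ω]
    [IsSepClosed Ω] (ξ : Spec (CommRingCat.of Ω) ⟶ X)
    (h : ∀ (Ω' : Type u) [Field Ω'] [IsSepClosed Ω'] (ξ' : Spec (CommRingCat.of Ω') ⟶ X)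
        (φ : Scheme.pointSmallEtale ξ' ⟶ Scheme.pointSmallEtale ξ),
        IsIso ((GrothendieckTopology.Point.Hom.sheafFiber (A := AddCommGrpCat.{u + 1}) φ).app F)) :
    ∃ U : X.Opens, ξ.base default ∈ U ∧ EtCoh.IsFiniteLocallyConstant ((EtCoh.pull U.ι).obj F) := by
  haveI hM : Finite ((Scheme.pointSmallEtale ξ).sheafFiber.obj F : AddCommGrpCat.{u + 1}) :=
    finite_stalk_of_isConstructible F hF ξ
  obtain ⟨e, -⟩ := exists_fiber_over (U := EtCoh.top X) (ξ.base default) ξ rfl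
  obtain ⟨U, -, z, -, c, hc⟩ := LC.exists_hom_lift_ab ξ F e _ (𝟙 _)
  haveI : Etale U.hom := U.prop
  obtain ⟨O, hO, hzO, -⟩ := exists_isAffineOpen_mem_and_subset (X := U.left) (x := ptOf z) (U := ⊤) trivial
  let P : X.Etale := MorphismProperty.Over.mk ⊤ (O.ι ≫ U.hom) (inferInstanceAs (Etale _))
  let j : P ⟶ U := MorphismProperty.Over.homMk O.ι rfl trivial
  haveI : IsAffine P.left := hO
  obtain ⟨z', hz', hp⟩ := LC.exists_fiber_map j z (⟨ptOf z, hzO⟩ : O.toScheme) rfl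
  let c' := c ≫ F.obj.map j.op
  have hc' : IsIso (c' ≫ germ ξ F P z') := by
    rw [Category.assoc, germ, GrothendieckTopology.Point.toPresheafFiber_w, hz', hc]
    exact IsIso.id _
  have hgen : ∀ p : P.left, p ⤳ ptOf z' → p ∈ isoSet F c' := by
    intro p hp' Ω' _ _ ξ' t ht
    obtain ⟨φ, hφ⟩ := LC.exists_specialization_lift z' t (ht.symm ▸ hp')
    haveI := h Ω' ξ' φ
    have := (LC.isIso_germ_of_specialization c' φ z').1 hc'
    rwa [hφ] at this
  have hopen : ptOf z' ∈ interior (isoSet F c') := by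
    by_contra hni
    rw [← Set.mem_compl_iff, ← closure_compl] at hni
    haveI : SpectralSpace P.left := {}
    obtain ⟨p, hp1, hp2⟩ := Groth.Agent.H28Top.exists_specializes_of_mem_closure
      (Groth.Agent.H28Top.isClosed_constr_of_isConstructible (isConstructible_isoSet F hF c').compl) hni
    exact hp1 (hgen p hp2)
  let W₀ : P.left.Opens := ⟨interior (isoSet F c'), isOpen_interior⟩
  haveI : Etale P.hom := P.prop
  let W : X.Etale := MorphismProperty.Over.mk ⊤ (W₀.ι ≫ P.hom) (inferInstanceAs (Etale _))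
  let i : W ⟶ P := MorphismProperty.Over.homMk W₀.ι rfl trivial
  have hW : LC.IsConstOn F W (c' ≫ F.obj.map i.op) := by
    intro Ω' _ _ ξ' t
    rw [Category.assoc, germ, GrothendieckTopology.Point.toPresheafFiber_w]
    exact interior_subset (s := isoSet F c') (ptOf t).2 Ω' ξ' _ (ptOf_map i t).symm
  haveI : Etale (W₀.ι ≫ P.hom) := inferInstance
  let V : X.Opens := ⟨Set.range (W₀.ι ≫ P.hom), (W₀.ι ≫ P.hom).isOpenMap.isOpen_range⟩
  refine ⟨V, ⟨⟨ptOf z', hopen⟩, (Scheme.Hom.comp_apply _ _ _).trans (LC.ptOf_base z')⟩, ?_⟩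
  refine (LC.isFiniteLocallyConstant_iff _).2 ⟨PUnit, fun _ => (EtCoh.bc V.ι).obj W, fun v => ?_,
    fun _ => ⟨_, hM, _, hW.pull V.ι⟩⟩
  obtain ⟨w, hw⟩ := v.2
  obtain ⟨q, -, hq⟩ := Scheme.Pullback.exists_preimage_pullback (f := W.hom) (g := V.ι) w v hw
  exact ⟨PUnit.unit, q, hq⟩

theorem exists_flc_nbhd_iff (F : EtCoh.Ab X) (hF : EtPBC.IsConstructible F) (x : X) {Ω : Type u}
    [Field Ω] [IsSepClosed Ω] (ξ : Spec (CommRingCat.of Ω) ⟶ X) (hξ : Set.range ξ.base = {x}) :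
    (∃ U : X.Opens, x ∈ U ∧ EtCoh.IsFiniteLocallyConstant ((EtCoh.pull U.ι).obj F)) ↔
      ∀ (Ω' : Type u) [Field Ω'] [IsSepClosed Ω'] (ξ' : Spec (CommRingCat.of Ω') ⟶ X)
        (φ : Scheme.pointSmallEtale ξ' ⟶ Scheme.pointSmallEtale ξ),
        IsIso ((GrothendieckTopology.Point.Hom.sheafFiber (A := AddCommGrpCat.{u + 1}) φ).app F) := by
  obtain rfl : ξ.base default = x := Set.mem_singleton_iff.1 (hξ ▸ Set.mem_range_self _)
  refine ⟨?_, exists_flc_nbhd F hF ξ⟩
  rintro ⟨U, hxU, hU⟩ Ω' _ _ ξ' φ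
  obtain ⟨e, -⟩ := exists_fiber_over (U := EtCoh.top X) (ξ.base default) ξ rfl
  have hs := (LC.specializes_of_hom φ e).map (EtCoh.top X).hom.continuous
  rw [LC.ptOf_base, LC.ptOf_base] at hs
  exact LC.isIso_specialization_of_pull U.ι F hU ⟨⟨_, hxU⟩, rfl⟩ ⟨⟨_, hs.mem_open U.2 hxU⟩, rfl⟩ φ

end Groth.Agent.H18Et.Cons
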