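import Groth.Agent.H18Et.LC.AlgClosed
import Groth.Agent.H18Et.Cons.LocalConst

/-!
# Constructibility through the loci where sections induce isomorphisms, and descent
-/

set_option backward.isDefEq.respectTransparency false
set_option backward.isDefEq.respectTransparency.types false

universe u

open CategoryTheory CategoryTheory.Limits AlgebraicGeometry Opposite Topology

namespace Groth.Agent.H18Et.LC

open scoped Groth.Agent.H18Et

variable {X Y : Scheme.{u}} {Ω Ω' : Type u} [Field Ω] [IsSepClosed Ω] [Field Ω'] [IsSepClosed Ω']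

theorem isIso_germ_pre_iff (pre : Spec (CommRingCat.of Ω') ⟶ Spec (CommRingCat.of Ω))
    (ξ : Spec (CommRingCat.of Ω) ⟶ X) (F : EtCoh.Ab X) {P : X.Etale} {M : AddCommGrpCat.{u + 1}}
    (c : M ⟶ F.obj.obj (op P)) (t : (Scheme.pointSmallEtale ξ).fiber.obj P) :
    IsIso (c ≫ germ ξ F P t) ↔
      IsIso (c ≫ germ (pre ≫ ξ) F P ((pointHomOfPre pre ξ).hom.app P t)) := by
  haveI := isIso_sheafFiber_pointHomOfPre pre ξ F
  exact isIso_germ_of_specialization c (pointHomOfPre pre ξ) t

theorem exists_amalgam (a : Spec (CommRingCat.of Ω) ⟶ X) (b : Spec (CommRingCat.of Ω') ⟶ X)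
    (h : a.base default = b.base default) :
    ∃ (L : Type u) (_ : Field L) (_ : IsSepClosed L) (p : Spec (CommRingCat.of L) ⟶ Spec (CommRingCat.of Ω))
      (q : Spec (CommRingCat.of L) ⟶ Spec (CommRingCat.of Ω')), p ≫ a = q ≫ b := by
  obtain ⟨z, -, -⟩ := Scheme.Pullback.exists_preimage_pullback (f := a) (g := b) default default h
  let pz := geomPt z
  exact ⟨_, inferInstance, inferInstance, pz ≫ pullback.fst a b, pz ≫ pullback.snd a b,
    (Category.assoc _ _ _).trans ((congrArg (pz ≫ ·) pullback.condition).trans (Category.assoc _ _ _).symm)⟩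

/-- Being an isomorphism on the stalk at a geometric point only depends on the underlying point. -/
theorem isIso_germ_iff_of_ptOf_eq (F : EtCoh.Ab X) {P : X.Etale} {M : AddCommGrpCat.{u + 1}}
    (c : M ⟶ F.obj.obj (op P)) {ξ : Spec (CommRingCat.of Ω) ⟶ X} {ξ' : Spec (CommRingCat.of Ω') ⟶ X}
    (t : (Scheme.pointSmallEtale ξ).fiber.obj P) (t' : (Scheme.pointSmallEtale ξ').fiber.obj P)
    (h : ptOf t = ptOf t') : IsIso (c ≫ germ ξ F P t) ↔ IsIso (c ≫ germ ξ' F P t') := by
  obtain ⟨L, _, _, p, q, hpq⟩ := exists_amalgam (t.left : Spec (CommRingCat.of Ω) ⟶ P.left)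
    (t'.left : Spec (CommRingCat.of Ω') ⟶ P.left) h
  rw [isIso_germ_pre_iff p ξ F c t, isIso_germ_pre_iff q ξ' F c t']
  have hξ : p ≫ ξ = q ≫ ξ' := by
    refine (congrArg (p ≫ ·) (Over.w t).symm).trans ?_
    refine Eq.trans ?_ (congrArg (q ≫ ·) (Over.w t'))
    exact (Category.assoc _ _ _).symm.trans
      ((congrArg (· ≫ P.hom) hpq).trans (Category.assoc _ _ _))
  have key : ∀ (ζ ζ' : Spec (CommRingCat.of L) ⟶ X) (a : (Scheme.pointSmallEtale ζ).fiber.obj P)
      (a' : (Scheme.pointSmallEtale ζ').fiber.obj P), ζ = ζ' → a.left = a'.left →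
      (IsIso (c ≫ germ ζ F P a) ↔ IsIso (c ≫ germ ζ' F P a')) := by
    rintro ζ _ a a' rfl ha
    obtain rfl : a = a' := Over.OverMorphism.ext ha
    exact Iff.rfl
  exact key _ _ _ _ hξ hpq

/-- Finite local constancy descends along jointly surjective etale maps. -/
theorem isFiniteLocallyConstant_of_etale_cover (G : EtCoh.Ab X) {ι : Type*} (T : ι → Scheme.{u})
    (σ : ∀ i, T i ⟶ X) [∀ i, Etale (σ i)] (hσ : ∀ x : X, ∃ i t, σ i t = x)
    (h : ∀ i, EtCoh.IsFiniteLocallyConstant ((EtCoh.pull (σ i)).obj G)) :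
    EtCoh.IsFiniteLocallyConstant G := by
  have key : ∀ x : X, ∃ (W : X.Etale) (w : W.left), W.hom.base w = x ∧
      ∃ (M : AddCommGrpCat.{u + 1}) (_ : Finite M) (C : M ⟶ G.obj.obj (op W)), IsConstOn G W C := by
    intro x
    obtain ⟨i, t₀, ht₀⟩ := hσ x
    let a := geomPt t₀
    obtain ⟨ι', U', hU', hd⟩ := (isFiniteLocallyConstant_iff _).1 (h i)
    obtain ⟨j, u, hu⟩ := hU' t₀
    obtain ⟨N, hN, d, hd⟩ := hd j
    obtain ⟨b, -⟩ := exists_fiber_over u a ((geomPt_base t₀).trans hu.symm)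
    haveI := hd.isIso a b
    haveI hM : Finite ((Scheme.pointSmallEtale (a ≫ σ i)).sheafFiber.obj G : AddCommGrpCat.{u + 1}) :=
      Finite.of_equiv N ((asIso (d ≫ germ a _ (U' j) b)) ≪≫
        (stalkPullIso (σ i) a).app G).addCommGroupIsoToAddEquiv.toEquiv
    obtain ⟨e, he⟩ := exists_fiber_over (U := EtCoh.top X) x (a ≫ σ i)
      ((Scheme.Hom.comp_apply _ _ _).trans ((congrArg (σ i).base (geomPt_base t₀)).trans ht₀))
    obtain ⟨U, -, z, -, c, hc⟩ := exists_hom_lift_ab (a ≫ σ i) G e _ (𝟙 _)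
    obtain ⟨z₁, hz₁⟩ := exists_fiberComp (σ i) a U z
    obtain ⟨O, hO, hzO, hcase⟩ := exists_open_iso_or_not (h i)
      (c ≫ ((EtCoh.pullPushAdj (σ i)).unit.app G).hom.app (op U)) (ptOf z₁)
    have h0 : IsIso ((c ≫ ((EtCoh.pullPushAdj (σ i)).unit.app G).hom.app (op U)) ≫
        germ a ((EtCoh.pull (σ i)).obj G) ((EtCoh.bc (σ i)).obj U) z₁) := by
      rw [isIso_germ_pull_iff, hz₁, hc]
      exact IsIso.id _
    have hiso := hcase.resolve_right fun h' => h' _ a z₁ hzO h0
    haveI : Etale U.hom := U.prop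
    let π : ((EtCoh.bc (σ i)).obj U).left ⟶ U.left := pullback.fst U.hom (σ i)
    haveI : Etale π := MorphismProperty.pullback_fst _ _ inferInstance
    let O' : U.left.Opens := ⟨π '' O, π.isOpenMap _ hO⟩
    let W : X.Etale := MorphismProperty.Over.mk ⊤ (O'.ι ≫ U.hom) (inferInstanceAs (Etale _))
    let k : W ⟶ U := MorphismProperty.Over.homMk O'.ι rfl trivial
    have hzπ : π (ptOf z₁) = ptOf z :=
      (ptOf_fiberCompIso (σ i) a U z₁).symm.trans (congrArg ptOf hz₁)
    refine ⟨W, ⟨ptOf z, ⟨_, hzO, hzπ⟩⟩, ?_, _, hM, c ≫ G.obj.map k.op, ?_⟩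
    · refine (Scheme.Hom.comp_apply _ _ _).trans ((ptOf_base z).trans ?_)
      exact (Scheme.Hom.comp_apply _ _ _).trans ((congrArg (σ i).base (geomPt_base t₀)).trans ht₀)
    · intro Ω _ _ ξ t
      rw [Category.assoc, germ, GrothendieckTopology.Point.toPresheafFiber_w]
      let s := (Scheme.pointSmallEtale ξ).fiber.map k t
      obtain ⟨q, hq, hqs⟩ : ∃ q ∈ O, π q = ptOf s := (ptOf_map k t).symm ▸ (ptOf t).2
      let Q : U.left.Etale := MorphismProperty.Over.mk ⊤ π inferInstance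
      obtain ⟨q', hq'⟩ := exists_fiber_over (U := Q) q (s.left : Spec (CommRingCat.of Ω) ⟶ U.left) hqs.symm
      let a' : Spec (CommRingCat.of Ω) ⟶ T i := q'.left ≫ pullback.snd U.hom (σ i)
      have hπ : q'.left ≫ pullback.fst U.hom (σ i) = s.left := Over.w q'
      let s₁ : (Scheme.pointSmallEtale a').fiber.obj ((EtCoh.bc (σ i)).obj U) := Over.homMk q'.left rfl
      have hs₁ : ptOf ((fiberCompIso (σ i) a').hom.app U s₁) = ptOf s :=
        (ptOf_fiberCompIso (σ i) a' U s₁).trans ((congrArg π (show ptOf s₁ = q from hq')).trans hqs)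
      have h1 := hiso Ω a' s₁ (by
        have : ptOf s₁ = q := hq'
        rw [this]; exact hq)
      rw [isIso_germ_pull_iff] at h1
      exact (isIso_germ_iff_of_ptOf_eq G c _ s hs₁).1 h1
  choose W w hw M hM C hC using key
  exact (isFiniteLocallyConstant_iff _).2 ⟨X, W, fun y => ⟨y, w y, hw y⟩, fun y => ⟨M y, hM y, C y, hC y⟩⟩

end Groth.Agent.H18Et.LC

namespace Groth.Agent.H18Et.Cons

open scoped Groth.Agent.H18Et

variable {X Y : Scheme.{u}}

theorem isClopen_of_pieces' {T : Type*} [TopologicalSpace T] {ι : Type*} {C : Set T} {S : ι → Set T}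
    (ho : ∀ i, IsOpen (S i)) (hu : ∀ t, ∃ i, t ∈ S i) (h : ∀ i, S i ⊆ C ∨ S i ⊆ Cᶜ) : IsClopen C := by
  refine ⟨isOpen_compl_iff.1 (isOpen_iff_forall_mem_open.2 fun t ht => ?_),
    isOpen_iff_forall_mem_open.2 fun t ht => ?_⟩
  · obtain ⟨i, hi⟩ := hu t
    exact ⟨S i, (h i).resolve_left fun h' => ht (h' hi), ho i, hi⟩
  · obtain ⟨i, hi⟩ := hu t
    exact ⟨S i, (h i).resolve_right fun h' => h' hi ht, ho i, hi⟩

/-- Constructibility from finite stalks and constructibility of the isomorphism loci. -/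
theorem isConstructible_of_isoSet (F : EtCoh.Ab X)
    (hfin : ∀ (Ω : Type u) [Field Ω] [IsSepClosed Ω] (ξ : Spec (CommRingCat.of Ω) ⟶ X),
      Finite ((EtCoh.stalk ξ).obj F))
    (h : ∀ (P : X.Etale) [IsAffine P.left] (M : AddCommGrpCat.{u + 1}) [Finite M]
      (c : M ⟶ F.obj.obj (op P)), IsConstructible (isoSet F c)) : EtPBC.IsConstructible F := by
  rw [isConstructible_iff]
  refine locAdapted_of_covered (flc_precomp _) fun A hA => ?_
  haveI : IsAffine A.toScheme := hA
  have key : ∀ y : A.toScheme, ∃ (T : Scheme.{u}) (g : T ⟶ A.toScheme), IsImmersion g ∧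
      IsConstructible (Set.range g) ∧ y ∈ Set.range g ∧ FLC F (g ≫ A.ι) := by
    intro y
    let x : X := A.ι y
    haveI hM : Finite ((Scheme.pointSmallEtale (geomPt x)).sheafFiber.obj F : AddCommGrpCat.{u + 1}) :=
      hfin _ (geomPt x)
    obtain ⟨e, -⟩ := exists_fiber_over (U := EtCoh.top X) x (geomPt x) (geomPt_base x)
    obtain ⟨U, -, z, -, c, hc⟩ := LC.exists_hom_lift_ab (geomPt x) F e _ (𝟙 _)
    haveI : Etale U.hom := U.prop
    have hbase : U.hom (ptOf z) = x := (LC.ptOf_base z).trans (geomPt_base x)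
    -- isolate the point in its fibre inside an affine open over `A`
    obtain ⟨B₀, hB₀, hzB₀, hB₀A⟩ := exists_isAffineOpen_mem_and_subset (X := U.left) (x := ptOf z)
      (U := U.hom ⁻¹ᵁ A) (show U.hom (ptOf z) ∈ A by rw [hbase]; exact y.2)
    haveI : IsAffine B₀.toScheme := hB₀
    let P₀ : X.Etale := MorphismProperty.Over.mk ⊤ (B₀.ι ≫ U.hom) (inferInstanceAs (Etale _))
    let a₀ : B₀.toScheme ⟶ A.toScheme := U.hom.resLE A B₀ hB₀A
    haveI : Etale a₀ := inferInstance
    haveI : IsAffineHom a₀ := isAffineHom_of_isAffine a₀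
    haveI : LocallyQuasiFinite a₀ :=
      ((Groth.Agent.H06Unram.etale_iff_smooth_and_locallyQuasiFinite a₀).mp inferInstance).2
    have hdisc : _root_.IsDiscrete (a₀ ⁻¹' {y}) := a₀.isDiscrete_preimage_singleton _
    have hyz : a₀ ⟨ptOf z, hzB₀⟩ = y := by
      apply A.ι.isOpenEmbedding.injective
      rw [← Scheme.Hom.comp_apply, Scheme.Hom.resLE_comp_ι, Scheme.Hom.comp_apply]
      exact hbase
    obtain ⟨Ω₁, hΩ₁, hΩeq⟩ := SitePoints.exists_open_inter_eq_singleton hdisc
      (show (⟨ptOf z, hzB₀⟩ : B₀.toScheme) ∈ a₀ ⁻¹' {y} from hyz)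
    obtain ⟨B, hB, hzB, hBΩ⟩ := exists_isAffineOpen_mem_and_subset (X := B₀.toScheme)
      (x := ⟨ptOf z, hzB₀⟩) (U := ⟨Ω₁, hΩ₁⟩) (hΩeq.ge rfl).1
    haveI : IsAffine B.toScheme := hB
    let a : B.toScheme ⟶ A.toScheme := B.ι ≫ a₀
    haveI : IsAffineHom a := isAffineHom_of_isAffine a
    haveI : Etale a := inferInstance
    let P : X.Etale := MorphismProperty.Over.mk ⊤ (B.ι ≫ B₀.ι ≫ U.hom) (inferInstanceAs (Etale _))
    haveI : IsAffine P.left := hB
    let j : P ⟶ U := MorphismProperty.Over.homMk (B.ι ≫ B₀.ι) (Category.assoc _ _ _) trivial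
    have hfac : a ≫ A.ι = P.hom := by
      change (B.ι ≫ a₀) ≫ A.ι = B.ι ≫ B₀.ι ≫ U.hom
      rw [Category.assoc, Scheme.Hom.resLE_comp_ι]
    let pz : B.toScheme := ⟨⟨ptOf z, hzB₀⟩, hzB⟩
    obtain ⟨z', hz', hp⟩ := LC.exists_fiber_map j z pz (Scheme.Hom.comp_apply _ _ _)
    let c' := c ≫ F.obj.map j.op
    let K : Set B.toScheme := isoSet F c'
    have hK : IsConstructible K := h P _ c'
    have hzK : pz ∈ K := by
      intro Ω _ _ ξ t ht
      rw [LC.isIso_germ_iff_of_ptOf_eq F c' t z' (ht.trans hp.symm), Category.assoc, germ,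
        GrothendieckTopology.Point.toPresheafFiber_w, hz', hc]
      exact IsIso.id _
    have hpt : ∀ b : B.toScheme, a b = y → b = pz := fun b hb => by
      have hb' : B.ι b ∈ Ω₁ ∩ a₀ ⁻¹' {y} := ⟨hBΩ b.2, (Scheme.Hom.comp_apply B.ι a₀ b).symm.trans hb⟩
      rw [hΩeq] at hb'
      exact B.ι.isOpenEmbedding.injective hb'
    let S : Set A.toScheme := a '' K \ a '' Kᶜ
    have hS : IsConstructible S := (a.isConstructible_image hK).sdiff (a.isConstructible_image hK.compl)
    have hyS : y ∈ S := by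
      refine ⟨⟨pz, hzK, hyz⟩, ?_⟩
      rintro ⟨b, hb, hby⟩
      exact hb (hpt b hby ▸ hzK)
    -- a locally closed constructible piece of `S` through `y`
    classical
    obtain ⟨𝒰, h𝒰, h𝒰'⟩ := exists_opens_of_isConstructible hS
    let O : A.toScheme.Opens := ⟨⋂ V ∈ 𝒰.filter (y ∈ ·), V,
      isOpen_biInter_finset fun V hV => (h𝒰 V (Finset.mem_filter.1 hV).1).1⟩
    let Z : Set A.toScheme := ⋂ V ∈ 𝒰.filter (y ∉ ·), Vᶜ
    have hZ : IsClosed Z := isClosed_biInter fun V hV => (h𝒰 V (Finset.mem_filter.1 hV).1).1.isClosed_compl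
    obtain ⟨T, g, hg, hr⟩ := exists_immersion_range O Z hZ
    haveI := hg
    have hmem : ∀ v : A.toScheme, v ∈ Set.range g → v ∈ S := fun v hv => by
      rw [hr] at hv
      refine (h𝒰' v y fun V hV => ?_).2 hyS
      by_cases hy : y ∈ V
      · exact iff_of_true (Set.mem_iInter₂.1 hv.1 V (Finset.mem_filter.2 ⟨hV, hy⟩)) hy
      · exact iff_of_false (Set.mem_iInter₂.1 hv.2 V (Finset.mem_filter.2 ⟨hV, hy⟩)) hy
    refine ⟨T, g, hg, ?_, ?_, ?_⟩
    · rw [hr]
      refine IsConstructible.inter ?_ ?_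
      · change IsConstructible (⋂ V ∈ 𝒰.filter (y ∈ ·), V)
        exact IsConstructible.biInter (Finset.finite_toSet _) fun V hV =>
          (h𝒰 V (Finset.mem_filter.1 hV).1).2.isCompact.isConstructible (h𝒰 V (Finset.mem_filter.1 hV).1).1
      · exact IsConstructible.biInter (Finset.finite_toSet _) fun V hV =>
          ((h𝒰 V (Finset.mem_filter.1 hV).1).2.isCompact.isConstructible
            (h𝒰 V (Finset.mem_filter.1 hV).1).1).compl
    · rw [hr]
      exact ⟨Set.mem_iInter₂.2 fun V hV => (Finset.mem_filter.1 hV).2,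
        Set.mem_iInter₂.2 fun V hV => (Finset.mem_filter.1 hV).2⟩
    · refine (LC.isFiniteLocallyConstant_iff _).2 ⟨PUnit, fun _ => (EtCoh.bc (g ≫ A.ι)).obj P,
        fun t => ?_, fun _ => ⟨_, hM, c' ≫ ((EtCoh.pullPushAdj (g ≫ A.ι)).unit.app F).hom.app (op P), ?_⟩⟩
      · obtain ⟨⟨b, -, hb⟩, -⟩ := hmem (g t) ⟨t, rfl⟩
        obtain ⟨q, -, hq⟩ := Scheme.Pullback.exists_preimage_pullback (f := P.hom) (g := g ≫ A.ι) b t
          (((congrArg (fun k => k.base b) hfac.symm).trans (Scheme.Hom.comp_apply a A.ι b)).trans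
            ((congrArg A.ι.base hb).trans (Scheme.Hom.comp_apply g A.ι t).symm))
        exact ⟨PUnit.unit, q, hq⟩
      · intro Ω _ _ ξ' t
        refine (LC.isIso_germ_pull_iff (g ≫ A.ι) F c' ξ' t).2 ?_
        let s := (fiberCompIso (g ≫ A.ι) ξ').hom.app P t
        suffices hs : (ptOf s : B.toScheme) ∈ K from hs Ω _ s rfl
        by_contra hs
        have hg' : a (ptOf s) = g (ξ'.base default) := by
          apply A.ι.isOpenEmbedding.injective
          rw [← Scheme.Hom.comp_apply, hfac, ← Scheme.Hom.comp_apply g A.ι]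
          exact (LC.ptOf_base s).trans (Scheme.Hom.comp_apply _ _ _)
        exact (hmem _ ⟨ξ'.base default, rfl⟩).2 ⟨ptOf s, hs, hg'⟩
  choose T g hg hc hy hq using key
  haveI := hg
  refine covered_of_constructible_immersions (flc_precomp _) T g hc
    (Set.eq_univ_of_forall fun y => Set.mem_iUnion.2 ⟨y, hy y⟩) fun y => ?_
  haveI := compactSpace_of_immersion (g y) (hc y)
  refine Covered.of_finite (ι := Unit) (fun _ => T y) (fun _ => 𝟙 _) ?_ ?_ ?_
  · intro _
    simpa using IsConstructible.univ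
  · simp [Set.iUnion_const]
  · intro _
    rw [Category.id_comp]
    exact hq y

/-- Descent of constructibility along surjective morphisms locally of finite presentation. -/
theorem isConstructible_of_pull (f : X ⟶ Y) [Surjective f] [LocallyOfFinitePresentation f]
    (F : EtCoh.Ab Y) (hF : EtPBC.IsConstructible ((EtCoh.pull f).obj F)) :
    EtPBC.IsConstructible F := by
  refine isConstructible_of_isoSet F (fun Ω _ _ ξ => ?_) fun P _ M _ c => ?_
  · obtain ⟨x, hx⟩ := f.surjective (ξ.base default)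
    obtain ⟨Ω', _, _, a, ha⟩ := LC.exists_geom_over x
    haveI : Finite ↑((EtCoh.pull f ⋙ EtCoh.stalk a).obj F) := finite_stalk_of_isConstructible _ hF a
    obtain ⟨e⟩ := LC.stalk_iso_of_base_eq ξ (a ≫ f)
      (hx.symm.trans ((congrArg f.base ha).symm.trans (Scheme.Hom.comp_apply _ _ _).symm)) F
    exact Finite.of_equiv _ (((stalkPullIso f a).app F) ≪≫ e.symm).addCommGroupIsoToAddEquiv.toEquiv
  · haveI : Etale P.hom := P.prop
    let π : ((EtCoh.bc f).obj P).left ⟶ P.left := pullback.fst P.hom f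
    haveI : LocallyOfFinitePresentation π := MorphismProperty.pullback_fst _ _ inferInstance
    let G := (EtCoh.pull f).obj F
    let u := ((EtCoh.pullPushAdj f).unit.app F).hom.app (op P)
    -- every point of `P` has a preimage in an affine open on which the locus is constructible
    have key : ∀ p : P.left, ∃ S : Set P.left, IsConstructible S ∧ p ∈ S ∧
        (S ⊆ isoSet F c ∨ S ⊆ (isoSet F c)ᶜ) := by
      intro p
      obtain ⟨q, hq⟩ := π.surjective p
      obtain ⟨B, hB, hqB, -⟩ := exists_isAffineOpen_mem_and_subset (x := q) (U := ⊤) trivial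
      haveI : IsAffine B.toScheme := hB
      haveI : Etale ((EtCoh.bc f).obj P).hom := ((EtCoh.bc f).obj P).prop
      let Q : X.Etale := MorphismProperty.Over.mk ⊤ (B.ι ≫ ((EtCoh.bc f).obj P).hom)
        (inferInstanceAs (Etale _))
      let j : Q ⟶ (EtCoh.bc f).obj P := MorphismProperty.Over.homMk B.ι rfl trivial
      haveI : IsAffine Q.left := hB
      let K : Set B.toScheme := isoSet G ((c ≫ u) ≫ G.obj.map j.op)
      have hK : IsConstructible K := isConstructible_isoSet G hF _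
      let b : B.toScheme ⟶ P.left := B.ι ≫ π
      haveI : IsAffineHom b := isAffineHom_of_isAffine b
      have hb : ∀ v : B.toScheme, v ∈ K ↔ b v ∈ isoSet F c := by
        intro v
        obtain ⟨Ω, _, _, a, ha⟩ := LC.exists_geom_over (Q.hom v)
        obtain ⟨t, ht⟩ := exists_fiber_over (U := Q) v a ha
        let t₁ := (Scheme.pointSmallEtale a).fiber.map j t
        let s := (fiberCompIso f a).hom.app P t₁
        have hs : ptOf s = b v :=
          (LC.ptOf_fiberCompIso f a P t₁).trans ((congrArg π.base ((ptOf_map j t).trans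
            (congrArg B.ι.base ht))).trans (Scheme.Hom.comp_apply _ _ _).symm)
        have e : IsIso (((c ≫ u) ≫ G.obj.map j.op) ≫ germ a G Q t) ↔ IsIso (c ≫ germ (a ≫ f) F P s) := by
          rw [Category.assoc, germ, GrothendieckTopology.Point.toPresheafFiber_w]
          exact LC.isIso_germ_pull_iff f F c a t₁
        constructor
        · intro hv Ω' _ _ ξ w hw
          rw [LC.isIso_germ_iff_of_ptOf_eq F c w s (hw.trans hs.symm), ← e]
          exact hv Ω a t ht
        · intro hv Ω' _ _ ξ w hw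
          rw [LC.isIso_germ_iff_of_ptOf_eq G _ w t (hw.trans ht.symm), e]
          exact hv Ω (a ≫ f) s hs
      by_cases hp : (⟨q, hqB⟩ : B.toScheme) ∈ K
      · refine ⟨b '' K, b.isConstructible_image hK, ⟨_, hp, hq⟩, Or.inl ?_⟩
        rintro _ ⟨v, hv, rfl⟩
        exact (hb v).1 hv
      · refine ⟨b '' Kᶜ, b.isConstructible_image hK.compl, ⟨_, hp, hq⟩, Or.inr ?_⟩
        rintro _ ⟨v, hv, rfl⟩
        exact fun h' => hv ((hb v).2 h')
    choose S hS hpS hcase using key
    rw [Groth.Agent.H28Top.isConstructible_iff_isClopen_constr]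
    exact @isClopen_of_pieces' P.left (constructibleTopology P.left) P.left (isoSet F c) S
      (fun p => Groth.Agent.H28Top.isOpen_constr_of_isConstructible (hS p)) (fun p => ⟨p, hpS p⟩) hcase

theorem isConstructible_iff_pull (f : X ⟶ Y) [Surjective f] [LocallyOfFinitePresentation f]
    (F : EtCoh.Ab Y) : EtPBC.IsConstructible F ↔ EtPBC.IsConstructible ((EtCoh.pull f).obj F) :=
  ⟨isConstructible_pull f F, isConstructible_of_pull f F⟩

end Groth.Agent.H18Et.Cons
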