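import Groth.Agent.H18Et.Cons.ModBasic
import Groth.Agent.H18Et.Cons.IsoSet

/-!
# Subsheaves and quotients of constructible sheaves of modules
-/

set_option backward.isDefEq.respectTransparency false
set_option backward.isDefEq.respectTransparency.types false

universe u

open CategoryTheory CategoryTheory.Limits AlgebraicGeometry Opposite

namespace Groth.Agent.H18Et.Cons

open scoped Groth.Agent.H18Et

variable (Λ : Type (u + 1)) [CommRing Λ] {X : Scheme.{u}}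
  {Ω Ω' : Type u} [Field Ω] [IsSepClosed Ω] [Field Ω'] [IsSepClosed Ω']

theorem isIso_germ_pre_mod_iff (pre : Spec (CommRingCat.of Ω') ⟶ Spec (CommRingCat.of Ω))
    (ξ : Spec (CommRingCat.of Ω) ⟶ X) (F : EtModW.Mod Λ X) {P : X.Etale} {M : ModuleCat.{u + 1} Λ}
    (c : M ⟶ F.obj.obj (op P)) (t : (Scheme.pointSmallEtale ξ).fiber.obj P) :
    IsIso (c ≫ germ ξ F P t) ↔
      IsIso (c ≫ germ (pre ≫ ξ) F P ((LC.pointHomOfPre pre ξ).hom.app P t)) := by
  haveI := LC.isIso_sheafFiber_pointHomOfPre pre ξ F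
  exact LC.isIso_germ_of_specialization c (LC.pointHomOfPre pre ξ) t

/-- Being an isomorphism on the stalk only depends on the underlying point. -/
theorem isIso_germ_mod_iff_of_ptOf_eq (F : EtModW.Mod Λ X) {P : X.Etale} {M : ModuleCat.{u + 1} Λ}
    (c : M ⟶ F.obj.obj (op P)) {ξ : Spec (CommRingCat.of Ω) ⟶ X} {ξ' : Spec (CommRingCat.of Ω') ⟶ X}
    (t : (Scheme.pointSmallEtale ξ).fiber.obj P) (t' : (Scheme.pointSmallEtale ξ').fiber.obj P)
    (h : ptOf t = ptOf t') : IsIso (c ≫ germ ξ F P t) ↔ IsIso (c ≫ germ ξ' F P t') := by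
  obtain ⟨L, _, _, p, q, hpq⟩ := LC.exists_amalgam (t.left : Spec (CommRingCat.of Ω) ⟶ P.left)
    (t'.left : Spec (CommRingCat.of Ω') ⟶ P.left) h
  rw [isIso_germ_pre_mod_iff Λ p ξ F c t, isIso_germ_pre_mod_iff Λ q ξ' F c t']
  have hξ : p ≫ ξ = q ≫ ξ' := by
    refine (congrArg (p ≫ ·) (Over.w t).symm).trans ?_
    refine Eq.trans ?_ (congrArg (q ≫ ·) (Over.w t'))
    exact (Category.assoc _ _ _).symm.trans
      ((congrArg (· ≫ P.hom) hpq).trans (Category.assoc _ _ _))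
  have key : ∀ (ζ ζ' : Spec (CommRingCat.of L) ⟶ X) (a : (Scheme.pointSmallEtale ζ).fiber.obj P)
      (a' : (Scheme.pointSmallEtale ζ').fiber.obj P), ζ = ζ' → a.left = a'.left →
      (IsIso (c ≫ germ ζ F P a) ↔ IsIso (c ≫ germ ζ' F P a')) := by
    rintro ζ _ a a' rfl ha
    obtain rfl : a = a' := Over.OverMorphism.ext ha
    exact Iff.rfl
  exact key _ _ _ _ hξ hpq

theorem eq_of_specializes_fibre {V : Scheme.{u}} (f : V ⟶ X) [Etale f] {v w : V} (h : v ⤳ w)
    (e : f v = f w) : v = w := by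
  haveI : LocallyQuasiFinite f :=
    ((Groth.Agent.H06Unram.etale_iff_smooth_and_locallyQuasiFinite f).mp inferInstance).2
  obtain ⟨U, hU, hU'⟩ := SitePoints.exists_open_inter_eq_singleton
    (f.isDiscrete_preimage_singleton (f w)) (show w ∈ f ⁻¹' {f w} from rfl)
  exact hU'.le ⟨h.mem_open hU (hU'.ge rfl).1, e⟩

variable [IsNoetherianRing Λ]

/-- A subsheaf of a sheaf that is lisse near `x` along the closure of `x` is lisse on a smaller neighbourhood. -/
theorem exists_isLisseOn_sub {F G : EtModW.Mod Λ X} (ι : G ⟶ F) [Mono ι] (x : X) (V₀ : X.Opens)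
    (hxV₀ : x ∈ V₀) (hF : IsLisseOn Λ F ((V₀ : Set X) ∩ closure {x})) :
    ∃ V : X.Opens, x ∈ V ∧ IsLisseOn Λ G ((V : Set X) ∩ closure {x}) := by
  have hx₀ : (geomPt x).base default ∈ (V₀ : Set X) ∩ closure {x} := by
    rw [geomPt_base]; exact ⟨hxV₀, subset_closure rfl⟩
  have hmono : ∀ (Ω : Type u) [Field Ω] [IsSepClosed Ω] (ξ : Spec (CommRingCat.of Ω) ⟶ X),
      Mono ((EtModW.stalk Λ ξ).map ι) := fun Ω _ _ ξ => by
    haveI := H25Constr.stalkMod_preservesFiniteLimits Λ ξ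
    infer_instance
  have hfin : ∀ (Ω : Type u) [Field Ω] [IsSepClosed Ω] (ξ : Spec (CommRingCat.of Ω) ⟶ X),
      ξ.base default ∈ (V₀ : Set X) ∩ closure {x} → Module.Finite Λ ((EtModW.stalk Λ ξ).obj G) := by
    intro Ω _ _ ξ hξ
    haveI := hF.finite Ω ξ hξ
    haveI := isNoetherian_of_isNoetherianRing_of_finite Λ ((EtModW.stalk Λ ξ).obj F)
    exact Module.Finite.of_injective ((EtModW.stalk Λ ξ).map ι).hom
      ((ModuleCat.mono_iff_injective _).1 (hmono Ω ξ))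
  obtain ⟨e, -⟩ := exists_fiber_over (U := EtCoh.top X) x (geomPt x) (geomPt_base x)
  haveI hM : Module.Finite Λ ((Scheme.pointSmallEtale (geomPt x)).sheafFiber.obj G : ModuleCat.{u + 1} Λ) :=
    hfin _ _ hx₀
  haveI : Module.FinitePresentation Λ
      ((Scheme.pointSmallEtale (geomPt x)).sheafFiber.obj G : ModuleCat.{u + 1} Λ) :=
    Module.finitePresentation_of_finite Λ _
  obtain ⟨U, -, z, -, c, hc⟩ := LC.exists_hom_lift_mod (geomPt x) Λ G e _ (𝟙 _)
  haveI : Etale U.hom := U.prop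
  obtain ⟨O₁, hvO, hO⟩ := exists_open_point U.hom (ptOf z)
  have hbase : U.hom (ptOf z) = x := (LC.ptOf_base z).trans (geomPt_base x)
  let O : U.left.Opens := O₁ ⊓ U.hom ⁻¹ᵁ V₀
  let V : X.Opens := ⟨U.hom '' (O : Set U.left), U.hom.isOpenMap _ O.2⟩
  have hVV₀ : (V : Set X) ∩ closure {x} ⊆ (V₀ : Set X) ∩ closure {x} := by
    rintro _ ⟨⟨o, ho, rfl⟩, h⟩
    exact ⟨ho.2, h⟩
  have hiso : ∀ (Ω : Type u) [Field Ω] [IsSepClosed Ω] (ξ : Spec (CommRingCat.of Ω) ⟶ X)
      (φ : Scheme.pointSmallEtale (geomPt x) ⟶ Scheme.pointSmallEtale ξ),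
      ξ.base default ∈ (V : Set X) ∩ closure {x} →
      IsIso ((GrothendieckTopology.Point.Hom.sheafFiber (A := ModuleCat.{u + 1} Λ) φ).app G) := by
    intro Ω _ _ ξ φ hξ
    obtain ⟨o, ho, hoξ⟩ := hξ.1
    obtain ⟨s, hs⟩ := exists_fiber_over o ξ hoξ.symm
    have hv' : ptOf (φ.hom.app U s) ∈ O₁ :=
      (LC.specializes_of_hom φ s).mem_open O₁.2 (hs.symm ▸ ho.1)
    have hv'x : U.hom (ptOf (φ.hom.app U s)) = x := (LC.ptOf_base _).trans (geomPt_base x)
    have hvv : ptOf z = ptOf (φ.hom.app U s) := eq_of_specializes_fibre U.hom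
      (hO _ hv' (by rw [hv'x, hbase]; exact subset_closure rfl)) (hbase.trans hv'x.symm)
    have h1 : IsIso (c ≫ germ (geomPt x) G U (φ.hom.app U s)) :=
      (isIso_germ_mod_iff_of_ptOf_eq Λ G c z _ hvv).1 (by rw [hc]; exact IsIso.id _)
    let qG : (EtModW.stalk Λ ξ).obj G ⟶ (EtModW.stalk Λ (geomPt x)).obj G :=
      (GrothendieckTopology.Point.Hom.sheafFiber (A := ModuleCat.{u + 1} Λ) φ).app G
    let qF : (EtModW.stalk Λ ξ).obj F ⟶ (EtModW.stalk Λ (geomPt x)).obj F :=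
      (GrothendieckTopology.Point.Hom.sheafFiber (A := ModuleCat.{u + 1} Λ) φ).app F
    have h2 : IsIso ((c ≫ germ ξ G U s) ≫ qG) := by
      rw [← LC.germ_sheafFiber_hom φ G U s, ← Category.assoc] at h1
      exact h1
    haveI := h2
    haveI : Epi qG := epi_of_epi (c ≫ germ ξ G U s) qG
    haveI : IsIso qF := hF.iso _ _ _ _ φ (hVV₀ hξ) hx₀
    have hnat : (EtModW.stalk Λ ξ).map ι ≫ qF = qG ≫ (EtModW.stalk Λ (geomPt x)).map ι :=
      (GrothendieckTopology.Point.Hom.sheafFiber (A := ModuleCat.{u + 1} Λ) φ).naturality ι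
    rw [ConcreteCategory.isIso_iff_bijective]
    refine ⟨fun a b hab => (ModuleCat.mono_iff_injective _).1 (hmono Ω ξ)
      ((ConcreteCategory.bijective_of_isIso qF).1 ?_), (ModuleCat.epi_iff_surjective qG).1 inferInstance⟩
    exact ((ConcreteCategory.congr_hom hnat a).trans (congrArg ((EtModW.stalk Λ (geomPt x)).map ι).hom hab)).trans
      (ConcreteCategory.congr_hom hnat b).symm
  refine ⟨V, ⟨ptOf z, ⟨hvO, (show U.hom (ptOf z) ∈ V₀ by rw [hbase]; exact hxV₀)⟩, hbase⟩,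
    ⟨fun Ω _ _ ξ hξ => hfin Ω ξ (hVV₀ hξ), fun Ω Ω' _ _ _ _ ξ ξ' φ hξ hξ' => ?_⟩⟩
  obtain ⟨ψ⟩ := LC.exists_specialization ξ' (geomPt x)
    (by rw [geomPt_base, specializes_iff_mem_closure]; exact hξ'.2)
  haveI := hiso Ω' ξ' ψ hξ'
  have h := hiso Ω ξ (ψ ≫ φ) hξ
  rw [GrothendieckTopology.Point.Hom.sheafFiber_comp, NatTrans.comp_app] at h
  exact IsIso.of_isIso_comp_right _
    ((GrothendieckTopology.Point.Hom.sheafFiber (A := ModuleCat.{u + 1} Λ) ψ).app G)

variable [IsLocallyNoetherian X]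

theorem isConstructible_mod_sub {F G : EtModW.Mod Λ X} (ι : G ⟶ F) [Mono ι]
    (hF : EtModW.IsConstructible Λ F) : EtModW.IsConstructible Λ G := by
  rw [isConstructible_mod_iff_lisse] at hF ⊢
  intro x
  obtain ⟨V₀, hV₀, h⟩ := hF x
  exact exists_isLisseOn_sub Λ ι x V₀ hV₀ h

theorem isConstructible_mod_iso {F G : EtModW.Mod Λ X} (e : F ≅ G) (hF : EtModW.IsConstructible Λ F) :
    EtModW.IsConstructible Λ G :=
  isConstructible_mod_sub Λ e.inv hF

theorem isConstructible_mod_quotient {F Q : EtModW.Mod Λ X} (π : F ⟶ Q) [Epi π]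
    (hF : EtModW.IsConstructible Λ F) : EtModW.IsConstructible Λ Q := by
  have hC := (isConstructible_mod_kernel_cokernel Λ (kernel.ι π)
    (isConstructible_mod_sub Λ (kernel.ι π) hF) hF).2
  exact isConstructible_mod_iso Λ ((cokernelIsCokernel (kernel.ι π)).coconePointUniqueUpToIso
      (Abelian.epiIsCokernelOfKernel _ (limit.isLimit (parallelPair π 0)))) hC

end Groth.Agent.H18Et.Cons
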