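import Groth.Agent.H28Top.Spectral
import Mathlib.AlgebraicGeometry.Morphisms.Immersion
import Mathlib.AlgebraicGeometry.Morphisms.QuasiSeparated
import Mathlib.AlgebraicGeometry.Morphisms.FinitePresentation
import Mathlib.AlgebraicGeometry.IdealSheaf.Functorial
import Mathlib.AlgebraicGeometry.Morphisms.ClosedImmersion

/-!
# Stratifications by constructible locally closed subschemes

For a property `Q` of morphisms into a scheme `X` that is stable under precomposition, `Covered Q f`
says that the source of `f : W ⟶ X` is a finite union of constructible locally closed subschemes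
on which the property holds.
-/

set_option backward.isDefEq.respectTransparency false
set_option backward.isDefEq.respectTransparency.types false

universe u

open CategoryTheory CategoryTheory.Limits AlgebraicGeometry Topology

namespace Groth.Agent.H18Et.Cons

section Topology

variable {X : Type*} [TopologicalSpace X]

/-- A constructible set is determined by membership in finitely many retrocompact opens. -/
theorem exists_opens_of_isConstructible {s : Set X} (hs : IsConstructible s) :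
    ∃ 𝒰 : Finset (Set X), (∀ U ∈ 𝒰, IsOpen U ∧ IsRetrocompact U) ∧
      ∀ x y, (∀ U ∈ 𝒰, (x ∈ U ↔ y ∈ U)) → (x ∈ s ↔ y ∈ s) := by
  classical
  induction hs using IsConstructible.empty_union_induction with
  | open_retrocompact U hUopen hUcomp =>
    exact ⟨{U}, by simp [hUopen, hUcomp], fun x y h => h U (by simp)⟩
  | union s hs t ht hs' ht' =>
    obtain ⟨𝒰, hU, hU'⟩ := hs'
    obtain ⟨𝒱, hV, hV'⟩ := ht'
    refine ⟨𝒰 ∪ 𝒱, fun U h => (Finset.mem_union.1 h).elim (hU U) (hV U), fun x y h => ?_⟩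
    exact or_congr (hU' x y fun U hU => h U (Finset.mem_union_left _ hU))
      (hV' x y fun U hU => h U (Finset.mem_union_right _ hU))
  | compl s hs hs' =>
    obtain ⟨𝒰, hU, hU'⟩ := hs'
    exact ⟨𝒰, hU, fun x y h => not_congr (hU' x y h)⟩

end Topology

variable {X : Scheme.{u}}

/-- A morphism whose range is a given locally closed set. -/
theorem exists_immersion_range (O : X.Opens) (C : Set X) (hC : IsClosed C) :
    ∃ (Z : Scheme.{u}) (g : Z ⟶ X), IsImmersion g ∧ Set.range g = (O : Set X) ∩ C := by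
  let K : TopologicalSpace.Closeds O.toScheme := ⟨O.ι ⁻¹' C, hC.preimage O.ι.continuous⟩
  let I := Scheme.IdealSheafData.vanishingIdeal K
  refine ⟨I.subscheme, I.subschemeι ≫ O.ι, inferInstance, ?_⟩
  rw [Scheme.Hom.comp_base, TopCat.coe_comp, Set.range_comp, I.range_subschemeι,
    Scheme.IdealSheafData.coe_support_vanishingIdeal]
  change O.ι '' (O.ι ⁻¹' C) = _
  rw [Set.image_preimage_eq_inter_range, Scheme.Opens.range_ι, Set.inter_comm]

theorem compactSpace_of_immersion {T : Scheme.{u}} (g : T ⟶ X) [IsImmersion g] [CompactSpace X]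
    [QuasiSeparatedSpace X] (hc : IsConstructible (Set.range g)) : CompactSpace T := by
  refine ⟨(g.isEmbedding.isCompact_iff).2 ?_⟩
  rw [Set.image_univ]
  exact (Groth.Agent.H28Top.isCompact_of_isClosed_constr
    (Groth.Agent.H28Top.isClosed_constr_of_isConstructible hc))

theorem quasiSeparatedSpace_of_immersion {T : Scheme.{u}} (g : T ⟶ X) [IsImmersion g]
    [QuasiSeparatedSpace X] : QuasiSeparatedSpace T :=
  quasiSeparatedSpace_of_quasiSeparated g

theorem exists_compact_open_preimage {T : Scheme.{u}} (g : T ⟶ X) [IsImmersion g]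
    {W : Set T} (hW : IsOpen W) (hWc : IsCompact W) :
    ∃ W' : Set X, IsOpen W' ∧ IsCompact W' ∧ g ⁻¹' W' = W := by
  obtain ⟨W₀, hW₀, rfl⟩ := g.isEmbedding.isInducing.isOpen_iff.1 hW
  have hsub : g '' (g ⁻¹' W₀) ⊆ W₀ := Set.image_preimage_subset _ _
  choose U hU hmem hle using fun x : (g '' (g ⁻¹' W₀) : Set X) =>
    exists_isAffineOpen_mem_and_subset (x := x.1) (U := ⟨W₀, hW₀⟩) (hsub x.2)
  obtain ⟨t, ht⟩ := (hWc.image g.continuous).elim_finite_subcover (fun x => (U x : Set X))
    (fun x => (U x).2) fun x hx => Set.mem_iUnion.2 ⟨⟨x, hx⟩, hmem _⟩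
  refine ⟨⋃ x ∈ t, (U x : Set X), isOpen_biUnion fun x _ => (U x).2,
    t.finite_toSet.isCompact_biUnion fun x _ => (hU x).isCompact, ?_⟩
  exact Set.Subset.antisymm (Set.preimage_mono (Set.iUnion₂_subset fun x _ => hle x))
    fun v hv => ht ⟨v, hv, rfl⟩

theorem isConstructible_image {T : Scheme.{u}} (g : T ⟶ X) [IsImmersion g] [CompactSpace X]
    [QuasiSeparatedSpace X] (hc : IsConstructible (Set.range g)) {C : Set T} (hC : IsConstructible C) :
    IsConstructible (g '' C) := by
  haveI := compactSpace_of_immersion g hc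
  haveI := quasiSeparatedSpace_of_immersion g
  induction hC using IsConstructible.empty_union_induction with
  | open_retrocompact W hW hWr =>
    obtain ⟨W', h1, h2, rfl⟩ := exists_compact_open_preimage g hW hWr.isCompact
    rw [Set.image_preimage_eq_inter_range]
    exact (h2.isConstructible h1).inter hc
  | union s hs t ht hs' ht' => rw [Set.image_union]; exact hs'.union ht'
  | compl s hs hs' =>
    rw [← Set.range_sdiff_image g.isEmbedding.injective]
    exact hc.sdiff hs'

section Covered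

variable (Q : ∀ {T : Scheme.{u}}, (T ⟶ X) → Prop)

/-- The property holds on a finite constructible cover by subschemes. -/
def Covered {W : Scheme.{u}} (f : W ⟶ X) : Prop :=
  ∃ (n : ℕ) (T : Fin n → Scheme.{u}) (g : ∀ i, T i ⟶ W),
    (∀ i, IsImmersion (g i)) ∧ (∀ i, IsConstructible (Set.range (g i))) ∧
    (⋃ i, Set.range (g i)) = Set.univ ∧ ∀ i, Q (g i ≫ f)

/-- The property holds on the strata of a finite partition of `S`. -/
def AdaptedQ (S : Set X) : Prop :=
  ∃ (n : ℕ) (T : Fin n → Scheme.{u}) (g : ∀ i, T i ⟶ X),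
    (∀ i, IsImmersion (g i)) ∧
    (∀ i, IsConstructible ((Subtype.val : S → X) ⁻¹' Set.range (g i))) ∧
    Pairwise (fun i j => Disjoint (Set.range (g i)) (Set.range (g j))) ∧
    (⋃ i, Set.range (g i)) = S ∧
    ∀ i, Q (g i)

/-- The property holds on constructible strata of every affine open. -/
def LocAdapted : Prop := ∀ U : X.Opens, IsAffineOpen U → AdaptedQ Q (U : Set X)

variable {Q}

theorem Covered.of_finite {W : Scheme.{u}} {f : W ⟶ X} {ι : Type*} [Finite ι] (T : ι → Scheme.{u})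
    (g : ∀ i, T i ⟶ W) [∀ i, IsImmersion (g i)] (hc : ∀ i, IsConstructible (Set.range (g i)))
    (hu : (⋃ i, Set.range (g i)) = Set.univ) (hQ : ∀ i, Q (g i ≫ f)) : Covered Q f := by
  let e := Finite.equivFin ι
  exact ⟨Nat.card ι, fun k => T (e.symm k), fun k => g _, fun k => inferInstance, fun k => hc _,
    (e.symm.surjective.iUnion_comp fun i => Set.range (g i)).trans hu, fun k => hQ _⟩

variable (hQ : ∀ {T T' : Scheme.{u}} (p : T' ⟶ T) (g : T ⟶ X), Q g → Q (p ≫ g))

include hQ in
theorem Covered.precomp {W W' : Scheme.{u}} {f : W ⟶ X} (h : Covered Q f) (p : W' ⟶ W)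
    [QuasiCompact p] : Covered Q (p ≫ f) := by
  obtain ⟨n, T, g, hg, hc, hu, hq⟩ := h
  have hr : ∀ i, Set.range (pullback.fst p (g i)) = p ⁻¹' Set.range (g i) := fun i =>
    Scheme.Pullback.range_fst _ _
  refine Covered.of_finite (fun i => pullback p (g i)) (fun i => pullback.fst p (g i))
    (fun i => ?_) ?_ fun i => ?_
  · rw [hr]; exact p.isConstructible_preimage (hc i)
  · simp only [hr, ← Set.preimage_iUnion, hu, Set.preimage_univ]
  · rw [pullback.condition_assoc]
    exact hQ _ _ (hq i)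

theorem Covered.of_immersions {W : Scheme.{u}} [CompactSpace W] [QuasiSeparatedSpace W] {f : W ⟶ X}
    {ι : Type*} [Finite ι] (T : ι → Scheme.{u}) (g : ∀ i, T i ⟶ W) [∀ i, IsImmersion (g i)]
    (hc : ∀ i, IsConstructible (Set.range (g i))) (hu : (⋃ i, Set.range (g i)) = Set.univ)
    (h : ∀ i, Covered Q (g i ≫ f)) : Covered Q f := by
  choose n S k hk hkc hku hkq using h
  refine Covered.of_finite (ι := Σ i, Fin (n i)) (fun p => S p.1 p.2) (fun p => k p.1 p.2 ≫ g p.1)
    (fun p => ?_) ?_ fun p => ?_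
  · rw [Scheme.Hom.comp_base, TopCat.coe_comp, Set.range_comp]
    exact isConstructible_image _ (hc _) (hkc _ _)
  · refine Set.eq_univ_of_forall fun w => ?_
    obtain ⟨i, t, rfl⟩ := Set.mem_iUnion.1 (hu.symm ▸ Set.mem_univ w : w ∈ ⋃ i, Set.range (g i))
    obtain ⟨j, s, rfl⟩ := Set.mem_iUnion.1 ((hku i).symm ▸ Set.mem_univ t : t ∈ ⋃ j, Set.range (k i j))
    exact Set.mem_iUnion.2 ⟨⟨i, j⟩, s, rfl⟩
  · rw [Category.assoc]
    exact hkq _ _

theorem exists_affine_cover (W : Scheme.{u}) [CompactSpace W] (P : W.Opens → Prop)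
    (h : ∀ w : W, ∃ U : W.Opens, w ∈ U ∧ IsAffineOpen U ∧ P U) :
    ∃ (ι : Type u) (_ : Finite ι) (U : ι → W.Opens),
      (∀ i, IsAffineOpen (U i) ∧ P (U i)) ∧ (⋃ i, (U i : Set W)) = Set.univ := by
  choose U hmem hU hP using h
  obtain ⟨t, ht⟩ := isCompact_univ.elim_finite_subcover (fun w => (U w : Set W)) (fun w => (U w).2)
    fun w _ => Set.mem_iUnion.2 ⟨w, hmem w⟩
  refine ⟨t, inferInstance, fun w => U w.1, fun w => ⟨hU _, hP _⟩,
    Set.eq_univ_of_forall fun w => ?_⟩
  obtain ⟨i, hi, hw⟩ := Set.mem_iUnion₂.1 (ht (Set.mem_univ w))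
  exact Set.mem_iUnion.2 ⟨⟨i, hi⟩, hw⟩

theorem Covered.of_affines {W : Scheme.{u}} [CompactSpace W] [QuasiSeparatedSpace W] {f : W ⟶ X}
    (h : ∀ w : W, ∃ U : W.Opens, w ∈ U ∧ IsAffineOpen U ∧ Covered Q (U.ι ≫ f)) : Covered Q f := by
  obtain ⟨ι, _, U, hU, hu⟩ := exists_affine_cover W (fun U => Covered Q (U.ι ≫ f)) h
  refine Covered.of_immersions (fun i => (U i).toScheme) (fun i => (U i).ι) (fun i => ?_) ?_
    fun i => (hU i).2
  · rw [Scheme.Opens.range_ι]
    exact (hU i).1.isCompact.isConstructible (U i).2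
  · simpa only [Scheme.Opens.range_ι] using hu

theorem covered_of_adaptedQ {U : X.Opens} (h : AdaptedQ Q (U : Set X)) : Covered Q U.ι := by
  obtain ⟨n, T, g, hg, hc, -, hu, hq⟩ := h
  have hsub : ∀ i, Set.range (g i) ⊆ Set.range U.ι := fun i => by
    rw [Scheme.Opens.range_ι, ← hu]; exact Set.subset_iUnion (fun i => Set.range (g i)) i
  let g' := fun i => IsOpenImmersion.lift U.ι (g i) (hsub i)
  have hf : ∀ i, g' i ≫ U.ι = g i := fun i => IsOpenImmersion.lift_fac _ _ _
  haveI : ∀ i, IsImmersion (g' i) := fun i => by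
    have : IsImmersion (g' i ≫ U.ι) := by rw [hf]; exact hg i
    exact IsImmersion.of_comp (g' i) U.ι
  have hr : ∀ i, Set.range (g' i) = U.ι ⁻¹' Set.range (g i) := fun i => by
    rw [← hf i, Scheme.Hom.comp_base, TopCat.coe_comp, Set.range_comp,
      Set.preimage_image_eq _ U.ι.isOpenEmbedding.injective]
  refine Covered.of_finite T g' (fun i => ?_) ?_ fun i => ?_
  · rw [hr]; exact hc i
  · simp only [hr, ← Set.preimage_iUnion, hu]
    exact Set.eq_univ_of_forall fun w => w.2
  · rw [hf]; exact hq i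

include hQ in
theorem Covered.exists_partition {W : Scheme.{u}} {f : W ⟶ X} (h : Covered Q f) :
    ∃ (ι : Type u) (_ : Finite ι) (T : ι → Scheme.{u}) (g : ∀ i, T i ⟶ W),
      (∀ i, IsImmersion (g i)) ∧ (∀ i, IsConstructible (Set.range (g i))) ∧
      Pairwise (fun i j => Disjoint (Set.range (g i)) (Set.range (g j))) ∧
      (⋃ i, Set.range (g i)) = Set.univ ∧ ∀ i, Q (g i ≫ f) := by
  classical
  obtain ⟨n, S, k, hk, hc, hu, hq⟩ := h
  choose 𝒰 hop hdet using fun i => exists_opens_of_isConstructible (hc i)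
  let 𝒱 := Finset.univ.biUnion 𝒰
  have hop' : ∀ U ∈ 𝒱, IsOpen U ∧ IsRetrocompact U := fun U hU => by
    obtain ⟨i, -, hi⟩ := Finset.mem_biUnion.1 hU
    exact hop i U hi
  let A : Finset (Set W) → Set W := fun s => {x | ∀ U ∈ 𝒱, (x ∈ U ↔ U ∈ s)}
  have hA : ∀ s, ∃ (Z : Scheme.{u}) (z : Z ⟶ W), IsImmersion z ∧ Set.range z = A s := by
    intro s
    obtain ⟨Z, z, hz, hrz⟩ := exists_immersion_range (X := W)
      ⟨⋂ U ∈ 𝒱.filter (· ∈ s), U, isOpen_biInter_finset fun U hU =>
        (hop' U (Finset.mem_filter.1 hU).1).1⟩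
      (⋂ U ∈ 𝒱.filter (· ∉ s), Uᶜ)
      (isClosed_biInter fun U hU => (hop' U (Finset.mem_filter.1 hU).1).1.isClosed_compl)
    refine ⟨Z, z, hz, hrz.trans (Set.ext fun x => ?_)⟩
    simp only [TopologicalSpace.Opens.coe_mk, Set.mem_inter_iff, Set.mem_iInter, Finset.mem_filter,
      Set.mem_compl_iff, A]
    exact ⟨fun h U hU => ⟨fun hx => by_contra fun hs => h.2 U ⟨hU, hs⟩ hx,
      fun hs => h.1 U ⟨hU, hs⟩⟩, fun h => ⟨fun U hU => (h U hU.1).2 hU.2,
      fun U hU hx => hU.2 ((h U hU.1).1 hx)⟩⟩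
  choose Z z hz hrz using hA
  have hAc : ∀ s, IsConstructible (A s) := by
    intro s
    have e : A s = ⋂ U ∈ (𝒱 : Set (Set W)), (if U ∈ s then U else Uᶜ) := by
      ext x
      simp only [A, Set.mem_iInter, Finset.mem_coe]
      refine forall₂_congr fun U _ => ?_
      split_ifs with hs <;> simp [hs]
    rw [e]
    refine IsConstructible.biInter 𝒱.finite_toSet fun U hU => ?_
    have := (hop' U hU).2.isConstructible (hop' U hU).1
    split_ifs
    · exact this
    · exact this.compl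
  let ι := {s : ↥𝒱.powerset // (A s.1).Nonempty}
  have hi : ∀ s : ι, ∃ i, A s.1.1 ⊆ Set.range (k i) := by
    intro s
    obtain ⟨x, hx⟩ := s.2
    obtain ⟨i, hxi⟩ := Set.mem_iUnion.1 (hu.symm ▸ Set.mem_univ x : x ∈ ⋃ i, Set.range (k i))
    refine ⟨i, fun y hy => (hdet i x y fun U hU => ?_).1 hxi⟩
    have hU' : U ∈ 𝒱 := Finset.mem_biUnion.2 ⟨i, Finset.mem_univ i, hU⟩
    exact (hx U hU').trans (hy U hU').symm
  choose idx hidx using hi
  haveI := hz
  haveI := hk
  have hr : ∀ s : ι, Set.range (pullback.fst (z s.1.1) (k (idx s)) ≫ z s.1.1) = A s.1.1 := fun s => by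
    rw [Scheme.Hom.comp_base, TopCat.coe_comp, Set.range_comp, Scheme.Pullback.range_fst,
      Set.image_preimage_eq_inter_range, hrz]
    exact Set.inter_eq_right.2 (hidx s)
  refine ⟨ι, inferInstance, fun s => pullback (z s.1.1) (k (idx s)),
    fun s => pullback.fst _ _ ≫ z s.1.1, fun s => inferInstance, fun s => (hr s).symm ▸ hAc _, ?_, ?_,
    fun s => ?_⟩
  · intro s t hst
    change Disjoint (Set.range _) (Set.range _)
    rw [hr, hr, Set.disjoint_left]
    intro x hxs hxt
    refine hst (Subtype.ext (Subtype.ext (Finset.ext fun U => ?_)))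
    by_cases hU : U ∈ 𝒱
    · exact (hxs U hU).symm.trans (hxt U hU)
    · exact iff_of_false (fun h => hU (Finset.mem_powerset.1 s.1.2 h))
        (fun h => hU (Finset.mem_powerset.1 t.1.2 h))
  · refine Set.eq_univ_of_forall fun x => ?_
    have hmem : x ∈ A (𝒱.filter (x ∈ ·)) := fun U hU => by simp [hU]
    refine Set.mem_iUnion.2 ⟨⟨⟨_, Finset.mem_powerset.2 (Finset.filter_subset _ 𝒱)⟩, ⟨x, hmem⟩⟩, ?_⟩
    rw [hr]; exact hmem
  · change Q ((pullback.fst (z s.1.1) (k (idx s)) ≫ z s.1.1) ≫ f)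
    rw [pullback.condition, Category.assoc]
    exact hQ _ _ (hq _)

include hQ in
theorem adaptedQ_of_covered {U : X.Opens} (h : Covered Q U.ι) : AdaptedQ Q (U : Set X) := by
  obtain ⟨ι, _, T, g, hg, hc, hd, hu, hq⟩ := h.exists_partition hQ
  let e := Finite.equivFin ι
  have hr : ∀ i, Set.range (g i ≫ U.ι) = U.ι '' Set.range (g i) := fun i => by
    rw [Scheme.Hom.comp_base, TopCat.coe_comp, Set.range_comp]
  refine ⟨Nat.card ι, fun k => T (e.symm k), fun k => g _ ≫ U.ι, fun k => inferInstance,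
    fun k => ?_, fun k l hkl => ?_, ?_, fun k => hq _⟩
  · rw [hr]
    change IsConstructible (U.ι ⁻¹' (U.ι '' _))
    rw [Set.preimage_image_eq _ U.ι.isOpenEmbedding.injective]
    exact hc _
  · change Disjoint (Set.range _) (Set.range _)
    rw [hr, hr]
    exact Set.disjoint_image_of_injective U.ι.isOpenEmbedding.injective
      (hd (e.symm.injective.ne hkl))
  · rw [e.symm.surjective.iUnion_comp fun i => Set.range (g i ≫ U.ι)]
    simp only [hr, ← Set.image_iUnion, hu, Set.image_univ, Scheme.Opens.range_ι]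

include hQ in
theorem LocAdapted.covered (h : LocAdapted Q) {W : Scheme.{u}} [CompactSpace W]
    [QuasiSeparatedSpace W] (f : W ⟶ X) : Covered Q f := by
  refine Covered.of_affines fun w => ?_
  obtain ⟨V, hV, hwV, -⟩ := exists_isAffineOpen_mem_and_subset (x := f w) (U := ⊤) trivial
  obtain ⟨U, hU, hwU, hUV⟩ := exists_isAffineOpen_mem_and_subset (x := w) (U := f ⁻¹ᵁ V) hwV
  refine ⟨U, hwU, hU, ?_⟩
  have hfac : f.resLE V U hUV ≫ V.ι = U.ι ≫ f := Scheme.Hom.resLE_comp_ι _ _
  rw [← hfac]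
  haveI : IsAffine U.toScheme := hU
  haveI : IsAffine V.toScheme := hV
  exact (covered_of_adaptedQ (h V hV)).precomp hQ _

include hQ in
theorem locAdapted_of_covered
    (h : ∀ (U : X.Opens), IsAffineOpen U → Covered Q U.ι) : LocAdapted Q :=
  fun U hU => adaptedQ_of_covered hQ (h U hU)

include hQ in
theorem LocAdapted.adaptedQ_univ [CompactSpace X] [QuasiSeparatedSpace X] (h : LocAdapted Q) :
    AdaptedQ Q (Set.univ : Set X) := by
  haveI : CompactSpace (⊤ : X.Opens).toScheme := isCompact_iff_compactSpace.1 isCompact_univ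
  haveI : QuasiSeparatedSpace (⊤ : X.Opens).toScheme := quasiSeparatedSpace_of_immersion (⊤ : X.Opens).ι
  exact adaptedQ_of_covered hQ (h.covered hQ (⊤ : X.Opens).ι)

include hQ in
theorem locAdapted_of_adaptedQ_univ [CompactSpace X] [QuasiSeparatedSpace X]
    (h : AdaptedQ Q (Set.univ : Set X)) : LocAdapted Q := by
  refine locAdapted_of_covered hQ fun U hU => ?_
  haveI : IsAffine U.toScheme := hU
  have h' : Covered Q (⊤ : X.Opens).ι := covered_of_adaptedQ h
  have hfac : (X.homOfLE (le_top : U ≤ ⊤)) ≫ (⊤ : X.Opens).ι = U.ι := Scheme.homOfLE_ι _ _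
  rw [← hfac]
  haveI : QuasiSeparatedSpace (⊤ : X.Opens).toScheme := quasiSeparatedSpace_of_immersion (⊤ : X.Opens).ι
  exact h'.precomp hQ _

include hQ in
theorem locAdapted_of_opens {ι : Type*} (V : ι → X.Opens) (hV : ⨆ i, V i = ⊤)
    (h : ∀ (i : ι) {W : Scheme.{u}} [CompactSpace W] [QuasiSeparatedSpace W] (f : W ⟶ (V i).toScheme),
      Covered Q (f ≫ (V i).ι)) : LocAdapted Q := by
  refine locAdapted_of_covered hQ fun U hU => ?_
  haveI : IsAffine U.toScheme := hU
  refine Covered.of_affines fun w => ?_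
  obtain ⟨i, hi⟩ := TopologicalSpace.Opens.mem_iSup.1 (hV ▸ trivial : U.ι w ∈ ⨆ i, V i)
  obtain ⟨W, hW, hwW, hWV⟩ := exists_isAffineOpen_mem_and_subset (x := w) (U := U.ι ⁻¹ᵁ V i) hi
  refine ⟨W, hwW, hW, ?_⟩
  haveI : IsAffine W.toScheme := hW
  rw [← Scheme.Hom.resLE_comp_ι U.ι hWV]
  exact h i _

include hQ in
theorem covered_of_constructible_immersions {W : Scheme.{u}} [CompactSpace W] [QuasiSeparatedSpace W]
    {f : W ⟶ X} {ι : Type u} (T : ι → Scheme.{u}) (g : ∀ i, T i ⟶ W) [∀ i, IsImmersion (g i)]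
    (hc : ∀ i, IsConstructible (Set.range (g i))) (hu : (⋃ i, Set.range (g i)) = Set.univ)
    (h : ∀ i, Covered Q (g i ≫ f)) : Covered Q f := by
  obtain ⟨t, ht⟩ := @IsCompact.elim_finite_subcover W (constructibleTopology W) Set.univ ι
    (@isCompact_univ W (constructibleTopology W) (Groth.Agent.H28Top.compactSpace_constr W))
    (fun i => Set.range (g i))
    (fun i => Groth.Agent.H28Top.isOpen_constr_of_isConstructible (hc i))
    (fun x _ => hu.symm ▸ Set.mem_univ x)
  refine Covered.of_immersions (ι := ↥t) (fun i => T i.1) (fun i => g i.1) (fun i => hc _)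
    (Set.eq_univ_of_forall fun x => ?_) fun i => h _
  obtain ⟨i, hi, hx⟩ := Set.mem_iUnion₂.1 (ht (Set.mem_univ x))
  exact Set.mem_iUnion.2 ⟨⟨i, hi⟩, hx⟩

end Covered

end Groth.Agent.H18Et.Cons
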