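import Groth.Agent.H18Et.Cons.ModACC
import Groth.Agent.H3CAlg.ARS.Graded
import Groth.Agent.H3CAlg.ARS.AdicAbelian

/-!
# Kernels, cokernels and chains of constructible systems that are adic up to translation
-/

set_option backward.isDefEq.respectTransparency false
set_option backward.isDefEq.respectTransparency.types false

universe u

open CategoryTheory CategoryTheory.Limits AlgebraicGeometry Opposite

namespace Groth.Agent.H18Et.Cons

open scoped Groth.Agent.H18Et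
open Groth.Agent.H3CAlg

variable (Λ : Type (u + 1)) [CommRing Λ] [IsNoetherianRing Λ] (I : Ideal Λ) {X : Scheme.{u}}
  [IsNoetherian X]

/-- A system that is adic up to translation and has constructible members is dominated by an adic
system with constructible members. -/
theorem exists_rep_mod {K : ARSys.PS (EtModW.Mod Λ X)} (h : ARSys.IsARAdic I K)
    (hc : ∀ n : ℕ, EtModW.IsConstructible Λ (K.obj (op n))) :
    ∃ (Y : ARSys.PS (EtModW.Mod Λ X)) (v : Y ⟶ K), ARSys.IsAdic I Y ∧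
      (∀ n : ℕ, EtModW.IsConstructible Λ (Y.obj (op n))) ∧ ARSys.IsARIso v := by
  obtain ⟨-, Z, z, hZ, hz⟩ := h
  refine ⟨Z, z, hZ, fun n => ?_, hz⟩
  obtain ⟨R, w, hw₁, hw₂, hw₃⟩ := ARS.exists_inverse_of_isARIso z hz
  haveI : Epi (z.app (op (n + R)) ≫ w n) := by
    rw [hw₂]; exact ARS.isStrict_of_isAdic hZ _ _ _
  haveI : Epi (w n) := epi_of_epi (z.app (op (n + R))) _
  exact isConstructible_mod_quotient Λ (w n) (hc (n + R))

theorem isARAdicNoeth_mod {F : ARSys.PS (EtModW.Mod Λ X)} (hF : ARSys.IsAdic I F)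
    (hc : ∀ n : ℕ, EtModW.IsConstructible Λ (F.obj (op n))) : ARSys.IsARAdicNoeth I F :=
  ARS.isARAdicNoeth_of_isAdicNoeth
    ⟨hF, fun n => isNoetherianObject_of_isConstructible_mod Λ _ (hc n)⟩

theorem exists_rep_kernel_cokernel {F G : ARSys.PS (EtModW.Mod Λ X)} (hF : ARSys.IsAdic I F)
    (hG : ARSys.IsAdic I G) (hFc : ∀ n : ℕ, EtModW.IsConstructible Λ (F.obj (op n)))
    (hGc : ∀ n : ℕ, EtModW.IsConstructible Λ (G.obj (op n))) (w : F ⟶ G) :
    (ARSys.TermKilled I (kernel w) ∧ ∃ (Y : ARSys.PS (EtModW.Mod Λ X)) (v : Y ⟶ kernel w),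
      ARSys.IsAdic I Y ∧ (∀ n : ℕ, EtModW.IsConstructible Λ (Y.obj (op n))) ∧ ARSys.IsARIso v) ∧
    (ARSys.TermKilled I (cokernel w) ∧ ∃ (Y : ARSys.PS (EtModW.Mod Λ X)) (v : Y ⟶ cokernel w),
      ARSys.IsAdic I Y ∧ (∀ n : ℕ, EtModW.IsConstructible Λ (Y.obj (op n))) ∧ ARSys.IsARIso v) := by
  obtain ⟨hk, hq⟩ := ARS.isARAdicNoeth_kernel_cokernel w (isARAdicNoeth_mod Λ I hF hFc)
    (isARAdicNoeth_mod Λ I hG hGc)
  refine ⟨⟨hk.1.1, exists_rep_mod Λ I hk.1 fun n => ?_⟩, ⟨hq.1.1, exists_rep_mod Λ I hq.1 fun n => ?_⟩⟩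
  · haveI := ARS.mono_kernel_ι_app w n
    exact isConstructible_mod_sub Λ ((kernel.ι w).app (op n)) (hFc n)
  · haveI := ARS.epi_cokernel_π_app w n
    exact isConstructible_mod_quotient Λ ((cokernel.π w).app (op n)) (hGc n)

theorem chain_stationary_mod {F : ARSys.PS (EtModW.Mod Λ X)} (hF : ARSys.IsAdic I F)
    (hFc : ∀ n : ℕ, EtModW.IsConstructible Λ (F.obj (op n))) (Z : ℕ →o Subobject F)
    (hZ : ∀ k : ℕ, ARSys.IsARAdic I (Subobject.underlying.obj (Z k) : ARSys.PS (EtModW.Mod Λ X))) :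
    ∃ k₀ : ℕ, ∀ k : ℕ, k₀ ≤ k →
      ARSys.IsARIso (Subobject.ofLE (Z k) (Z (k + 1)) (Z.monotone (Nat.le_succ k))) := by
  choose Y u hY hm hu using fun k => ARS.exists_strict_sub (ARS.isMLAR_of_isARAdic (hZ k))
  haveI := hm
  let S : ℕ → Subobject F := fun k => Subobject.mk (u k ≫ (Z k).arrow)
  have hS : ∀ k, S k ≤ S (k + 1) := fun k => by
    obtain ⟨r, hr⟩ := (ARS.isARNull_cokernel_iff (u (k + 1))).mp (hu (k + 1)).2
    refine ARS.le_of_app fun n => ?_
    have h1 := ((ARS.imLE_app_tr_of_isStrict (u k ≫ Subobject.ofLE (Z k) (Z (k + 1))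
      (Z.monotone k.le_succ)) (hY k) (Nat.le_add_right n r)).trans (hr n)).comp
        ((Z (k + 1)).arrow.app (op n))
    rw [← NatTrans.comp_app, ← NatTrans.comp_app, Category.assoc, Subobject.ofLE_arrow] at h1
    have h2 := (h1.precomp ((Subobject.underlyingIso (u k ≫ (Z k).arrow)).hom.app (op n))).trans
      (ARS.ImLE.of_eq (g := (S (k + 1)).arrow.app (op n))
        ((Subobject.underlyingIso (u (k + 1) ≫ (Z (k + 1)).arrow)).inv.app (op n))
        (by rw [← NatTrans.comp_app]; exact NatTrans.congr_app (Subobject.underlyingIso_arrow _).symm (op n)))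
    rw [← NatTrans.comp_app, Subobject.underlyingIso_hom_comp_eq_mk] at h2
    exact h2
  have hst : ∀ k, ARSys.IsStrict ((Subobject.underlying.obj (S k) : ARSys.PS (EtModW.Mod Λ X))) :=
    fun k => ARS.isStrict_of_epi (Subobject.underlyingIso (u k ≫ (Z k).arrow)).inv (hY k)
  haveI := isNoetherianObject_of_isConstructible_mod Λ _ (hFc 0)
  obtain ⟨k₀, hk₀⟩ := ARS.strict_chain_stationary hF ⟨S, monotone_nat_of_le_succ hS⟩ hst
  refine ⟨k₀, fun k hk => ?_⟩
  have e : S k = S (k + 1) := (hk₀ k hk).trans (hk₀ (k + 1) (hk.trans k.le_succ)).symm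
  refine ARS.isARIso_of_comp_left (hu k) ?_
  have h : u k ≫ Subobject.ofLE (Z k) (Z (k + 1)) (Z.monotone k.le_succ) =
      (Subobject.isoOfMkEqMk _ _ e).hom ≫ u (k + 1) := by
    rw [← cancel_mono (Z (k + 1)).arrow, Category.assoc, Category.assoc, Subobject.ofLE_arrow]
    exact (Subobject.ofMkLEMk_comp e.le).symm
  rw [h]
  refine ARS.isARIso_comp ?_ (hu (k + 1))
  exact ARS.isARIso_of_inverse _ 0 (fun n => (Subobject.isoOfMkEqMk _ _ e).inv.app (op n))
    (fun n => by rw [← NatTrans.comp_app, Iso.inv_hom_id, ARS.tr_self]; rfl)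
    (fun n => by exact ((Subobject.isoOfMkEqMk _ _ e).hom_inv_id_app (op n)).trans (ARS.tr_self _ _).symm)

end Groth.Agent.H18Et.Cons
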