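import Groth.Prelude.Def_ARSys
import Mathlib.RingTheory.Filtration
import Mathlib.Algebra.Module.Projective
import Mathlib.RingTheory.Finiteness.Cardinality
import Mathlib.CategoryTheory.Adjunction.Basic
import Mathlib.Algebra.Category.ModuleCat.Basic
import Mathlib.CategoryTheory.Preadditive.AdditiveFunctor

/-!
# Adic systems of modules are determined by finitely many levels

For an adic system `M'` with finitely generated bottom term over a Noetherian ring there is a bound
`N` such that a morphism of adic systems `M ⟶ M'` which is bijective in levels `≤ N` is bijective in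
all levels.
-/

universe w v v' v₂ u u'

open CategoryTheory Opposite

namespace Groth.Agent.H18Et.Adic

section Quot

variable {A : Type w} [CommRing A] {C : Type u} [Category.{v} C] [Preadditive C] [Linear A C]
  {D : Type u'} [Category.{v'} D] [Preadditive D] [Linear A D] {L : C ⥤ D} {R : D ⥤ C}

theorem killedBy_map (hL : ∀ {X Y : C} (a : A) (f : X ⟶ Y), L.map (a • f) = a • L.map f)
    {J : Ideal A} {X : C} (h : ARSys.KilledBy J X) : ARSys.KilledBy J (L.obj X) := by
  intro a ha
  have h0 : L.map (0 : X ⟶ X) = 0 := by simpa using hL (0 : A) (𝟙 X)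
  rw [← L.map_id, ← hL, h a ha, h0]

/-- Linear left adjoints preserve quotient maps modulo an ideal. -/
theorem isQuot_map (adj : L ⊣ R)
    (hL : ∀ {X Y : C} (a : A) (f : X ⟶ Y), L.map (a • f) = a • L.map f)
    {J : Ideal A} {X Q : C} {p : X ⟶ Q} (hp : ARSys.IsQuot J p) : ARSys.IsQuot J (L.map p) := by
  refine ⟨killedBy_map hL hp.1, fun Y φ hφ => ?_⟩
  have h0 : L.map (0 : X ⟶ R.obj Y) = 0 := by simpa using hL (0 : A) (0 : X ⟶ R.obj Y)
  have hφ' : ARSys.HomKilledBy J (adj.homEquiv _ _ φ) := by
    intro a ha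
    apply (adj.homEquiv _ _).symm.injective
    have e := adj.homEquiv_counit X Y (adj.homEquiv _ _ φ)
    rw [Equiv.symm_apply_apply] at e
    rw [adj.homEquiv_counit, adj.homEquiv_counit, hL, Linear.smul_comp, ← e, hφ a ha, h0,
      Limits.zero_comp]
  obtain ⟨ψ, hψ, huniq⟩ := hp.2 _ _ hφ'
  refine ⟨(adj.homEquiv _ _).symm ψ, ?_, fun ψ' hψ' => ?_⟩
  · dsimp only
    rw [← adj.homEquiv_naturality_left_symm, hψ, Equiv.symm_apply_apply]
  · rw [← huniq (adj.homEquiv _ _ ψ') (by dsimp only; rw [← adj.homEquiv_naturality_left, hψ']),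
      Equiv.symm_apply_apply]

end Quot

variable {Λ : Type u} [CommRing Λ] (I : Ideal Λ)

section Modules

variable {M : ℕ → Type v} {M' : ℕ → Type v₂} [∀ n, AddCommGroup (M n)] [∀ n, Module Λ (M n)]
  [∀ n, AddCommGroup (M' n)] [∀ n, Module Λ (M' n)]

/-- The consecutive transition maps of an adic system of modules. -/
structure IsAdicMaps (p : ∀ n, M (n + 1) →ₗ[Λ] M n) : Prop where
  surj : ∀ n, Function.Surjective (p n)
  ker_le : ∀ n, LinearMap.ker (p n) ≤ I ^ (n + 1) • (⊤ : Submodule Λ (M (n + 1)))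
  killed : ∀ n, I ^ (n + 1) • (⊤ : Submodule Λ (M n)) = ⊥

variable {I} {p : ∀ n, M (n + 1) →ₗ[Λ] M n} {p' : ∀ n, M' (n + 1) →ₗ[Λ] M' n}

theorem IsAdicMaps.surjective_of_comp (h : IsAdicMaps I p) {n : ℕ} {P : Type*} [AddCommGroup P]
    [Module Λ P] (f : P →ₗ[Λ] M (n + 1)) (hf : Function.Surjective ((p n).comp f)) :
    Function.Surjective f := by
  have h1 : (⊤ : Submodule Λ (M (n + 1))) ≤
      LinearMap.range f ⊔ I ^ (n + 1) • (⊤ : Submodule Λ (M (n + 1))) := by
    intro y _
    obtain ⟨z, hz⟩ := hf (p n y)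
    have : y - f z ∈ LinearMap.ker (p n) := by
      rw [LinearMap.mem_ker, map_sub, ← hz]; exact sub_self _
    exact Submodule.mem_sup.2 ⟨f z, ⟨z, rfl⟩, y - f z, h.ker_le n this, by abel⟩
  have h2 : I ^ (n + 1) • (⊤ : Submodule Λ (M (n + 1))) ≤ LinearMap.range f := by
    refine (Submodule.smul_mono le_rfl h1).trans ?_
    rw [Submodule.smul_sup]
    refine sup_le Submodule.smul_le_right ?_
    rw [← Submodule.mul_smul, ← pow_add]
    refine (Submodule.smul_mono_left (Ideal.pow_le_pow_right (by omega : n + 1 + 1 ≤ _))).trans ?_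
    rw [h.killed (n + 1)]
    exact bot_le
  exact LinearMap.range_eq_top.1 (top_le_iff.1 (h1.trans (sup_le le_rfl h2)))

theorem IsAdicMaps.surjective_all (h' : IsAdicMaps I p') (h : IsAdicMaps I p)
    (s : ∀ n, M n →ₗ[Λ] M' n) (hcomm : ∀ n, (p' n).comp (s (n + 1)) = (s n).comp (p n))
    (h0 : Function.Surjective (s 0)) : ∀ n, Function.Surjective (s n)
  | 0 => h0
  | n + 1 => by
    refine h'.surjective_of_comp (s (n + 1)) ?_
    rw [hcomm]
    exact (IsAdicMaps.surjective_all h' h s hcomm h0 n).comp (h.surj n)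

theorem IsAdicMaps.finite (h : IsAdicMaps I p) [Module.Finite Λ (M 0)] :
    ∀ n, Module.Finite Λ (M n)
  | 0 => inferInstance
  | n + 1 => by
    haveI := IsAdicMaps.finite h n
    obtain ⟨r, g, hg⟩ := Module.Finite.exists_fin' Λ (M n)
    obtain ⟨f, hf⟩ := Module.projective_lifting_property (p n) g (h.surj n)
    exact Module.Finite.of_surjective f (h.surjective_of_comp f (by rw [hf]; exact hg))

variable [IsNoetherianRing Λ]

/-- An adic system with finite bottom term determines a level `N` such that maps to it that are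
bijective in levels `≤ N` are bijective in all levels. -/
theorem IsAdicMaps.exists_bound {M' : ℕ → Type v₂} [∀ n, AddCommGroup (M' n)]
    [∀ n, Module Λ (M' n)] {p' : ∀ n, M' (n + 1) →ₗ[Λ] M' n} (h' : IsAdicMaps I p')
    [Module.Finite Λ (M' 0)] :
    ∃ N, ∀ (M : ℕ → Type v) [∀ n, AddCommGroup (M n)] [∀ n, Module Λ (M n)]
      (p : ∀ n, M (n + 1) →ₗ[Λ] M n), IsAdicMaps I p → ∀ (s : ∀ n, M n →ₗ[Λ] M' n),
      (∀ n, (p' n).comp (s (n + 1)) = (s n).comp (p n)) →
      (∀ n ≤ N, Function.Bijective (s n)) → ∀ n, Function.Bijective (s n) := by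
  obtain ⟨r, g, hg⟩ := Module.Finite.exists_fin' Λ (M' 0)
  let e : ∀ n, Fin r → M' n := fun n =>
    Nat.rec (fun j => g (Pi.single j 1)) (fun k ek j => Function.surjInv (h'.surj k) (ek j)) n
  have he : ∀ n j, p' n (e (n + 1) j) = e n j := fun n j => Function.surjInv_eq _ _
  let L : ∀ n, (Fin r → Λ) →ₗ[Λ] M' n := fun n => Fintype.linearCombination Λ (e n)
  have hpL : ∀ n, (p' n).comp (L (n + 1)) = L n := fun n => by
    refine (Pi.basisFun Λ (Fin r)).ext fun j => ?_
    simp [L, he]
  have hL : ∀ n, Function.Surjective (L n) := by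
    intro n
    induction n with
    | zero =>
      have : L 0 = g := (Pi.basisFun Λ (Fin r)).ext fun j => by simp [L, e]
      rw [this]; exact hg
    | succ n ih => exact h'.surjective_of_comp _ (by rw [hpL]; exact ih)
  let K : I.Filtration (Fin r → Λ) :=
    { N := fun n => I ^ n • ⊤ ⊓ LinearMap.ker (L n)
      mono := fun n x hx => ⟨Submodule.smul_mono_left (Ideal.pow_le_pow_right n.le_succ) hx.1, by
        rw [SetLike.mem_coe, LinearMap.mem_ker, ← hpL, LinearMap.comp_apply,
          LinearMap.mem_ker.1 hx.2, map_zero]⟩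
      smul_le := fun n => by
        rw [Submodule.smul_le]
        intro a ha x hx
        refine ⟨?_, ?_⟩
        · rw [pow_succ', Submodule.mul_smul]
          exact Submodule.smul_mem_smul ha hx.1
        · rw [SetLike.mem_coe, LinearMap.mem_ker, map_smul]
          have h1 : L (n + 1) x ∈ LinearMap.ker (p' n) := by
            rw [LinearMap.mem_ker, ← LinearMap.comp_apply, hpL, LinearMap.mem_ker.1 hx.2]
          have h2 := Submodule.smul_mem_smul ha (h'.ker_le n h1)
          rw [← Submodule.mul_smul, ← pow_succ', h'.killed (n + 1)] at h2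
          exact h2 }
  have hK : K ≤ I.stableFiltration ⊤ := fun n => inf_le_left
  obtain ⟨N, hN⟩ := (I.stableFiltration_stable ⊤).of_le hK
  refine ⟨N, fun M _ _ p h s hcomm hle => ?_⟩
  have hsurj := h'.surjective_all h s hcomm (hle 0 (Nat.zero_le _)).surjective
  suffices hinj : ∀ n, Function.Injective (s n) from fun n => ⟨hinj n, hsurj n⟩
  intro n
  induction n with
  | zero => exact (hle 0 (Nat.zero_le _)).injective
  | succ n ih =>
    rcases Nat.lt_or_ge n N with hn | hn
    · exact (hle (n + 1) hn).injective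
    choose f hf using fun j => hsurj (n + 1) (e (n + 1) j)
    let L' : (Fin r → Λ) →ₗ[Λ] M (n + 1) := Fintype.linearCombination Λ f
    have hsL : (s (n + 1)).comp L' = L (n + 1) := by
      refine (Pi.basisFun Λ (Fin r)).ext fun j => ?_
      simp [L, L', hf]
    have hpL' : (s n).comp ((p n).comp L') = L n := by
      rw [← LinearMap.comp_assoc, ← hcomm, LinearMap.comp_assoc, hsL, hpL]
    have hL' : Function.Surjective L' := by
      refine h.surjective_of_comp L' fun y => ?_
      obtain ⟨z, hz⟩ := hL n (s n y)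
      exact ⟨z, ih ((LinearMap.congr_fun hpL' z).trans hz)⟩
    rw [← LinearMap.ker_eq_bot, eq_bot_iff]
    intro x hx
    have hpx : p n x = 0 := by
      refine ih ?_
      rw [map_zero, ← LinearMap.comp_apply, ← hcomm, LinearMap.comp_apply, LinearMap.mem_ker.1 hx,
        map_zero]
    have hxI : x ∈ (I ^ (n + 1) • (⊤ : Submodule Λ (Fin r → Λ))).map L' := by
      rw [Submodule.map_smul'', Submodule.map_top, LinearMap.range_eq_top.2 hL']
      exact h.ker_le n (LinearMap.mem_ker.2 hpx)
    obtain ⟨l, hl, rfl⟩ := hxI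
    have hlK : l ∈ K.N (n + 1) := ⟨hl, by
      rw [SetLike.mem_coe, LinearMap.mem_ker, ← hsL, LinearMap.comp_apply, LinearMap.mem_ker.1 hx]⟩
    rw [← hN n hn] at hlK
    have hzero : I • K.N n ≤ LinearMap.ker L' := by
      rw [Submodule.smul_le]
      intro a ha m hm
      rw [LinearMap.mem_ker, map_smul]
      have h1 : L' m ∈ LinearMap.ker (p n) := by
        refine LinearMap.mem_ker.2 (ih ?_)
        rw [map_zero]
        exact (LinearMap.congr_fun hpL' m).trans (LinearMap.mem_ker.1 hm.2)
      have h2 := Submodule.smul_mem_smul ha (h.ker_le n h1)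
      rw [← Submodule.mul_smul, ← pow_succ', h.killed (n + 1)] at h2
      exact h2
    exact LinearMap.mem_ker.1 (hzero hlK)

end Modules

end Groth.Agent.H18Et.Adic
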