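import Groth.Agent.H18Et.Cons.DescentQC
import Groth.Agent.H18Et.Cons.Serre
import Groth.Agent.H7Flat.GenericFlatness
import Groth.Agent.H17.Reduced

/-!
# Descent of finite local constancy along open surjections; strata adapted to families
-/

set_option backward.isDefEq.respectTransparency false
set_option backward.isDefEq.respectTransparency.types false

universe v u

open CategoryTheory CategoryTheory.Limits AlgebraicGeometry Opposite Topology

namespace Groth.Agent.H18Et.LC

open scoped Groth.Agent.H18Et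

variable {X T : Scheme.{u}}

/-- Finite local constancy descends along universally open surjections. -/
theorem isFiniteLocallyConstant_of_universallyOpen (σ : T ⟶ X) [UniversallyOpen σ] [Surjective σ]
    (G : EtCoh.Ab X) (h : EtCoh.IsFiniteLocallyConstant ((EtCoh.pull σ).obj G)) :
    EtCoh.IsFiniteLocallyConstant G := by
  have key : ∀ x : X, ∃ (W : X.Etale) (w : W.left), W.hom.base w = x ∧
      ∃ (M : AddCommGrpCat.{u + 1}) (_ : Finite M) (C : M ⟶ G.obj.obj (op W)), IsConstOn G W C := by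
    intro x
    obtain ⟨t₀, ht₀⟩ := σ.surjective x
    let a := geomPt t₀
    obtain ⟨ι', U', hU', hd⟩ := (isFiniteLocallyConstant_iff _).1 h
    obtain ⟨j, u, hu⟩ := hU' t₀
    obtain ⟨N, hN, d, hd⟩ := hd j
    obtain ⟨b, -⟩ := exists_fiber_over u a ((geomPt_base t₀).trans hu.symm)
    haveI := hd.isIso a b
    haveI hM : Finite ((Scheme.pointSmallEtale (a ≫ σ)).sheafFiber.obj G : AddCommGrpCat.{u + 1}) :=
      Finite.of_equiv N ((asIso (d ≫ germ a _ (U' j) b)) ≪≫
        (stalkPullIso σ a).app G).addCommGroupIsoToAddEquiv.toEquiv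
    obtain ⟨e, -⟩ := exists_fiber_over (U := EtCoh.top X) x (a ≫ σ)
      ((Scheme.Hom.comp_apply _ _ _).trans ((congrArg σ.base (geomPt_base t₀)).trans ht₀))
    obtain ⟨U, -, z, -, c, hc⟩ := exists_hom_lift_ab (a ≫ σ) G e _ (𝟙 _)
    obtain ⟨z₁, hz₁⟩ := exists_fiberComp σ a U z
    obtain ⟨O, hO, hzO, hcase⟩ := exists_open_iso_or_not h
      (c ≫ ((EtCoh.pullPushAdj σ).unit.app G).hom.app (op U)) (ptOf z₁)
    have h0 : IsIso ((c ≫ ((EtCoh.pullPushAdj σ).unit.app G).hom.app (op U)) ≫
        germ a ((EtCoh.pull σ).obj G) ((EtCoh.bc σ).obj U) z₁) := by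
      rw [isIso_germ_pull_iff, hz₁, hc]
      exact IsIso.id _
    have hiso := hcase.resolve_right fun h' => h' _ a z₁ hzO h0
    haveI : Etale U.hom := U.prop
    let π : ((EtCoh.bc σ).obj U).left ⟶ U.left := pullback.fst U.hom σ
    haveI : UniversallyOpen π := MorphismProperty.pullback_fst _ _ inferInstance
    let O' : U.left.Opens := ⟨π '' O, π.isOpenMap _ hO⟩
    let W : X.Etale := MorphismProperty.Over.mk ⊤ (O'.ι ≫ U.hom) (inferInstanceAs (Etale _))
    let k : W ⟶ U := MorphismProperty.Over.homMk O'.ι rfl trivial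
    have hzπ : π (ptOf z₁) = ptOf z :=
      (ptOf_fiberCompIso σ a U z₁).symm.trans (congrArg ptOf hz₁)
    refine ⟨W, ⟨ptOf z, ⟨_, hzO, hzπ⟩⟩, ?_, _, hM, c ≫ G.obj.map k.op, ?_⟩
    · refine (Scheme.Hom.comp_apply _ _ _).trans ((ptOf_base z).trans ?_)
      exact (Scheme.Hom.comp_apply _ _ _).trans ((congrArg σ.base (geomPt_base t₀)).trans ht₀)
    · intro Ω _ _ ξ t
      rw [Category.assoc, germ, GrothendieckTopology.Point.toPresheafFiber_w]
      let s := (Scheme.pointSmallEtale ξ).fiber.map k t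
      obtain ⟨q, hq, hqs⟩ : ∃ q ∈ O, π q = ptOf s := (ptOf_map k t).symm ▸ (ptOf t).2
      have hmem : q ∈ Cons.isoSet ((EtCoh.pull σ).obj G)
          ((c ≫ ((EtCoh.pullPushAdj σ).unit.app G).hom.app (op U)) ≫
            ((EtCoh.pull σ).obj G).obj.map (𝟙 ((EtCoh.bc σ).obj U)).op) := by
        intro Ω' _ _ a' t' ht'
        erw [CategoryTheory.Functor.map_id, Category.comp_id]
        exact hiso Ω' a' t' (by rw [ht']; exact hq)
      have h1 := (Cons.isoSet_pull_iff σ G c (𝟙 _) q).1 hmem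
      exact h1 Ω ξ s hqs.symm
  choose W w hw M hM C hC using key
  exact (isFiniteLocallyConstant_iff _).2 ⟨X, W, fun y => ⟨y, w y, hw y⟩, fun y => ⟨M y, hM y, C y, hC y⟩⟩

end Groth.Agent.H18Et.LC

namespace Groth.Agent.H18Et.Cons

open scoped Groth.Agent.H18Et

variable {X X' : Scheme.{u}}

theorem covered_family_of_pull [IsNoetherian X] [IsNoetherian X'] (q : X' ⟶ X) [Surjective q]
    [LocallyOfFiniteType q] {ι : Type v} (F : ι → EtCoh.Ab X) {n : ℕ} (T : Fin n → Scheme.{u})
    (g : ∀ i, T i ⟶ X') [∀ i, IsImmersion (g i)] (hcov : (⋃ i, Set.range (g i)) = Set.univ)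
    (hF : ∀ k i, EtCoh.IsFiniteLocallyConstant ((EtCoh.pull (g i)).obj ((EtCoh.pull q).obj (F k)))) :
    Covered (fun {T} (g : T ⟶ X) => ∀ k, FLC (F k) g) (𝟙 X) := by
  have key : ∀ x : X, ∃ (S : Scheme.{u}) (j : S ⟶ X), IsImmersion j ∧ x ∈ Set.range j ∧
      ∀ k, FLC (F k) j := by
    intro x
    obtain ⟨x', rfl⟩ := q.surjective x
    obtain ⟨i, t, rfl⟩ := Set.mem_iUnion.1 (hcov.symm ▸ Set.mem_univ x' : x' ∈ ⋃ i, Set.range (g i))
    let K : TopologicalSpace.Closeds X := ⟨closure {q (g i t)}, isClosed_closure⟩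
    let I := Scheme.IdealSheafData.vanishingIdeal K
    let z : I.subscheme ⟶ X := I.subschemeι
    haveI : IsReduced I.subscheme := H17.isReduced_vanishingIdeal_subscheme _
    have hr : Set.range z = closure {q (g i t)} :=
      I.range_subschemeι.trans (Scheme.IdealSheafData.coe_support_vanishingIdeal _)
    haveI : CompactSpace (T i) :=
      compactSpace_of_immersion (g i) (isConstructible_of_isLocallyClosed (g i).isLocallyClosed_range)
    let h : T i ⟶ X := g i ≫ q
    haveI : QuasiCompact h := quasiCompact_of_compactSpace h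
    let f := pullback.snd h z
    haveI : LocallyOfFiniteType h := inferInstance
    haveI : LocallyOfFiniteType f := MorphismProperty.pullback_snd _ _ inferInstance
    haveI : QuasiCompact f := MorphismProperty.pullback_snd _ _ inferInstance
    obtain ⟨U, hU, hfl, hfp⟩ := H7Flat.exists_dense_flatLFP f
    obtain ⟨y, hy⟩ : q (g i t) ∈ Set.range z := hr ▸ subset_closure rfl
    have hyU : y ∈ U := by
      obtain ⟨u, hu⟩ := (hU.nonempty_iff.2 ⟨y⟩ : (U : Set I.subscheme).Nonempty)
      refine Specializes.mem_open (specializes_iff_mem_closure.2 ?_) U.2 hu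
      rw [z.isClosedEmbedding.isInducing.closure_eq_preimage_closure_image, Set.image_singleton, hy]
      exact hr ▸ (⟨u, rfl⟩ : z u ∈ Set.range z)
    obtain ⟨p, hp₁, hp₂⟩ := Scheme.Pullback.exists_preimage_pullback (f := h) (g := z) t y
      ((Scheme.Hom.comp_apply _ _ _).trans hy.symm)
    haveI : UniversallyOpen (f ∣_ U) := inferInstance
    let V : U.toScheme.Opens := ⟨Set.range (f ∣_ U), (f ∣_ U).isOpenMap.isOpen_range⟩
    refine ⟨V.toScheme, V.ι ≫ U.ι ≫ z, inferInstance, ⟨⟨⟨y, hyU⟩, ⟨⟨p, by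
      change f p ∈ U; rw [hp₂]; exact hyU⟩, Subtype.ext ((morphismRestrict_base_coe _ _ _).trans hp₂)⟩⟩, ?_⟩,
      fun k => ?_⟩
    · rw [Scheme.Hom.comp_apply, Scheme.Hom.comp_apply]
      exact hy
    · haveI : Surjective ((f ∣_ U) ∣_ V) := ⟨fun v => by
        obtain ⟨w, hw⟩ := v.2
        exact ⟨⟨w, show (f ∣_ U) w ∈ V from hw ▸ v.2⟩, Subtype.ext ((morphismRestrict_base_coe _ _ _).trans hw)⟩⟩
      haveI : UniversallyOpen ((f ∣_ U) ∣_ V) := IsZariskiLocalAtTarget.restrict (P := @UniversallyOpen) inferInstance V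
      refine LC.isFiniteLocallyConstant_of_universallyOpen ((f ∣_ U) ∣_ V) _
        ((flc_pull (V.ι ≫ U.ι ≫ z) (F k) ((f ∣_ U) ∣_ V)).2 ?_)
      have e : ((f ∣_ U) ∣_ V) ≫ V.ι ≫ U.ι ≫ z =
          (((f ∣_ U) ⁻¹ᵁ V).ι ≫ (f ⁻¹ᵁ U).ι ≫ pullback.fst h z) ≫ g i ≫ q := by
        rw [morphismRestrict_ι_assoc, morphismRestrict_ι_assoc]
        simp only [Category.assoc]
        rw [show f ≫ z = pullback.fst h z ≫ h from pullback.condition.symm]
      rw [e]
      exact flc_precomp _ _ _ ((flc_pull q (F k) (g i)).1 (hF k i))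
  choose S j hj hx hq using key
  haveI := hj
  refine covered_of_constructible_immersions (fun p g hg k => flc_precomp _ p g (hg k)) S j
    (fun x => isConstructible_of_isLocallyClosed (j x).isLocallyClosed_range)
    (Set.eq_univ_of_forall fun x => Set.mem_iUnion.2 ⟨x, hx x⟩) fun x => ?_
  haveI := compactSpace_of_immersion (j x) (isConstructible_of_isLocallyClosed (j x).isLocallyClosed_range)
  refine Covered.of_finite (ι := Unit) (fun _ => S x) (fun _ => 𝟙 _) ?_ ?_ ?_
  · intro _
    simpa using IsConstructible.univ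
  · simp [Set.iUnion_const]
  · intro _
    simpa using hq x

end Groth.Agent.H18Et.Cons
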