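import Groth.Agent.H18Et.Cons.ModSub
import Groth.Agent.H18Et.Cons.ARMap
import Groth.Agent.H28Top.Spectral
import Mathlib.CategoryTheory.Subobject.NoetherianObject

/-!
# Constructible sheaves of modules on Noetherian schemes are Noetherian objects
-/

set_option backward.isDefEq.respectTransparency false
set_option backward.isDefEq.respectTransparency.types false

universe u

open CategoryTheory CategoryTheory.Limits AlgebraicGeometry Opposite Topology

namespace Groth.Agent.H18Et.Cons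

open scoped Groth.Agent.H18Et

variable (Λ : Type (u + 1)) [CommRing Λ] {X : Scheme.{u}}
  {Ω Ω' : Type u} [Field Ω] [IsSepClosed Ω] [Field Ω'] [IsSepClosed Ω']

/-- The image of a subobject in a stalk. -/
noncomputable def stalkRangeMod {F : EtModW.Mod Λ X} (S : Subobject F)
    (ξ : Spec (CommRingCat.of Ω) ⟶ X) : Submodule Λ ((EtModW.stalk Λ ξ).obj F : Type (u + 1)) :=
  LinearMap.range ((EtModW.stalk Λ ξ).map S.arrow).hom

theorem stalkRangeMod_mono {F : EtModW.Mod Λ X} {S S' : Subobject F} (h : S ≤ S')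
    (ξ : Spec (CommRingCat.of Ω) ⟶ X) : stalkRangeMod Λ S ξ ≤ stalkRangeMod Λ S' ξ := by
  rintro _ ⟨a, rfl⟩
  refine ⟨((EtModW.stalk Λ ξ).map (S.ofLE S' h)).hom a, ?_⟩
  exact (ConcreteCategory.congr_hom (((EtModW.stalk Λ ξ).map_comp _ _).symm.trans
    (congrArg (EtModW.stalk Λ ξ).map (Subobject.ofLE_arrow h))) a)

theorem stalkRangeMod_map {F : EtModW.Mod Λ X} (S : Subobject F)
    {ξ : Spec (CommRingCat.of Ω) ⟶ X} {ξ' : Spec (CommRingCat.of Ω') ⟶ X}
    (φ : Scheme.pointSmallEtale ξ' ⟶ Scheme.pointSmallEtale ξ) {b : (EtModW.stalk Λ ξ).obj F}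
    (hb : b ∈ stalkRangeMod Λ S ξ) :
    ((GrothendieckTopology.Point.Hom.sheafFiber (A := ModuleCat.{u + 1} Λ) φ).app F).hom b ∈
      stalkRangeMod Λ S ξ' := by
  obtain ⟨a, rfl⟩ := hb
  exact ⟨((GrothendieckTopology.Point.Hom.sheafFiber (A := ModuleCat.{u + 1} Λ) φ).app _).hom a,
    (NatTrans.naturality_apply (GrothendieckTopology.Point.Hom.sheafFiber (A := ModuleCat.{u + 1} Λ) φ)
      S.arrow a).symm⟩

theorem injective_stalk_map {F G : EtModW.Mod Λ X} (ι : G ⟶ F) [Mono ι]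
    (ξ : Spec (CommRingCat.of Ω) ⟶ X) : Function.Injective ((EtModW.stalk Λ ξ).map ι).hom := by
  haveI := H25Constr.stalkMod_preservesFiniteLimits Λ ξ
  exact (ModuleCat.mono_iff_injective _).1 inferInstance

theorem epi_of_surjective_stalk {F G : EtModW.Mod Λ X} (f : F ⟶ G)
    (h : ∀ (Ω : Type u) [Field Ω] [IsSepClosed Ω] (ξ : Spec (CommRingCat.of Ω) ⟶ X),
      Function.Surjective ((EtModW.stalk Λ ξ).map f).hom) : Epi f := by
  refine Preadditive.epi_of_cokernel_zero ((isZero_of_stalk Λ fun Ω _ _ ξ => ?_).eq_of_tgt _ _)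
  haveI : PreservesFiniteColimits (EtModW.stalk Λ ξ) := by
    haveI := ((Scheme.pointSmallEtale ξ).skyscraperSheafAdjunction
      (A := ModuleCat.{u + 1} Λ)).leftAdjoint_preservesColimits
    exact PreservesColimitsOfSize.preservesFiniteColimits.{0, 0} _
  haveI : (EtModW.stalk Λ ξ).PreservesZeroMorphisms := LC.sheafFiber_preservesZero _
  rw [IsZero.iff_id_eq_zero]
  haveI : Epi ((EtModW.stalk Λ ξ).map (cokernel.π f)) := inferInstance
  haveI : Epi ((EtModW.stalk Λ ξ).map f) := (ModuleCat.epi_iff_surjective _).2 (h Ω ξ)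
  rw [← cancel_epi ((EtModW.stalk Λ ξ).map (cokernel.π f)), ← cancel_epi ((EtModW.stalk Λ ξ).map f)]
  rw [Category.comp_id, comp_zero, comp_zero, ← Functor.map_comp, cokernel.condition, Functor.map_zero]

theorem isIso_ofLE_of_stalkRangeMod {F : EtModW.Mod Λ X} {S S' : Subobject F} (h : S ≤ S')
    (hr : ∀ (Ω : Type u) [Field Ω] [IsSepClosed Ω] (ξ : Spec (CommRingCat.of Ω) ⟶ X),
      stalkRangeMod Λ S' ξ ≤ stalkRangeMod Λ S ξ) : S' = S := by
  haveI : Epi (S.ofLE S' h) := epi_of_surjective_stalk Λ _ fun Ω _ _ ξ b => by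
    obtain ⟨a, ha⟩ := hr Ω ξ ⟨b, rfl⟩
    refine ⟨a, injective_stalk_map Λ S'.arrow ξ (Eq.trans ?_ ha)⟩
    exact ConcreteCategory.congr_hom (((EtModW.stalk Λ ξ).map_comp _ _).symm.trans
      (congrArg (EtModW.stalk Λ ξ).map (Subobject.ofLE_arrow h))) a
  haveI := isIso_of_mono_of_epi (S.ofLE S' h)
  exact le_antisymm (Subobject.le_of_comm (inv (S.ofLE S' h)) (by simp)) h

variable [IsNoetherianRing Λ]

theorem exists_stable_piece_mod [IsLocallyNoetherian X] (F : EtModW.Mod Λ X)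
    (hF : EtModW.IsConstructible Λ F) (c : ℕ →o Subobject F) (x : X) :
    ∃ (V : X.Opens) (N : ℕ), x ∈ V ∧ ∀ (Ω : Type u) [Field Ω] [IsSepClosed Ω]
      (ξ : Spec (CommRingCat.of Ω) ⟶ X), ξ.base default ∈ (V : Set X) ∩ closure {x} →
      ∀ m, N ≤ m → stalkRangeMod Λ (c m) ξ ≤ stalkRangeMod Λ (c N) ξ := by
  haveI := finite_stalk_of_isConstructible_mod Λ hF (geomPt x)
  haveI := isNoetherian_of_isNoetherianRing_of_finite Λ ((EtModW.stalk Λ (geomPt x)).obj F)
  obtain ⟨N, hN⟩ : ∃ N, ∀ m, N ≤ m → stalkRangeMod Λ (c m) (geomPt x) ≤ stalkRangeMod Λ (c N) (geomPt x) := by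
    let s : ℕ → Submodule Λ ((EtModW.stalk Λ (geomPt x)).obj F : Type (u + 1)) :=
      fun n => stalkRangeMod Λ (c n) (geomPt x)
    obtain ⟨N, hN⟩ := WellFoundedGT.monotone_chain_condition
      (⟨s, fun a b hab => stalkRangeMod_mono Λ (c.monotone hab) _⟩ :
        ℕ →o Submodule Λ ((EtModW.stalk Λ (geomPt x)).obj F : Type (u + 1)))
    exact ⟨N, fun m hm => (hN m hm).ge⟩
  obtain ⟨V, hxV, hq⟩ := exists_spec_of_isConstructible Λ F hF x
  obtain ⟨V', hxV', hq'⟩ := exists_isLisseOn_sub Λ (c N).arrow x V hxV hq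
  refine ⟨V ⊓ V', N, ⟨hxV, hxV'⟩, fun Ω _ _ ξ hξ m hm => ?_⟩
  obtain ⟨φ⟩ := LC.exists_specialization ξ (geomPt x)
    (by rw [geomPt_base]; exact specializes_iff_mem_closure.2 hξ.2)
  haveI := hq.iso _ _ ξ (geomPt x) φ ⟨hξ.1.1, hξ.2⟩ (by rw [geomPt_base]; exact ⟨hxV, subset_closure rfl⟩)
  haveI := hq'.iso _ _ ξ (geomPt x) φ ⟨hξ.1.2, hξ.2⟩ (by rw [geomPt_base]; exact ⟨hxV', subset_closure rfl⟩)
  intro b hb
  let q := GrothendieckTopology.Point.Hom.sheafFiber (A := ModuleCat.{u + 1} Λ) φ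
  obtain ⟨a, ha⟩ := hN m hm (stalkRangeMod_map Λ (c m) φ hb)
  obtain ⟨a', rfl⟩ := (ConcreteCategory.bijective_of_isIso (q.app ((c N : Subobject F) : EtModW.Mod Λ X))).2 a
  refine ⟨a', (ConcreteCategory.bijective_of_isIso (q.app F)).1 ?_⟩
  exact (NatTrans.naturality_apply q (c N).arrow a').trans ha

theorem exists_stable_mod [IsNoetherian X] (F : EtModW.Mod Λ X) (hF : EtModW.IsConstructible Λ F)
    (c : ℕ →o Subobject F) : ∃ N, ∀ m, N ≤ m → c m = c N := by
  choose V N hxV h using exists_stable_piece_mod Λ F hF c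
  obtain ⟨t, ht⟩ := @IsCompact.elim_finite_subcover X (constructibleTopology X) Set.univ X
    (@isCompact_univ X (constructibleTopology X) (Groth.Agent.H28Top.compactSpace_constr X))
    (fun x => (V x : Set X) ∩ closure {x})
    (fun x => Groth.Agent.H28Top.isOpen_constr_of_isConstructible
      (isConstructible_of_isLocallyClosed ((V x).2.isLocallyClosed.inter isClosed_closure.isLocallyClosed)))
    (fun x _ => Set.mem_iUnion.2 ⟨x, hxV x, subset_closure rfl⟩)
  refine ⟨t.sup N, fun m hm => isIso_ofLE_of_stalkRangeMod Λ (c.monotone hm) fun Ω _ _ ξ => ?_⟩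
  obtain ⟨x, hx, hξ⟩ := Set.mem_iUnion₂.1 (ht (Set.mem_univ (ξ.base default)))
  exact (h x Ω ξ hξ m ((Finset.le_sup hx : N x ≤ t.sup N).trans hm)).trans
    (stalkRangeMod_mono Λ (c.monotone (Finset.le_sup hx : N x ≤ t.sup N)) ξ)

theorem isNoetherianObject_of_isConstructible_mod [IsNoetherian X] (F : EtModW.Mod Λ X)
    (hF : EtModW.IsConstructible Λ F) : IsNoetherianObject F :=
  (isNoetherianObject_iff_monotone_chain_condition F).2 fun c =>
    (exists_stable_mod Λ F hF c).imp fun _ h m hm => (h m hm).symm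

end Groth.Agent.H18Et.Cons
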