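import Groth.Agent.H18Et.Cons.ModARAbelian

/-!
# Being adic up to translation is detected on stalks, with a uniform shift
-/

set_option backward.isDefEq.respectTransparency false
set_option backward.isDefEq.respectTransparency.types false

universe u

open CategoryTheory CategoryTheory.Limits AlgebraicGeometry Opposite

namespace Groth.Agent.H18Et.Adic

open Groth.Agent.H3CAlg

variable {Λ : Type (u + 1)} [CommRing Λ] (I : Ideal Λ)

theorem ker_le_of_isQuot {J : Ideal Λ} {M Q : ModuleCat.{u + 1} Λ} {p : M ⟶ Q}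
    (hp : ARSys.IsQuot J p) {v : M} (hv : p.hom v = 0) :
    v ∈ J • (⊤ : Submodule Λ (M : Type (u + 1))) := by
  let P : Submodule Λ (M : Type (u + 1)) := J • ⊤
  let q : M ⟶ ModuleCat.of Λ ((M : Type (u + 1)) ⧸ P) := ModuleCat.ofHom P.mkQ
  obtain ⟨ψ, hψ⟩ := ARS.isQuot_desc (φ := q) hp (fun a ha => by
    ext w
    exact ((Submodule.Quotient.mk_smul P a w).symm).trans ((Submodule.Quotient.mk_eq_zero P).2
      (Submodule.smul_mem_smul ha trivial)))
  refine (Submodule.Quotient.mk_eq_zero P).1 ?_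
  refine (LinearMap.congr_fun (congrArg ModuleCat.Hom.hom hψ) v).symm.trans ?_
  exact (congrArg ψ.hom hv).trans (map_zero _)

/-- Elementwise form of being adic up to translation with shift `r`. -/
structure ShiftCond (r : ℕ) (M : ARSys.PS (ModuleCat.{u + 1} Λ)) : Prop where
  ml : ∀ (n m : ℕ) (h : n ≤ m),
    LinearMap.range (ARSys.tr M (Nat.le_add_right n r)).hom ≤ LinearMap.range (ARSys.tr M h).hom
  ker : ∀ n : ℕ, LinearMap.range (ARSys.tr M (Nat.le_add_right (n + 1) r)).hom ⊓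
      LinearMap.ker (ARSys.tr M n.le_succ).hom ≤
    I ^ (n + 1 - r) • LinearMap.range (ARSys.tr M (Nat.le_add_right (n + 1) r)).hom

variable {I}

theorem ShiftCond.of_iso {r : ℕ} {M M' : ARSys.PS (ModuleCat.{u + 1} Λ)} (e : M ≅ M')
    (h : ShiftCond I r M) : ShiftCond I r M' := by
  have hr : ∀ {a b : ℕ} (hab : a ≤ b), LinearMap.range (ARSys.tr M' hab).hom =
      (LinearMap.range (ARSys.tr M hab).hom).map (e.hom.app (op a)).hom := fun {a b} hab => by
    have h1 : (ARSys.tr M hab ≫ e.hom.app (op a)).hom = (e.hom.app (op b) ≫ ARSys.tr M' hab).hom :=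
      congrArg ModuleCat.Hom.hom (e.hom.naturality (homOfLE hab).op)
    rw [ModuleCat.hom_comp, ModuleCat.hom_comp] at h1
    rw [← LinearMap.range_comp, h1, LinearMap.range_comp_of_range_eq_top]
    exact LinearMap.range_eq_top.2 (ConcreteCategory.bijective_of_isIso (e.hom.app (op b))).2
  refine ⟨fun n m hnm => ?_, fun n => ?_⟩
  · rw [hr, hr]
    exact Submodule.map_mono (h.ml n m hnm)
  · rintro y ⟨hy, hy0⟩
    rw [hr] at hy ⊢
    obtain ⟨x, hx, rfl⟩ := hy
    rw [← Submodule.map_smul'']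
    refine ⟨x, h.ker n ⟨hx, ?_⟩, rfl⟩
    refine (ConcreteCategory.bijective_of_isIso (e.hom.app (op n))).1 ?_
    refine Eq.trans ?_ (map_zero (e.hom.app (op n)).hom).symm
    exact (ConcreteCategory.congr_hom (e.hom.naturality (homOfLE n.le_succ).op) x).trans
      (LinearMap.mem_ker.1 hy0)

theorem shiftCond_of_inverse {r : ℕ} {Z M : ARSys.PS (ModuleCat.{u + 1} Λ)} (hZ : ARSys.IsAdic I Z)
    (u : Z ⟶ M) (w : ∀ n : ℕ, M.obj (op (n + r)) ⟶ Z.obj (op n))
    (hw₁ : ∀ n, w n ≫ u.app (op n) = ARSys.tr M (Nat.le_add_right n r))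
    (hw₂ : ∀ n, u.app (op (n + r)) ≫ w n = ARSys.tr Z (Nat.le_add_right n r)) :
    ShiftCond I r M := by
  have hs : ∀ {a b : ℕ} (hab : a ≤ b), Function.Surjective (ARSys.tr Z hab).hom := fun hab =>
    (ModuleCat.epi_iff_surjective _).1 (ARS.isQuot_epi (hZ.2 _ _ hab))
  have hu : ∀ {a b : ℕ} (hab : a ≤ b) (z : Z.obj (op b)),
      (u.app (op a)).hom ((ARSys.tr Z hab).hom z) = (ARSys.tr M hab).hom ((u.app (op b)).hom z) :=
    fun hab z => ConcreteCategory.congr_hom (u.naturality (homOfLE hab).op) z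
  have hle : ∀ n, LinearMap.range (u.app (op n)).hom ≤
      LinearMap.range (ARSys.tr M (Nat.le_add_right n r)).hom := by
    rintro n _ ⟨z, rfl⟩
    obtain ⟨z', rfl⟩ := hs (Nat.le_add_right n r) z
    exact ⟨_, (hu _ z').symm⟩
  refine ⟨fun n m h => ?_, fun n => ?_⟩
  · rintro _ ⟨y, rfl⟩
    obtain ⟨z, hz⟩ := hs h ((w n).hom y)
    refine ⟨(u.app (op m)).hom z, (hu h z).symm.trans ?_⟩
    rw [hz]
    exact ConcreteCategory.congr_hom (hw₁ n) y
  · rintro x ⟨⟨y, rfl⟩, hx⟩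
    rcases Nat.lt_or_ge n r with hn | hn
    · rw [Nat.sub_eq_zero_of_le hn, pow_zero, Ideal.one_eq_top, Submodule.top_smul]
      exact ⟨y, rfl⟩
    obtain ⟨d, rfl⟩ : ∃ d, n = d + r := ⟨n - r, by omega⟩
    let z := (w (d + r + 1)).hom y
    have hz : (u.app (op (d + r + 1))).hom z = (ARSys.tr M (Nat.le_add_right (d + r + 1) r)).hom y :=
      ConcreteCategory.congr_hom (hw₁ (d + r + 1)) y
    have h0 : (ARSys.tr Z (show d ≤ d + r + 1 by omega)).hom z = 0 := by
      have e1 : (u.app (op (d + r))).hom ((ARSys.tr Z (d + r).le_succ).hom z) = 0 := by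
        rw [hu, hz]; exact LinearMap.mem_ker.1 hx
      have e2 := (ConcreteCategory.congr_hom (hw₂ d) ((ARSys.tr Z (d + r).le_succ).hom z)).symm.trans
        ((congrArg (w d).hom e1).trans (map_zero _))
      exact (ConcreteCategory.congr_hom
        (ARS.tr_tr Z (d + r).le_succ (Nat.le_add_right d r)) z).symm.trans e2
    rw [show d + r + 1 - r = d + 1 by omega]
    refine Submodule.smul_mono le_rfl (hle (d + r + 1)) ?_
    rw [← hz, LinearMap.range_eq_map, ← Submodule.map_smul'']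
    exact ⟨z, ker_le_of_isQuot (hZ.2 d (d + r + 1) (by omega)) h0, rfl⟩

end Groth.Agent.H18Et.Adic

namespace Groth.Agent.H18Et.Cons

open scoped Groth.Agent.H18Et
open Groth.Agent.H3CAlg

variable (Λ : Type (u + 1)) [CommRing Λ] (I : Ideal Λ) {X T : Scheme.{u}}

theorem stalkPreservesFiniteColimits {Ω : Type u} [Field Ω] [IsSepClosed Ω]
    (ξ : Spec (CommRingCat.of Ω) ⟶ X) : PreservesFiniteColimits (EtModW.stalk Λ ξ) := by
  haveI := ((Scheme.pointSmallEtale ξ).skyscraperSheafAdjunction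
    (A := ModuleCat.{u + 1} Λ)).leftAdjoint_preservesColimits
  exact PreservesColimitsOfSize.preservesFiniteColimits.{0, 0} _

theorem exists_shiftCond_stalks {F : ARSys.PS (EtModW.Mod Λ X)} (h : ARSys.IsARAdic I F) :
    ∃ R, ∀ r, R ≤ r → ∀ (Ω : Type u) [Field Ω] [IsSepClosed Ω] (ξ : Spec (CommRingCat.of Ω) ⟶ X),
      Adic.ShiftCond I r (F ⋙ EtModW.stalk Λ ξ) := by
  obtain ⟨-, Z, z, hZ, hz⟩ := h
  obtain ⟨R, w, hw₁, hw₂, -⟩ := ARS.exists_inverse_of_isARIso z hz
  refine ⟨R, fun r hr Ω _ _ ξ => ?_⟩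
  refine Adic.shiftCond_of_inverse
    (Adic.isAdic_map _ (fun a f => stalk_map_smul Λ ξ a f)
      (Scheme.pointSmallEtale ξ).skyscraperSheafAdjunction hZ)
    (Functor.whiskerRight z (EtModW.stalk Λ ξ))
    (fun n => (EtModW.stalk Λ ξ).map (ARSys.tr F (Nat.add_le_add_left hr n) ≫ w n))
    (fun n => ?_) (fun n => ?_)
  · refine ((EtModW.stalk Λ ξ).map_comp _ _).symm.trans ?_
    rw [Category.assoc, hw₁, ARS.tr_tr]
    rfl
  · refine ((EtModW.stalk Λ ξ).map_comp _ _).symm.trans ?_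
    rw [← ARS.tr_naturality_assoc, hw₂, ARS.tr_tr]
    rfl

variable [IsNoetherianRing Λ]

theorem hom_eq_zero_of_stalk {F G : EtModW.Mod Λ X} (f : F ⟶ G)
    (h : ∀ (Ω : Type u) [Field Ω] [IsSepClosed Ω] (ξ : Spec (CommRingCat.of Ω) ⟶ X) (a),
      ((EtModW.stalk Λ ξ).map f).hom a = 0) : f = 0 := by
  ext U s
  refine sect_ext (A := ModuleCat.{u + 1} Λ) (U := unop U) _ _ fun Ω _ _ ξ x => ?_
  refine (germ_naturality ξ f (unop U) x s).symm.trans ((h Ω ξ _).trans ?_)
  exact (map_zero (germ ξ G (unop U) x).hom).symm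

/-- A uniform shift on all stalks makes the system adic up to translation. -/
theorem isARAdic_of_shiftCond {F : ARSys.PS (EtModW.Mod Λ X)} (hk : ARSys.TermKilled I F) (r : ℕ)
    (h : ∀ (Ω : Type u) [Field Ω] [IsSepClosed Ω] (ξ : Spec (CommRingCat.of Ω) ⟶ X),
      Adic.ShiftCond I r (F ⋙ EtModW.stalk Λ ξ)) : ARSys.IsARAdic I F := by
  let s := ARS.shiftTo F r
  let p := Abelian.factorThruImage s
  let ι := Abelian.image.ι s
  let L := Abelian.image s
  have hpι : ∀ n, p.app (op n) ≫ ι.app (op n) = ARSys.tr F (Nat.le_add_right n r) := fun n =>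
    NatTrans.congr_app (Abelian.image.fac s) (op n)
  haveI hmι : ∀ n, Mono (ι.app (op n)) := fun n =>
    inferInstanceAs (Mono (((evaluation ℕᵒᵖ (EtModW.Mod Λ X)).obj (op n)).map (Abelian.image.ι s)))
  haveI hep : ∀ n, Epi (p.app (op n)) := fun n =>
    inferInstanceAs (Epi (((evaluation ℕᵒᵖ (EtModW.Mod Λ X)).obj (op n)).map (Abelian.factorThruImage s)))
  have hι : ∀ (n : ℕ) (Ω : Type u) [Field Ω] [IsSepClosed Ω] (ξ : Spec (CommRingCat.of Ω) ⟶ X),
      Function.Injective ((EtModW.stalk Λ ξ).map (ι.app (op n))).hom :=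
    fun n Ω _ _ ξ => injective_stalk_map Λ _ ξ
  have hrange : ∀ (n : ℕ) (Ω : Type u) [Field Ω] [IsSepClosed Ω] (ξ : Spec (CommRingCat.of Ω) ⟶ X),
      LinearMap.range ((EtModW.stalk Λ ξ).map (ι.app (op n))).hom =
        LinearMap.range (ARSys.tr (F ⋙ EtModW.stalk Λ ξ) (Nat.le_add_right n r)).hom := by
    intro n Ω _ _ ξ
    haveI := stalkPreservesFiniteColimits Λ ξ
    haveI := hep n
    have h1 : Function.Surjective ((EtModW.stalk Λ ξ).map (p.app (op n))).hom :=
      (ModuleCat.epi_iff_surjective _).1 inferInstance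
    change _ = LinearMap.range ((EtModW.stalk Λ ξ).map (ARSys.tr F (Nat.le_add_right n r))).hom
    rw [← hpι, Functor.map_comp, ModuleCat.hom_comp, LinearMap.range_comp_of_range_eq_top]
    exact LinearMap.range_eq_top.2 h1
  have hL : ARSys.IsStrict L := by
    intro n m hnm
    refine epi_of_surjective_stalk Λ _ fun Ω _ _ ξ y => ?_
    have hy : ((EtModW.stalk Λ ξ).map (ι.app (op n))).hom y ∈
        LinearMap.range (ARSys.tr (F ⋙ EtModW.stalk Λ ξ) (Nat.le_add_right n r)).hom :=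
      hrange n Ω ξ ▸ ⟨y, rfl⟩
    obtain ⟨b, hb⟩ := (h Ω ξ).ml n (m + r) (by omega) hy
    refine ⟨((EtModW.stalk Λ ξ).map (p.app (op m))).hom b, hι n Ω ξ (Eq.trans ?_ hb)⟩
    change (((EtModW.stalk Λ ξ).map (p.app (op m)) ≫ (EtModW.stalk Λ ξ).map (ARSys.tr L hnm)) ≫
      (EtModW.stalk Λ ξ).map (ι.app (op n))).hom b = ((EtModW.stalk Λ ξ).map (ARSys.tr F _)).hom b
    rw [← Functor.map_comp, ← Functor.map_comp, Category.assoc, ARS.tr_naturality, ← Category.assoc,
      hpι, ARS.tr_tr]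
    rfl
  have kL : ARSys.TermKilled I L := ARS.termKilled_of_mono ι hmι hk
  have hfk : ∀ n, ARSys.SubLEIdeal (I ^ (n - r)) (ARSys.Fker L n) := by
    intro n Z φ hφ
    cases n with
    | zero =>
      rw [Nat.zero_sub, pow_zero, Ideal.one_eq_top] at hφ
      rw [ARS.eq_zero_of_homKilledBy_top hφ, comp_zero]
    | succ n =>
      refine hom_eq_zero_of_stalk Λ _ fun Ω _ _ ξ a => ?_
      let S := EtModW.stalk Λ ξ
      haveI : S.PreservesZeroMorphisms := LC.sheafFiber_preservesZero _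
      rw [S.map_comp]
      change (S.map φ).hom ((S.map (kernelSubobject (ARSys.tr L n.le_succ)).arrow).hom a) = 0
      let b := (S.map (kernelSubobject (ARSys.tr L n.le_succ)).arrow).hom a
      have hb0 : (S.map (ARSys.tr L n.le_succ)).hom b = 0 := by
        change (S.map (kernelSubobject (ARSys.tr L n.le_succ)).arrow ≫
          S.map (ARSys.tr L n.le_succ)).hom a = 0
        rw [← S.map_comp, kernelSubobject_arrow_comp, S.map_zero]
        rfl
      have hmem : (S.map (ι.app (op (n + 1)))).hom b ∈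
          I ^ (n + 1 - r) • LinearMap.range (ARSys.tr (F ⋙ S) (Nat.le_add_right (n + 1) r)).hom := by
        refine (h Ω ξ).ker n ⟨hrange (n + 1) Ω ξ ▸ ⟨b, rfl⟩, ?_⟩
        change (S.map (ι.app (op (n + 1))) ≫ S.map (ARSys.tr F n.le_succ)).hom b = 0
        rw [← S.map_comp, ← ARS.tr_naturality, S.map_comp]
        exact (congrArg (S.map (ι.app (op n))).hom hb0).trans (map_zero _)
      rw [← hrange (n + 1) Ω ξ, LinearMap.range_eq_map, ← Submodule.map_smul''] at hmem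
      obtain ⟨b', hb', e⟩ := hmem
      change (S.map φ).hom b = 0
      rw [← show b' = b from hι (n + 1) Ω ξ e]
      refine Submodule.smul_induction_on hb' (fun c hc v _ => ?_) fun v v' hv hv' => by
        rw [map_add, hv, hv', add_zero]
      rw [map_smul]
      have := congrArg (fun k => (S.map k).hom v) (hφ c hc)
      simp only [S.map_zero] at this
      rw [stalk_map_smul Λ ξ c φ] at this
      exact this
  obtain ⟨-, Z, z, hZ, hz⟩ :=
    ARS.isARAdic_of_fker (Or.inl (IsNoetherian.noetherian I)) hL kL hfk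
  refine ⟨hk, Z, z ≫ ι, hZ, ARS.isARIso_comp hz ⟨?_, ?_⟩⟩
  · refine (ARS.isARNull_kernel_iff ι).mpr ⟨0, fun n A x hx => ?_⟩
    haveI := hmι (n + 0)
    rw [show x = 0 from (cancel_mono (ι.app (op (n + 0)))).mp (hx.trans zero_comp.symm), zero_comp]
  · exact (ARS.isARNull_cokernel_iff ι).mpr ⟨r, fun n => .of_eq (p.app (op n)) (hpι n).symm⟩

variable [IsNoetherian X]

theorem exists_rep_of_shiftCond {F : ARSys.PS (EtModW.Mod Λ X)} (hk : ARSys.TermKilled I F)
    (hc : ∀ n : ℕ, EtModW.IsConstructible Λ (F.obj (op n))) (r : ℕ)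
    (h : ∀ (Ω : Type u) [Field Ω] [IsSepClosed Ω] (ξ : Spec (CommRingCat.of Ω) ⟶ X),
      Adic.ShiftCond I r (F ⋙ EtModW.stalk Λ ξ)) :
    ARSys.TermKilled I F ∧ ∃ (Y : ARSys.PS (EtModW.Mod Λ X)) (v : Y ⟶ F), ARSys.IsAdic I Y ∧
      (∀ n : ℕ, EtModW.IsConstructible Λ (Y.obj (op n))) ∧ ARSys.IsARIso v :=
  ⟨hk, exists_rep_mod Λ I (isARAdic_of_shiftCond Λ I hk r h) hc⟩

theorem shiftCond_pull_iff {r : ℕ} (f : T ⟶ X) (F : ARSys.PS (EtModW.Mod Λ X))
    {Ω : Type u} [Field Ω] [IsSepClosed Ω] (ξ : Spec (CommRingCat.of Ω) ⟶ T) :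
    Adic.ShiftCond I r ((F ⋙ EtModW.pull Λ f) ⋙ EtModW.stalk Λ ξ) ↔
      Adic.ShiftCond I r (F ⋙ EtModW.stalk Λ (ξ ≫ f)) :=
  let e : (F ⋙ EtModW.pull Λ f) ⋙ EtModW.stalk Λ ξ ≅ F ⋙ EtModW.stalk Λ (ξ ≫ f) :=
    Functor.associator _ _ _ ≪≫ Functor.isoWhiskerLeft F (stalkPullModIso Λ f ξ)
  ⟨fun h => h.of_iso e, fun h => h.of_iso e.symm⟩

end Groth.Agent.H18Et.Cons
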