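import Groth.Agent.H18Et.Cons.AdicAlgebra
import Groth.Agent.H3CAlg.ARS.Linear
import Groth.Agent.H18Et.Cons.Criteria
import Groth.Agent.H18Et.LC.Locus
import Groth.Agent.H18Et.LC.Apply
import Groth.Agent.H18Et.LC.StalkSystem
import Mathlib.CategoryTheory.Sites.Point.Skyscraper

/-!
# Adic systems of constructible sheaves of modules are lisse on finitely many common strata
-/

set_option backward.isDefEq.respectTransparency false
set_option backward.isDefEq.respectTransparency.types false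

universe u

open CategoryTheory CategoryTheory.Limits AlgebraicGeometry Opposite Topology

namespace Groth.Agent.H18Et.Cons

open scoped Groth.Agent.H18Et

variable {X : Scheme.{u}} (Λ : Type (u + 1)) [CommRing Λ]
  {Ω Ω' : Type u} [Field Ω] [IsSepClosed Ω] [Field Ω'] [IsSepClosed Ω']

theorem stalk_map_smul (ξ : Spec (CommRingCat.of Ω) ⟶ X) {F G : EtModW.Mod Λ X} (a : Λ) (f : F ⟶ G) :
    (EtModW.stalk Λ ξ).map (a • f) = a • (EtModW.stalk Λ ξ).map f := by
  refine (Scheme.pointSmallEtale ξ).presheafFiber_hom_ext fun U x => ?_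
  have h1 := (Scheme.pointSmallEtale ξ).toPresheafFiber_naturality (a • f).hom U x
  have h2 := (Scheme.pointSmallEtale ξ).toPresheafFiber_naturality f.hom U x
  refine h1.trans ?_
  rw [Linear.comp_smul]
  refine Eq.trans ?_ (congrArg (a • ·) h2.symm)
  exact Linear.smul_comp ..

/-- The stalk of an inverse image of a sheaf of modules. -/
noncomputable def stalkPullModIso {T : Scheme.{u}} (f : T ⟶ X) (ξ : Spec (CommRingCat.of Ω) ⟶ T) :
    EtModW.pull Λ f ⋙ EtModW.stalk Λ ξ ≅ EtModW.stalk Λ (ξ ≫ f) :=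
  ((Scheme.pointSmallEtale ξ).sheafFiberComapIso (EtCoh.bc f) (EtCoh.coverPreserving_bc f)
      (ModuleCat.{u + 1} Λ)).symm ≪≫
    { hom := (pointCompIso f ξ).inv.sheafFiber
      inv := (pointCompIso f ξ).hom.sheafFiber
      hom_inv_id := by
        rw [← GrothendieckTopology.Point.Hom.sheafFiber_comp, Iso.hom_inv_id,
          GrothendieckTopology.Point.Hom.sheafFiber_id]
      inv_hom_id := by
        rw [← GrothendieckTopology.Point.Hom.sheafFiber_comp, Iso.inv_hom_id,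
          GrothendieckTopology.Point.Hom.sheafFiber_id] }

/-- `F` has finitely generated stalks over `S` and specialisations inside `S` act bijectively. -/
structure IsLisseOn (F : EtModW.Mod Λ X) (S : Set X) : Prop where
  finite : ∀ (Ω : Type u) [Field Ω] [IsSepClosed Ω] (ξ : Spec (CommRingCat.of Ω) ⟶ X),
    ξ.base default ∈ S → Module.Finite Λ ((EtModW.stalk Λ ξ).obj F)
  iso : ∀ (Ω Ω' : Type u) [Field Ω] [IsSepClosed Ω] [Field Ω'] [IsSepClosed Ω']
    (ξ : Spec (CommRingCat.of Ω) ⟶ X) (ξ' : Spec (CommRingCat.of Ω') ⟶ X)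
    (φ : Scheme.pointSmallEtale ξ' ⟶ Scheme.pointSmallEtale ξ), ξ.base default ∈ S →
    ξ'.base default ∈ S →
    IsIso ((GrothendieckTopology.Point.Hom.sheafFiber (A := ModuleCat.{u + 1} Λ) φ).app F)

theorem IsLisseOn.mono {F : EtModW.Mod Λ X} {S S' : Set X} (h : IsLisseOn Λ F S) (hS : S' ⊆ S) : IsLisseOn Λ F S' :=
  ⟨fun Ω _ _ ξ hξ => h.finite Ω ξ (hS hξ),
    fun Ω Ω' _ _ _ _ ξ ξ' φ hξ hξ' => h.iso Ω Ω' ξ ξ' φ (hS hξ) (hS hξ')⟩

theorem isIso_germ_pull_mod_iff {T : Scheme.{u}} (g : T ⟶ X) (F : EtModW.Mod Λ X) {U : X.Etale}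
    {M : ModuleCat.{u + 1} Λ} (c : M ⟶ F.obj.obj (op U)) (ξ : Spec (CommRingCat.of Ω) ⟶ T)
    (t : (Scheme.pointSmallEtale ξ).fiber.obj ((EtCoh.bc g).obj U)) :
    IsIso ((c ≫ (((EtCoh.bc g).sheafAdjunctionContinuous (ModuleCat.{u + 1} Λ) X.smallEtaleTopology
        T.smallEtaleTopology).unit.app F).hom.app (op U)) ≫
        germ ξ ((EtModW.pull Λ g).obj F) ((EtCoh.bc g).obj U) t) ↔
      IsIso (c ≫ germ (ξ ≫ g) F U ((fiberCompIso g ξ).hom.app U t)) :=
  LC.isIso_germ_unit_iff (Scheme.pointSmallEtale ξ) (EtCoh.bc g) (EtCoh.coverPreserving_bc g)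
    (pointCompIso g ξ) F U t c

variable [IsNoetherianRing Λ]

theorem spec_of_pull {T : Scheme.{u}} (g : T ⟶ X) [IsPreimmersion g] (F : EtModW.Mod Λ X)
    (hF : EtModW.IsFTLocConst Λ ((EtModW.pull Λ g).obj F)) : IsLisseOn Λ F (Set.range g) := by
  have hfin : ∀ (Ω : Type u) [Field Ω] [IsSepClosed Ω] (a : Spec (CommRingCat.of Ω) ⟶ T),
      Module.Finite Λ ((EtModW.stalk Λ (a ≫ g)).obj F) := by
    intro Ω _ _ a
    obtain ⟨ι, U, hU, hc⟩ := (LC.isFTLocConst_iff Λ _).1 hF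
    obtain ⟨i, y, hy⟩ := hU (a.base default)
    obtain ⟨z, -⟩ := exists_fiber_over y a hy.symm
    obtain ⟨M, hM, c, hc⟩ := hc i
    haveI := hc.isIso a z
    exact Module.Finite.equiv
      ((asIso (c ≫ germ a _ (U i) z)) ≪≫ (stalkPullModIso Λ g a).app F).toLinearEquiv
  refine ⟨fun Ω _ _ ξ ⟨t, ht⟩ => ?_, fun Ω Ω' _ _ _ _ ξ ξ' φ hξ hξ' => ?_⟩
  · obtain ⟨a, rfl, -⟩ := LC.exists_lift_geom g ξ t ht
    exact hfin Ω a
  · obtain ⟨t₀, ht₀⟩ := hξ
    obtain ⟨a, rfl, -⟩ := LC.exists_lift_geom g ξ t₀ ht₀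
    obtain ⟨t₁, ht₁⟩ := hξ'
    obtain ⟨a', rfl, -⟩ := LC.exists_lift_geom g ξ' t₁ ht₁
    haveI : Module.Finite Λ ((Scheme.pointSmallEtale (a ≫ g)).sheafFiber.obj F : ModuleCat.{u + 1} Λ) :=
      hfin Ω a
    haveI : Module.FinitePresentation Λ
        ((Scheme.pointSmallEtale (a ≫ g)).sheafFiber.obj F : ModuleCat.{u + 1} Λ) :=
      Module.finitePresentation_of_finite Λ _
    obtain ⟨e, -⟩ := exists_fiber_over (U := EtCoh.top X) ((a ≫ g).base default) (a ≫ g) rfl
    obtain ⟨U, -, z, -, c, hc⟩ := LC.exists_hom_lift_mod (a ≫ g) Λ F e _ (𝟙 _)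
    obtain ⟨z₁, hz₁⟩ := LC.exists_fiberComp g a U z
    obtain ⟨t₁', ht₁'⟩ := LC.exists_fiberComp g a' U (φ.hom.app U z)
    have hsp : ptOf t₁' ⤳ ptOf z₁ := by
      have hi : Topology.IsInducing
          (pullback.fst U.hom g : ((EtCoh.bc g).obj U).left ⟶ U.left) :=
        (pullback.fst U.hom g).isEmbedding.isInducing
      rw [← hi.specializes_iff, ← LC.ptOf_fiberCompIso, ← LC.ptOf_fiberCompIso, hz₁, ht₁']
      exact LC.specializes_of_hom φ z
    obtain ⟨ψ, hψ⟩ := LC.exists_specialization_lift z₁ t₁' hsp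
    haveI := LC.isIso_specialization_of_isFTLocConst Λ hF ψ
    have h0 : IsIso (c ≫ germ (a ≫ g) F U z) := by rw [hc]; exact IsIso.id _
    have h1 := (isIso_germ_pull_mod_iff Λ g F c a z₁).2 (hz₁.symm ▸ h0)
    have h2 := (LC.isIso_germ_of_specialization _ ψ z₁).1 h1
    rw [hψ] at h2
    have h3 := (isIso_germ_pull_mod_iff Λ g F c a' t₁').1 h2
    rw [ht₁', ← LC.germ_sheafFiber_hom φ F U z, ← Category.assoc] at h3
    exact IsIso.of_isIso_comp_left (c ≫ germ (a ≫ g) F U z) _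

theorem isFTLocConst_pull_of_spec {T : Scheme.{u}} [IsLocallyNoetherian T] (g : T ⟶ X)
    (F : EtModW.Mod Λ X) {S : Set X} (h : IsLisseOn Λ F S) (hg : Set.range g ⊆ S) :
    EtModW.IsFTLocConst Λ ((EtModW.pull Λ g).obj F) := by
  have hmem : ∀ (Ω : Type u) [Field Ω] (a : Spec (CommRingCat.of Ω) ⟶ T),
      (a ≫ g).base default ∈ S := fun Ω _ a => hg ⟨_, (Scheme.Hom.comp_apply _ _ _).symm⟩
  have key : ∀ t : T, ∃ (W : T.Etale) (w : W.left), W.hom.base w = t ∧
      ∃ (M : ModuleCat.{u + 1} Λ) (_ : Module.Finite Λ M)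
        (c : M ⟶ ((EtModW.pull Λ g).obj F).obj.obj (op W)),
        LC.IsConstOn ((EtModW.pull Λ g).obj F) W c := by
    intro t
    let a := geomPt t
    haveI hM : Module.Finite Λ ((Scheme.pointSmallEtale (a ≫ g)).sheafFiber.obj F : ModuleCat.{u + 1} Λ) :=
      h.finite _ _ (hmem _ a)
    haveI : Module.FinitePresentation Λ
        ((Scheme.pointSmallEtale (a ≫ g)).sheafFiber.obj F : ModuleCat.{u + 1} Λ) :=
      Module.finitePresentation_of_finite Λ _
    obtain ⟨e, -⟩ := exists_fiber_over (U := EtCoh.top X) ((a ≫ g).base default) (a ≫ g) rfl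
    obtain ⟨U, -, z, -, c, hc⟩ := LC.exists_hom_lift_mod (a ≫ g) Λ F e _ (𝟙 _)
    obtain ⟨z₁, hz₁⟩ := LC.exists_fiberComp g a U z
    haveI : Etale ((EtCoh.bc g).obj U).hom := ((EtCoh.bc g).obj U).prop
    haveI : IsLocallyNoetherian ((EtCoh.bc g).obj U).left :=
      LocallyOfFiniteType.isLocallyNoetherian (Y := T)
        (((EtCoh.bc g).obj U).hom : ((EtCoh.bc g).obj U).left ⟶ T)
    obtain ⟨O, hzO, hO⟩ := LC.exists_star_nbhd (ptOf z₁)
    let W : T.Etale := MorphismProperty.Over.mk ⊤ (O.ι ≫ ((EtCoh.bc g).obj U).hom)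
      (inferInstanceAs (Etale _))
    let k : W ⟶ (EtCoh.bc g).obj U := MorphismProperty.Over.homMk O.ι rfl trivial
    refine ⟨W, ⟨ptOf z₁, hzO⟩, ?_, _, hM, (c ≫ (((EtCoh.bc g).sheafAdjunctionContinuous
      (ModuleCat.{u + 1} Λ) X.smallEtaleTopology T.smallEtaleTopology).unit.app F).hom.app (op U)) ≫
        ((EtModW.pull Λ g).obj F).obj.map k.op, ?_⟩
    · exact (Scheme.Hom.comp_apply _ _ _).trans ((LC.ptOf_base z₁).trans (geomPt_base t))
    intro Ω₁ _ _ a₁ s
    rw [Category.assoc, germ, GrothendieckTopology.Point.toPresheafFiber_w,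
      isIso_germ_pull_mod_iff]
    have hw : ptOf ((Scheme.pointSmallEtale a₁).fiber.map k s) ∈ O := by
      rw [← ptOf_map]
      exact (ptOf s).2
    obtain ⟨η, -, hη₁, hη₂⟩ := hO _ hw
    obtain ⟨b, hb⟩ := exists_fiber_over η (geomPt (((EtCoh.bc g).obj U).hom.base η)) (geomPt_base _)
    have hb₁ : ptOf ((fiberCompIso g _).hom.app U b) ⤳ ptOf z := by
      rw [← hz₁, LC.ptOf_fiberCompIso, LC.ptOf_fiberCompIso, hb]
      exact hη₂.map (pullback.fst U.hom g).continuous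
    have hb₂ : ptOf ((fiberCompIso g _).hom.app U b) ⤳
        ptOf ((fiberCompIso g a₁).hom.app U ((Scheme.pointSmallEtale a₁).fiber.map k s)) := by
      rw [LC.ptOf_fiberCompIso, LC.ptOf_fiberCompIso, hb]
      exact hη₁.map (pullback.fst U.hom g).continuous
    obtain ⟨φ₁, h₁⟩ := LC.exists_specialization_lift _ _ hb₁
    obtain ⟨φ₂, h₂⟩ := LC.exists_specialization_lift _ _ hb₂
    haveI := h.iso _ _ _ _ φ₁ (hmem _ _) (hmem _ _)
    haveI := h.iso _ _ _ _ φ₂ (hmem _ _) (hmem _ _)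
    have h3 := (LC.isIso_germ_of_specialization c φ₁ z).1 (by rw [hc]; exact IsIso.id _)
    rw [h₁, ← h₂] at h3
    exact (LC.isIso_germ_of_specialization c φ₂ _).2 h3
  choose W w hw M hM c hc using key
  exact (LC.isFTLocConst_iff Λ _).2
    ⟨T, W, fun t => ⟨t, w t, hw t⟩, fun t => ⟨M t, hM t, c t, hc t⟩⟩

theorem exists_spec_of_isConstructible (F : EtModW.Mod Λ X) (hF : EtModW.IsConstructible Λ F)
    (x : X) : ∃ V : X.Opens, x ∈ V ∧ IsLisseOn Λ F ((V : Set X) ∩ closure {x}) := by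
  obtain ⟨O, hO, hxO, -⟩ := exists_isAffineOpen_mem_and_subset (x := x) (U := ⊤) trivial
  obtain ⟨n, T, g, hg, -, -, hu, hq⟩ := hF O hO
  obtain ⟨i, t, ht⟩ := Set.mem_iUnion.1 (hu.symm ▸ hxO : x ∈ ⋃ i, Set.range (g i))
  haveI := hg i
  obtain ⟨A, C, hA, hC, he⟩ := (g i).isLocallyClosed_range
  have hmem : x ∈ A ∩ C := he ▸ ⟨t, ht⟩
  refine ⟨⟨A, hA⟩, hmem.1, (spec_of_pull Λ (g i) F (hq i)).mono Λ fun y hy => ?_⟩
  rw [he]
  exact ⟨hy.1, hC.closure_subset_iff.2 (Set.singleton_subset_iff.2 hmem.2) hy.2⟩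

section Adic

variable (I : Ideal Λ) (F : ARSys.PS (EtModW.Mod Λ X)) (hF : ARSys.IsAdic I F)

/-- The transition maps on stalks. -/
noncomputable def stalkTr (ξ : Spec (CommRingCat.of Ω) ⟶ X) (n : ℕ) :
    (EtModW.stalk Λ ξ).obj (F.obj (op (n + 1))) →ₗ[Λ] (EtModW.stalk Λ ξ).obj (F.obj (op n)) :=
  ((EtModW.stalk Λ ξ).map (ARSys.tr F n.le_succ)).hom

include hF in
theorem isAdicMaps_stalkTr (ξ : Spec (CommRingCat.of Ω) ⟶ X) :
    Adic.IsAdicMaps (M := fun n => ((EtModW.stalk Λ ξ).obj (F.obj (op n)) : Type (u + 1))) I (stalkTr Λ F ξ) := by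
  have hL : ∀ {A B : EtModW.Mod Λ X} (a : Λ) (f : A ⟶ B),
      (EtModW.stalk Λ ξ).map (a • f) = a • (EtModW.stalk Λ ξ).map f :=
    fun a f => stalk_map_smul Λ ξ a f
  have hq : ∀ n, ARSys.IsQuot (I ^ (n + 1)) ((EtModW.stalk Λ ξ).map (ARSys.tr F n.le_succ)) := fun n =>
    Adic.isQuot_map (Scheme.pointSmallEtale ξ).skyscraperSheafAdjunction hL (hF.2 n (n + 1) n.le_succ)
  refine ⟨fun n => ?_, fun n => ?_, fun n => ?_⟩
  · exact (ModuleCat.epi_iff_surjective _).1 (Groth.Agent.H3CAlg.ARS.isQuot_epi (hq n))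
  · intro v hv
    let P : Submodule Λ ((EtModW.stalk Λ ξ).obj (F.obj (op (n + 1))) : Type (u + 1)) := I ^ (n + 1) • ⊤
    let q : (EtModW.stalk Λ ξ).obj (F.obj (op (n + 1))) ⟶ ModuleCat.of Λ
        (((EtModW.stalk Λ ξ).obj (F.obj (op (n + 1))) : Type (u + 1)) ⧸ P) := ModuleCat.ofHom P.mkQ
    obtain ⟨ψ, hψ⟩ := Groth.Agent.H3CAlg.ARS.isQuot_desc (φ := q) (hq n) (fun a ha => by
      ext w
      exact ((Submodule.Quotient.mk_smul P a w).symm).trans ((Submodule.Quotient.mk_eq_zero P).2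
        (Submodule.smul_mem_smul ha trivial)))
    refine (Submodule.Quotient.mk_eq_zero P).1 ?_
    refine (LinearMap.congr_fun (congrArg ModuleCat.Hom.hom hψ) v).symm.trans ?_
    exact (congrArg ψ.hom (LinearMap.mem_ker.1 hv)).trans (map_zero _)
  · rw [eq_bot_iff, Submodule.smul_le]
    intro a ha v _
    exact LinearMap.congr_fun (congrArg ModuleCat.Hom.hom (Adic.killedBy_map hL (hF.1 n) a ha)) v

theorem specialization_comm {ξ : Spec (CommRingCat.of Ω) ⟶ X} {ξ' : Spec (CommRingCat.of Ω') ⟶ X}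
    (φ : Scheme.pointSmallEtale ξ' ⟶ Scheme.pointSmallEtale ξ) (n : ℕ) :
    (stalkTr Λ F ξ' n).comp
        ((GrothendieckTopology.Point.Hom.sheafFiber (A := ModuleCat.{u + 1} Λ) φ).app (F.obj (op (n + 1)))).hom =
      ((GrothendieckTopology.Point.Hom.sheafFiber (A := ModuleCat.{u + 1} Λ) φ).app (F.obj (op n))).hom.comp
        (stalkTr Λ F ξ n) :=
  congrArg ModuleCat.Hom.hom
    ((GrothendieckTopology.Point.Hom.sheafFiber (A := ModuleCat.{u + 1} Λ) φ).naturality
      (ARSys.tr F n.le_succ)).symm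

include hF in
/-- Near each point, all members of the system are lisse along the closure of the point. -/
theorem exists_spec_adic (hc : ∀ n : ℕ, EtModW.IsConstructible Λ (F.obj (op n))) (x : X) :
    ∃ V : X.Opens, x ∈ V ∧ ∀ n, IsLisseOn Λ (F.obj (op n)) ((V : Set X) ∩ closure {x}) := by
  choose V hV hS using fun n => exists_spec_of_isConstructible Λ _ (hc n) x
  have hx : ∀ n, (geomPt x).base default ∈ (V n : Set X) ∩ closure {x} := fun n => by
    rw [geomPt_base]; exact ⟨hV n, subset_closure rfl⟩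
  have hfin : ∀ n, Module.Finite Λ ((EtModW.stalk Λ (geomPt x)).obj (F.obj (op n))) :=
    fun n => (hS n).finite _ _ (hx n)
  haveI := hfin 0
  obtain ⟨N, hN⟩ := (isAdicMaps_stalkTr Λ I F hF (geomPt x)).exists_bound
  let W : X.Opens := (Finset.range (N + 1)).inf V
  have hW : ∀ y : X, y ∈ W → ∀ n ≤ N, y ∈ V n := fun y hy n hn =>
    (Finset.inf_le (Finset.mem_range.2 (Nat.lt_succ_of_le hn)) : W ≤ V n) hy
  have hxW : x ∈ W := by
    suffices ∀ s : Finset ℕ, x ∈ s.inf V from this _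
    intro s
    induction s using Finset.cons_induction with
    | empty => simp
    | cons a s _ ih => rw [Finset.inf_cons]; exact ⟨hV a, ih⟩
  have hiso : ∀ (Ω : Type u) [Field Ω] [IsSepClosed Ω] (ξ : Spec (CommRingCat.of Ω) ⟶ X)
      (φ : Scheme.pointSmallEtale (geomPt x) ⟶ Scheme.pointSmallEtale ξ),
      ξ.base default ∈ (W : Set X) ∩ closure {x} → ∀ n, IsIso
        ((GrothendieckTopology.Point.Hom.sheafFiber (A := ModuleCat.{u + 1} Λ) φ).app (F.obj (op n))) := by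
    intro Ω _ _ ξ φ hξ n
    rw [ConcreteCategory.isIso_iff_bijective]
    refine hN _ (stalkTr Λ F ξ) (isAdicMaps_stalkTr Λ I F hF ξ)
      (fun n => ((GrothendieckTopology.Point.Hom.sheafFiber (A := ModuleCat.{u + 1} Λ) φ).app
        (F.obj (op n))).hom) (fun n => specialization_comm Λ F φ n) (fun m hm => ?_) n
    haveI := (hS m).iso _ _ _ _ φ ⟨hW _ hξ.1 m hm, hξ.2⟩ (hx m)
    exact ConcreteCategory.bijective_of_isIso _
  have hψ : ∀ (Ω : Type u) [Field Ω] [IsSepClosed Ω] (ξ : Spec (CommRingCat.of Ω) ⟶ X),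
      ξ.base default ∈ (W : Set X) ∩ closure {x} →
      Nonempty (Scheme.pointSmallEtale (geomPt x) ⟶ Scheme.pointSmallEtale ξ) := fun Ω _ _ ξ hξ =>
    LC.exists_specialization ξ (geomPt x) (by rw [geomPt_base, specializes_iff_mem_closure]; exact hξ.2)
  refine ⟨W, hxW, fun n => ⟨fun Ω _ _ ξ hξ => ?_, fun Ω Ω' _ _ _ _ ξ ξ' φ hξ hξ' => ?_⟩⟩
  · obtain ⟨ψ⟩ := hψ Ω ξ hξ
    haveI := hiso Ω ξ ψ hξ n
    haveI := hfin n
    exact Module.Finite.equiv (asIso ((GrothendieckTopology.Point.Hom.sheafFiber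
      (A := ModuleCat.{u + 1} Λ) ψ).app (F.obj (op n)))).symm.toLinearEquiv
  · obtain ⟨ψ⟩ := hψ Ω' ξ' hξ'
    haveI := hiso Ω' ξ' ψ hξ' n
    have h := hiso Ω ξ (ψ ≫ φ) hξ n
    rw [GrothendieckTopology.Point.Hom.sheafFiber_comp, NatTrans.comp_app] at h
    exact IsIso.of_isIso_comp_right _
      ((GrothendieckTopology.Point.Hom.sheafFiber (A := ModuleCat.{u + 1} Λ) ψ).app (F.obj (op n)))

variable [IsNoetherian X]

include hF in
theorem exists_strata_adic (hc : ∀ n : ℕ, EtModW.IsConstructible Λ (F.obj (op n))) :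
    ∃ (m : ℕ) (T : Fin m → Scheme.{u}) (g : ∀ i, T i ⟶ X), (∀ i, IsImmersion (g i)) ∧
      Pairwise (fun i j => Disjoint (Set.range (g i)) (Set.range (g j))) ∧
      (⋃ i, Set.range (g i)) = Set.univ ∧
      ∀ (i : Fin m) (n : ℕ), EtModW.IsFTLocConst Λ ((EtModW.pull Λ (g i)).obj (F.obj (op n))) := by
  choose V hxV hS using exists_spec_adic Λ I F hF hc
  let Q : ∀ {T : Scheme.{u}}, (T ⟶ X) → Prop := fun g =>
    ∃ x, Set.range g ⊆ (V x : Set X) ∩ closure {x}
  have hQ : ∀ {T T' : Scheme.{u}} (p : T' ⟶ T) (g : T ⟶ X), Q g → Q (p ≫ g) := by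
    rintro T T' p g ⟨x, hx⟩
    refine ⟨x, ?_⟩
    rintro _ ⟨t, rfl⟩
    exact hx ⟨p t, (Scheme.Hom.comp_apply _ _ _).symm⟩
  choose Z z hz hr using fun x => exists_immersion_range (V x) (closure {x}) isClosed_closure
  haveI := hz
  have hcov : Covered Q (𝟙 X) := by
    refine covered_of_constructible_immersions hQ Z z
      (fun x => isConstructible_of_isLocallyClosed (Scheme.Hom.isLocallyClosed_range _)) ?_ fun x => ?_
    · exact Set.eq_univ_of_forall fun x => Set.mem_iUnion.2 ⟨x, by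
        rw [hr]; exact ⟨hxV x, subset_closure rfl⟩⟩
    · haveI : CompactSpace (Z x) := compactSpace_of_immersion (z x)
        (isConstructible_of_isLocallyClosed (Scheme.Hom.isLocallyClosed_range _))
      refine Covered.of_finite (ι := Unit) (fun _ => Z x) (fun _ => 𝟙 _) ?_ ?_ fun _ => ⟨x, ?_⟩
      · intro _
        simpa using Topology.IsConstructible.univ
      · simp [Set.iUnion_const]
      · rw [Category.id_comp, Category.comp_id, hr]
  obtain ⟨ι, _, T, g, hg, -, hd, hu, hq⟩ := hcov.exists_partition hQ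
  haveI := hg
  let e := Finite.equivFin ι
  refine ⟨Nat.card ι, fun k => T (e.symm k), fun k => g _, fun k => inferInstance,
    fun k l hkl => hd (e.symm.injective.ne hkl),
    (e.symm.surjective.iUnion_comp fun i => Set.range (g i)).trans hu, fun k n => ?_⟩
  obtain ⟨x, hx⟩ := hq (e.symm k)
  rw [Category.comp_id] at hx
  haveI : IsLocallyNoetherian (T (e.symm k)) :=
    LocallyOfFiniteType.isLocallyNoetherian (g (e.symm k))
  exact isFTLocConst_pull_of_spec Λ _ _ (hS x n) hx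

include hF in
theorem exists_dense_open_adic (hc : ∀ n : ℕ, EtModW.IsConstructible Λ (F.obj (op n))) :
    ∃ U : X.Opens, Dense (U : Set X) ∧
      ∀ n : ℕ, EtModW.IsFTLocConst Λ ((EtModW.pull Λ U.ι).obj (F.obj (op n))) := by
  choose V hxV hS using exists_spec_adic Λ I F hF hc
  choose η hη using fun C : irreducibleComponents X => QuasiSober.sober C.2.1
    (isClosed_of_mem_irreducibleComponents C.1 C.2)
  haveI : Finite (irreducibleComponents X) :=
    (TopologicalSpace.NoetherianSpace.finite_irreducibleComponents).to_subtype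
  let R : irreducibleComponents X → Set X := fun C => ⋃ D : {D // D ≠ C}, (D.1 : Set X)
  have hRc : ∀ C, IsClosed (R C) := fun C =>
    isClosed_iUnion_of_finite fun D => isClosed_of_mem_irreducibleComponents _ D.1.2
  let O : irreducibleComponents X → X.Opens := fun C => V (η C) ⊓ ⟨(R C)ᶜ, (hRc C).isOpen_compl⟩
  have hOC : ∀ C y, y ∈ O C → y ∈ (C : Set X) := fun C y hy => by
    by_contra h
    refine hy.2 (Set.mem_iUnion.2 ⟨⟨⟨irreducibleComponent y,
      irreducibleComponent_mem_irreducibleComponents y⟩, fun e => h ?_⟩, mem_irreducibleComponent⟩)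
    rw [← e]; exact mem_irreducibleComponent
  have hηO : ∀ C, η C ∈ O C := fun C => by
    refine ⟨hxV _, fun h => ?_⟩
    obtain ⟨⟨D, hD⟩, hηD⟩ := Set.mem_iUnion.1 h
    refine hD (Subtype.ext ?_)
    have hsub : (C : Set X) ⊆ D := by
      rw [← (hη C).def]
      exact (isClosed_of_mem_irreducibleComponents _ D.2).closure_subset_iff.2
        (Set.singleton_subset_iff.2 hηD)
    exact (C.2.2 D.2.1 hsub).antisymm hsub
  refine ⟨⨆ C, O C, ?_, fun n => ?_⟩
  · intro y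
    let C : irreducibleComponents X := ⟨_, irreducibleComponent_mem_irreducibleComponents y⟩
    refine closure_mono (Set.singleton_subset_iff.2 ?_) ((hη C).specializes mem_irreducibleComponent).mem_closure
    exact TopologicalSpace.Opens.mem_iSup.2 ⟨C, hηO C⟩
  · have hsp : IsLisseOn Λ (F.obj (op n)) ((⨆ C, O C : X.Opens) : Set X) := by
      have hmem : ∀ y : X, y ∈ (⨆ C, O C : X.Opens) →
          ∃ C, y ∈ O C ∧ y ∈ (V (η C) : Set X) ∩ closure {η C} := fun y hy => by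
        obtain ⟨C, hC⟩ := TopologicalSpace.Opens.mem_iSup.1 hy
        exact ⟨C, hC, hC.1, by rw [(hη C).def]; exact hOC C y hC⟩
      refine ⟨fun Ω _ _ ξ hξ => ?_, fun Ω Ω' _ _ _ _ ξ ξ' φ hξ hξ' => ?_⟩
      · obtain ⟨C, -, hC⟩ := hmem _ hξ
        exact (hS _ n).finite Ω ξ hC
      · obtain ⟨C, hCO, hC⟩ := hmem _ hξ
        have hs : ξ'.base default ⤳ ξ.base default := by
          obtain ⟨e, -⟩ := exists_fiber_over (U := EtCoh.top X) (ξ.base default) ξ rfl
          have := (LC.specializes_of_hom φ e).map (EtCoh.top X).hom.continuous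
          rwa [LC.ptOf_base, LC.ptOf_base] at this
        have h' := hs.mem_open (O C).2 hCO
        exact (hS _ n).iso Ω Ω' ξ ξ' φ hC ⟨h'.1, by rw [(hη C).def]; exact hOC C _ h'⟩
    haveI : IsLocallyNoetherian (⨆ C, O C : X.Opens).toScheme :=
      isLocallyNoetherian_of_isOpenImmersion (⨆ C, O C : X.Opens).ι
    exact isFTLocConst_pull_of_spec Λ _ _ hsp (by rw [Scheme.Opens.range_ι])

end Adic

end Groth.Agent.H18Et.Cons
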