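import Groth.Agent.H18Et.Cons.ModAdic
import Groth.Agent.H18Et.Cons.Apply
import Groth.Agent.H25Constr.ModPullExact
import Groth.Prelude.Def_SixF1

/-!
# Constructible sheaves of modules: locality, inverse images, specialisation criterion, Serre property
-/

set_option backward.isDefEq.respectTransparency false
set_option backward.isDefEq.respectTransparency.types false

universe u

open CategoryTheory CategoryTheory.Limits AlgebraicGeometry Opposite Topology

namespace Groth.Agent.H18Et.Cons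

open scoped Groth.Agent.H18Et

variable (Λ : Type (u + 1)) [CommRing Λ] {X Y : Scheme.{u}}

/-- The sheaf of modules becomes locally constant of finite type along the morphism. -/
def FTLC (F : EtModW.Mod Λ X) {T : Scheme.{u}} (g : T ⟶ X) : Prop :=
  EtModW.IsFTLocConst Λ ((EtModW.pull Λ g).obj F)

theorem ftlc_precomp (F : EtModW.Mod Λ X) {T T' : Scheme.{u}} (p : T' ⟶ T) (g : T ⟶ X)
    (h : FTLC Λ F g) : FTLC Λ F (p ≫ g) :=
  LC.isFTLocConst_of_iso Λ ((EtSix.pullModComp Λ p g).app F).symm (LC.isFTLocConst_pull Λ p h)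

theorem ftlc_pull (f : X ⟶ Y) (F : EtModW.Mod Λ Y) {T : Scheme.{u}} (g : T ⟶ X) :
    FTLC Λ ((EtModW.pull Λ f).obj F) g ↔ FTLC Λ F (g ≫ f) :=
  ⟨LC.isFTLocConst_of_iso Λ ((EtSix.pullModComp Λ g f).app F).symm,
    LC.isFTLocConst_of_iso Λ ((EtSix.pullModComp Λ g f).app F)⟩

theorem isConstructible_mod_iff (F : EtModW.Mod Λ X) :
    EtModW.IsConstructible Λ F ↔ LocAdapted (FTLC Λ F) :=
  forall₂_congr fun _ _ => Iff.rfl

theorem covered_pull_mod_iff (f : X ⟶ Y) (F : EtModW.Mod Λ Y) {W : Scheme.{u}} (g : W ⟶ X) :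
    Covered (FTLC Λ ((EtModW.pull Λ f).obj F)) g ↔ Covered (FTLC Λ F) (g ≫ f) := by
  simp only [Covered, ftlc_pull, Category.assoc]

theorem isConstructible_pull_mod (f : X ⟶ Y) (F : EtModW.Mod Λ Y) (hF : EtModW.IsConstructible Λ F) :
    EtModW.IsConstructible Λ ((EtModW.pull Λ f).obj F) := by
  rw [isConstructible_mod_iff] at hF ⊢
  refine locAdapted_of_covered (ftlc_precomp Λ _) fun U hU => ?_
  haveI : IsAffine U.toScheme := hU
  exact (covered_pull_mod_iff Λ f F U.ι).2 (hF.covered (ftlc_precomp Λ _) _)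

theorem isConstructible_mod_of_openCover (F : EtModW.Mod Λ X) {ι : Type*} (U : ι → X.Opens)
    (hU : ⨆ i, U i = ⊤) (h : ∀ i, EtModW.IsConstructible Λ ((EtModW.pull Λ (U i).ι).obj F)) :
    EtModW.IsConstructible Λ F := by
  rw [isConstructible_mod_iff]
  refine locAdapted_of_opens (ftlc_precomp Λ _) U hU fun i W _ _ f => ?_
  exact (covered_pull_mod_iff Λ (U i).ι F f).1
    (((isConstructible_mod_iff Λ _).1 (h i)).covered (ftlc_precomp Λ _) f)

theorem isConstructible_mod_of_strata [CompactSpace X] [QuasiSeparatedSpace X] (F : EtModW.Mod Λ X)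
    {ι : Type u} (T : ι → Scheme.{u}) (g : ∀ i, T i ⟶ X) [∀ i, IsImmersion (g i)]
    (hc : ∀ i, IsConstructible (Set.range (g i))) (hcov : (⋃ i, Set.range (g i)) = Set.univ)
    (h : ∀ i, EtModW.IsConstructible Λ ((EtModW.pull Λ (g i)).obj F)) : EtModW.IsConstructible Λ F := by
  rw [isConstructible_mod_iff]
  have hid : Covered (FTLC Λ F) (𝟙 X) := by
    refine covered_of_constructible_immersions (ftlc_precomp Λ _) T g hc hcov fun i => ?_
    haveI := compactSpace_of_immersion (g i) (hc i)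
    haveI := quasiSeparatedSpace_of_immersion (g i)
    have := ((isConstructible_mod_iff Λ _).1 (h i)).covered (ftlc_precomp Λ _) (𝟙 (T i))
    rw [covered_pull_mod_iff, Category.id_comp] at this
    rwa [Category.comp_id]
  refine locAdapted_of_covered (ftlc_precomp Λ _) fun U hU => ?_
  haveI : IsAffine U.toScheme := hU
  rw [← Category.comp_id U.ι]
  exact hid.precomp (ftlc_precomp Λ _) _

theorem isConstructible_mod_of_ftLocConst {F : EtModW.Mod Λ X} (h : EtModW.IsFTLocConst Λ F) :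
    EtModW.IsConstructible Λ F := by
  rw [isConstructible_mod_iff]
  refine locAdapted_of_covered (ftlc_precomp Λ _) fun U _ => ?_
  refine Covered.of_finite (ι := Unit) (fun _ => U.toScheme) (fun _ => 𝟙 _) ?_ ?_ fun _ => ?_
  · intro _
    simpa using Topology.IsConstructible.univ
  · simp [Set.iUnion_const]
  · rw [Category.id_comp]
    exact LC.isFTLocConst_pull Λ U.ι h

variable [IsNoetherianRing Λ]

/-- On a locally Noetherian scheme constructibility means: near every point, lisse along its closure. -/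
theorem isConstructible_mod_iff_lisse [IsLocallyNoetherian X] (F : EtModW.Mod Λ X) :
    EtModW.IsConstructible Λ F ↔
      ∀ x : X, ∃ V : X.Opens, x ∈ V ∧ IsLisseOn Λ F ((V : Set X) ∩ closure {x}) := by
  refine ⟨fun h x => exists_spec_of_isConstructible Λ F h x, fun h => ?_⟩
  choose V hxV hS using h
  rw [isConstructible_mod_iff]
  refine locAdapted_of_covered (ftlc_precomp Λ _) fun O hO => ?_
  haveI : IsAffine O.toScheme := hO
  haveI : IsLocallyNoetherian O.toScheme := isLocallyNoetherian_of_isOpenImmersion O.ι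
  haveI : IsNoetherian O.toScheme := {}
  choose T g hg hr using fun y : O.toScheme => exists_immersion_range (V (O.ι y)) (closure {O.ι y}) isClosed_closure
  haveI := hg
  refine covered_of_constructible_immersions (ftlc_precomp Λ _) (fun y => pullback O.ι (g y))
    (fun y => pullback.fst O.ι (g y)) (fun y => ?_) ?_ fun y => ?_
  · exact isConstructible_of_isLocallyClosed (Scheme.Hom.isLocallyClosed_range _)
  · refine Set.eq_univ_of_forall fun y => Set.mem_iUnion.2 ⟨y, ?_⟩
    rw [Scheme.Pullback.range_fst, Set.mem_preimage, hr]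
    exact ⟨hxV _, subset_closure rfl⟩
  · haveI : CompactSpace ↥(pullback O.ι (g y)) :=
      compactSpace_of_immersion (pullback.fst O.ι (g y))
        (isConstructible_of_isLocallyClosed (Scheme.Hom.isLocallyClosed_range _))
    refine Covered.of_finite (ι := Unit) (fun _ => pullback O.ι (g y)) (fun _ => 𝟙 _) ?_ ?_ ?_
    · intro _
      simpa using Topology.IsConstructible.univ
    · simp [Set.iUnion_const]
    · intro _
      rw [Category.id_comp, pullback.condition]
      haveI : IsLocallyNoetherian (T y) := LocallyOfFiniteType.isLocallyNoetherian (g y)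
      exact ftlc_precomp Λ _ _ _ (isFTLocConst_pull_of_spec Λ _ _ (hS _) (hr y).le)

theorem IsLisseOn.kernel_cokernel {F G : EtModW.Mod Λ X} {S : Set X} (φ : F ⟶ G)
    (hF : IsLisseOn Λ F S) (hG : IsLisseOn Λ G S) :
    IsLisseOn Λ (kernel φ) S ∧ IsLisseOn Λ (cokernel φ) S := by
  have hlim : ∀ (Ω : Type u) [Field Ω] [IsSepClosed Ω] (ξ : Spec (CommRingCat.of Ω) ⟶ X),
      PreservesFiniteLimits (EtModW.stalk Λ ξ) := fun Ω _ _ ξ => H25Constr.stalkMod_preservesFiniteLimits Λ ξ
  have hcolim : ∀ (Ω : Type u) [Field Ω] [IsSepClosed Ω] (ξ : Spec (CommRingCat.of Ω) ⟶ X),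
      PreservesFiniteColimits (EtModW.stalk Λ ξ) := fun Ω _ _ ξ => by
    haveI := ((Scheme.pointSmallEtale ξ).skyscraperSheafAdjunction
      (A := ModuleCat.{u + 1} Λ)).leftAdjoint_preservesColimits
    exact PreservesColimitsOfSize.preservesFiniteColimits.{0, 0} _
  have hz : ∀ (Ω : Type u) [Field Ω] [IsSepClosed Ω] (ξ : Spec (CommRingCat.of Ω) ⟶ X),
      (EtModW.stalk Λ ξ).PreservesZeroMorphisms := fun Ω _ _ ξ => LC.sheafFiber_preservesZero _
  refine ⟨⟨fun Ω _ _ ξ hξ => ?_, fun Ω Ω' _ _ _ _ ξ ξ' σ hξ hξ' => ?_⟩,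
    ⟨fun Ω _ _ ξ hξ => ?_, fun Ω Ω' _ _ _ _ ξ ξ' σ hξ hξ' => ?_⟩⟩
  · haveI := hlim Ω ξ
    haveI := hF.finite Ω ξ hξ
    haveI := isNoetherian_of_isNoetherianRing_of_finite Λ ((EtModW.stalk Λ ξ).obj F)
    exact Module.Finite.of_injective ((EtModW.stalk Λ ξ).map (kernel.ι φ)).hom
      ((ModuleCat.mono_iff_injective _).1 inferInstance)
  · haveI := hlim Ω ξ
    haveI := hlim Ω' ξ'
    haveI := hz Ω ξ
    haveI := hz Ω' ξ'
    let s := GrothendieckTopology.Point.Hom.sheafFiber (A := ModuleCat.{u + 1} Λ) σ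
    haveI := hF.iso Ω Ω' ξ ξ' σ hξ hξ'
    haveI := hG.iso Ω Ω' ξ ξ' σ hξ hξ'
    let m := kernel.map ((EtModW.stalk Λ ξ).map φ) ((EtModW.stalk Λ ξ').map φ) (s.app F) (s.app G)
      (s.naturality φ)
    haveI : IsIso m := (kernel.mapIso _ _ (asIso (s.app F)) (asIso (s.app G)) (s.naturality φ)).isIso_hom
    have e : s.app (kernel φ) ≫ (PreservesKernel.iso (EtModW.stalk Λ ξ') φ).hom =
        (PreservesKernel.iso (EtModW.stalk Λ ξ) φ).hom ≫ m := by
      refine (cancel_mono (kernel.ι _)).1 ?_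
      simp only [m, Category.assoc, PreservesKernel.iso_hom, kernelComparison_comp_ι, kernel.lift_ι,
        kernelComparison_comp_ι_assoc]
      exact (s.naturality (kernel.ι φ)).symm
    haveI : IsIso (s.app (kernel φ) ≫ (PreservesKernel.iso (EtModW.stalk Λ ξ') φ).hom) := by
      rw [e]; infer_instance
    exact IsIso.of_isIso_comp_right _ (PreservesKernel.iso (EtModW.stalk Λ ξ') φ).hom
  · haveI := hcolim Ω ξ
    haveI := hG.finite Ω ξ hξ
    exact Module.Finite.of_surjective ((EtModW.stalk Λ ξ).map (cokernel.π φ)).hom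
      ((ModuleCat.epi_iff_surjective _).1 inferInstance)
  · haveI := hcolim Ω ξ
    haveI := hcolim Ω' ξ'
    haveI := hz Ω ξ
    haveI := hz Ω' ξ'
    let s := GrothendieckTopology.Point.Hom.sheafFiber (A := ModuleCat.{u + 1} Λ) σ
    haveI := hF.iso Ω Ω' ξ ξ' σ hξ hξ'
    haveI := hG.iso Ω Ω' ξ ξ' σ hξ hξ'
    let m := cokernel.map ((EtModW.stalk Λ ξ).map φ) ((EtModW.stalk Λ ξ').map φ) (s.app F) (s.app G)
      (s.naturality φ)
    haveI : IsIso m := (cokernel.mapIso _ _ (asIso (s.app F)) (asIso (s.app G)) (s.naturality φ)).isIso_hom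
    have e : (PreservesCokernel.iso (EtModW.stalk Λ ξ) φ).inv ≫ s.app (cokernel φ) =
        m ≫ (PreservesCokernel.iso (EtModW.stalk Λ ξ') φ).inv := by
      refine (cancel_epi (cokernel.π _)).1 ?_
      simp only [m, PreservesCokernel.iso_inv, π_comp_cokernelComparison_assoc, cokernel.π_desc_assoc,
        Category.assoc, π_comp_cokernelComparison]
      exact s.naturality (cokernel.π φ)
    haveI : IsIso ((PreservesCokernel.iso (EtModW.stalk Λ ξ) φ).inv ≫ s.app (cokernel φ)) := by
      rw [e]; infer_instance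
    exact IsIso.of_isIso_comp_left (PreservesCokernel.iso (EtModW.stalk Λ ξ) φ).inv _

theorem isConstructible_mod_kernel_cokernel [IsLocallyNoetherian X] {F G : EtModW.Mod Λ X} (φ : F ⟶ G)
    (hF : EtModW.IsConstructible Λ F) (hG : EtModW.IsConstructible Λ G) :
    EtModW.IsConstructible Λ (kernel φ) ∧ EtModW.IsConstructible Λ (cokernel φ) := by
  rw [isConstructible_mod_iff_lisse] at hF hG ⊢
  rw [isConstructible_mod_iff_lisse]
  have key : ∀ x : X, ∃ V : X.Opens, x ∈ V ∧
      IsLisseOn Λ (kernel φ) ((V : Set X) ∩ closure {x}) ∧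
      IsLisseOn Λ (cokernel φ) ((V : Set X) ∩ closure {x}) := fun x => by
    obtain ⟨V, hV, h⟩ := hF x
    obtain ⟨W, hW, h'⟩ := hG x
    exact ⟨V ⊓ W, ⟨hV, hW⟩, IsLisseOn.kernel_cokernel Λ φ
      (h.mono Λ fun y hy => ⟨hy.1.1, hy.2⟩) (h'.mono Λ fun y hy => ⟨hy.1.2, hy.2⟩)⟩
  exact ⟨fun x => (key x).imp fun V h => ⟨h.1, h.2.1⟩, fun x => (key x).imp fun V h => ⟨h.1, h.2.2⟩⟩

end Groth.Agent.H18Et.Cons
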