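import Groth.Agent.H18Et.Cons.IsoSet
import Groth.Agent.H18Et.Cons.Serre
import Groth.Agent.H18Et.LC.PushFinEt
import Groth.Agent.H18Et.BaseChange

/-!
# Direct images of constructible sheaves along finite etale morphisms
-/

set_option backward.isDefEq.respectTransparency false
set_option backward.isDefEq.respectTransparency.types false

universe u

open CategoryTheory CategoryTheory.Limits AlgebraicGeometry Opposite Topology

namespace Groth.Agent.H18Et.Cons

open scoped Groth.Agent.H18Et

variable {X Y : Scheme.{u}}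

theorem flc_congr (F : EtCoh.Ab X) {T : Scheme.{u}} {g g' : T ⟶ X} (e : g = g') (h : FLC F g) :
    FLC F g' := e ▸ h

theorem isConstructible_of_iso {F G : EtCoh.Ab X} (e : F ≅ G) (h : EtPBC.IsConstructible F) :
    EtPBC.IsConstructible G :=
  (isConstructible_iff G).2 (locAdapted_of_covered (flc_precomp _) fun U hU =>
    (covered_affine h U hU).imp fun g hg =>
      LC.isFiniteLocallyConstant_of_iso ((EtCoh.pull g).mapIso e) hg)

theorem Covered.forall_fin : ∀ {n : ℕ} (Q : Fin n → ∀ {T : Scheme.{u}}, (T ⟶ X) → Prop)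
    (_ : ∀ i {T T' : Scheme.{u}} (p : T' ⟶ T) (g : T ⟶ X), Q i g → Q i (p ≫ g))
    {W : Scheme.{u}} {f : W ⟶ X} (_ : ∀ i, Covered (Q i) f),
    Covered (fun {T} (g : T ⟶ X) => ∀ i, Q i g) f
  | 0, _, _, W, f, _ => ⟨1, fun _ => W, fun _ => 𝟙 W, fun _ => inferInstance,
      fun _ => by simpa using IsConstructible.univ, by simp [Set.iUnion_const], fun _ i => i.elim0⟩
  | n + 1, Q, hQ, W, f, h => by
      have ih := Covered.forall_fin (fun i : Fin n => Q i.succ) (fun i => hQ i.succ) fun i => h i.succ
      refine ((h 0).and (hQ 0) (fun p g hg i => hQ _ p g (hg i)) ih).imp fun g hg i => ?_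
      exact Fin.cases hg.1 hg.2 i

variable (f : X ⟶ Y) [IsFinite f] [Etale f] (F : EtCoh.Ab X)

/-- The piece statement: if `F` is finite locally constant along all the sections over `k`, then
its direct image is finite locally constant along `k`. -/
theorem flc_push {V : Y.Etale} {n : ℕ} (c : Fin n → (V ⟶ Scheme.Etale.mk f))
    (hc : ∀ (Ω : Type u) [Field Ω] [IsSepClosed Ω] (ξ : Spec (CommRingCat.of Ω) ⟶ Y)
      (x : (Scheme.pointSmallEtale ξ).fiber.obj V),
      Function.Bijective fun m => (Scheme.pointSmallEtale ξ).fiber.map (c m) x)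
    {T : Scheme.{u}} (k : T ⟶ V.left) (h : ∀ i, FLC F (k ≫ (c i).left)) :
    FLC ((EtCoh.push f).obj F) (k ≫ V.hom) := by
  let f' : pullback f (k ≫ V.hom) ⟶ T := pullback.snd _ _
  let g' : pullback f (k ≫ V.hom) ⟶ X := pullback.fst _ _
  haveI : IsFinite f' := MorphismProperty.pullback_snd _ _ inferInstance
  haveI : Etale f' := MorphismProperty.pullback_snd _ _ inferInstance
  have hw : ∀ i, (k ≫ (c i).left) ≫ f = 𝟙 T ≫ k ≫ V.hom := fun i =>
    (Category.assoc _ _ _).trans
      ((congrArg (k ≫ ·) (Over.w (c i).hom)).trans (Category.id_comp _).symm)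
  let σ : Fin n → (T ⟶ pullback f (k ≫ V.hom)) := fun i => pullback.lift (k ≫ (c i).left) (𝟙 T) (hw i)
  have hσ : ∀ i, σ i ≫ f' = 𝟙 T := fun i => pullback.lift_snd _ _ _
  haveI : ∀ i, Etale (σ i) := fun i => by
    haveI : Etale (σ i ≫ f') := by rw [hσ]; exact MorphismProperty.id_mem _ _
    exact Etale.of_comp (σ i) f'
  have hG : EtCoh.IsFiniteLocallyConstant ((EtCoh.pull g').obj F) := by
    refine LC.isFiniteLocallyConstant_of_etale_cover _ (fun _ : Fin n => T) σ (fun x => ?_) fun i => ?_
    · let a := geomPt x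
      let ξ : Spec (CommRingCat.of _) ⟶ Y := (a ≫ f' ≫ k) ≫ V.hom
      obtain ⟨i, hi⟩ := (hc _ ξ (Over.homMk (a ≫ f' ≫ k) rfl)).2 (Over.homMk (a ≫ g')
        ((Category.assoc _ _ _).trans ((congrArg (a ≫ ·) pullback.condition).trans
          ((congrArg (a ≫ ·) (Category.assoc f' k V.hom).symm).trans (Category.assoc a (f' ≫ k) V.hom).symm))))
      have hi' : (a ≫ f' ≫ k) ≫ (c i).left = a ≫ g' := congrArg (fun q => q.left) hi
      have ha : (a ≫ f') ≫ σ i = a := by
        refine pullback.hom_ext ?_ ?_
        · refine (Category.assoc _ _ _).trans ((congrArg ((a ≫ f') ≫ ·) (pullback.lift_fst _ _ _)).trans ?_)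
          rw [← Category.assoc, Category.assoc a f' k]
          exact hi'
        · refine (Category.assoc _ _ _).trans ((congrArg ((a ≫ f') ≫ ·) (pullback.lift_snd _ _ _)).trans ?_)
          exact Category.comp_id _
      refine ⟨i, f' x, ?_⟩
      have := congrArg (fun q => q.base default) ha
      simp only [Scheme.Hom.comp_apply] at this
      rw [show a.base default = x from geomPt_base x] at this
      exact this
    · exact (flc_pull g' F (σ i)).2 (flc_congr F (pullback.lift_fst _ _ _).symm (h i))
  haveI := isIso_baseChange0_of_isIntegralHom f (k ≫ V.hom) f' g' (IsPullback.of_hasPullback _ _) F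
  exact LC.isFiniteLocallyConstant_of_iso
    (asIso (EtCoh.baseChange0 f (k ≫ V.hom) f' g' (IsPullback.of_hasPullback _ _).w F)).symm
    (LC.isFiniteLocallyConstant_push f' _ hG)

theorem isConstructible_push (hF : EtPBC.IsConstructible F) :
    EtPBC.IsConstructible ((EtCoh.push f).obj F) := by
  choose V n c hy hc using fun y => Groth.Agent.H25Constr.exists_sections X f y
  haveI : ∀ y, Etale (V y).hom := fun y => (V y).prop
  let U : Y → Y.Opens := fun y => ⟨Set.range (V y).hom, (V y).hom.isOpenMap.isOpen_range⟩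
  refine isConstructible_of_openCover _ U
    (top_unique fun y _ => TopologicalSpace.Opens.mem_iSup.2 ⟨y, hy y⟩) fun y => ?_
  let a : (V y).left ⟶ (U y).toScheme := IsOpenImmersion.lift (U y).ι (V y).hom
    (by rw [Scheme.Opens.range_ι]; exact subset_rfl)
  have ha : a ≫ (U y).ι = (V y).hom := IsOpenImmersion.lift_fac _ _ _
  haveI : Etale (a ≫ (U y).ι) := ha.symm ▸ (V y).prop
  haveI : Etale a := Etale.of_comp a (U y).ι
  haveI : Surjective a := ⟨fun u => by
    obtain ⟨v, hv⟩ := u.2
    exact ⟨v, (U y).ι.isOpenEmbedding.injective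
      (((Scheme.Hom.comp_apply _ _ _).symm.trans (congrArg (fun q => q.base v) ha)).trans hv)⟩⟩
  refine isConstructible_of_pull a _ ?_
  refine isConstructible_of_iso ((EtCore.pullComp a (U y).ι).app ((EtCoh.push f).obj F)) ?_
  rw [isConstructible_iff]
  refine locAdapted_of_covered (flc_precomp _) fun A hA => ?_
  haveI : IsAffine A.toScheme := hA
  have hcov := Covered.forall_fin (fun i => @FLC _ ((EtCoh.pull (c y i).left).obj F))
    (fun i {T T'} p g => flc_precomp _ p g) fun i =>
      covered_affine (isConstructible_pull (c y i).left F hF) A hA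
  refine hcov.imp fun g hg => ?_
  rw [flc_pull]
  exact flc_congr _ (congrArg (g ≫ ·) ha.symm)
    (flc_push f F (c y) (hc y) g fun i => (flc_pull _ F g).1 (hg i))

end Groth.Agent.H18Et.Cons
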